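import Cfsg.Agent.Lib.Recog.OrderM23.Lists

/-!
# Simple groups of order 10200960: the listed rows are all the rows
-/

set_option autoImplicit false
set_option maxRecDepth 100000

namespace CfsgLib.Recog.OrderM23

theorem cover_eleven : ((rowsFast 11 5 1 allowEleven).all (covers listEleven)) = true := by
  decide +kernel

theorem cover_five : ((smallConfigs 5).all fun a =>
    (rowsFast 5 a.1 a.2 allowed).all (covers listFive)) = true := by
  decide +kernel

theorem degs_eleven : (listEleven.all fun A => (degKeys A).all degsEleven.contains) = true := by
  decide +kernel

end CfsgLib.Recog.OrderM23
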