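import Cfsg.Agent.Lib.Recog.OrderM23.Sieve
import Cfsg.Agent.Lib.Recog.OrderM22.Pairs
import Cfsg.Agent.Lib.Recog.OrderM22.RowDfs
import Cfsg.Agent.Lib.Recog.OrderM12.Values

/-!
# Simple groups of order 10200960: the rows of a principal block feed the search
-/

set_option autoImplicit false
set_option synthInstance.maxSize 2000
set_option linter.unusedSectionVars false

namespace CfsgLib.Recog.OrderM23

open Cfsg CfsgLib CfsgLib.Block CfsgLib.ClassK CfsgLib.ClassK.RowSieve CfsgLib.ClassK.RowInvolution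
open CfsgLib.Recog.OrderM22 (block_pairs dvd_value_sub)
open CfsgLib.Recog.OrderM12 (admissible dvd_index_mul sum_sq_le dvd_sub_of_commute)
open scoped ComplexConjugate Classical

universe u

variable {G : Type u} [Group G] [Finite G]

/-- Classical equality of characters. -/
noncomputable local instance (priority := high) decEqIrr : DecidableEq (IrrCharacter G) :=
  Classical.decEq _

theorem not_comm [IsSimpleGroup G] (h : Nat.card G = 10200960) : ¬ IsMulCommutative G :=
  fun hc => by
    let : CommGroup G := { (inferInstance : Group G) with mul_comm := hc.is_comm.comm }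
    have := IsSimpleGroup.prime_card (α := G)
    rw [h] at this
    norm_num at this

/-- The trivial character. -/
noncomputable def oneChar : IrrCharacter G := ⟨fun _ => 1, Char.isIrrCharacter_one⟩

@[simp] theorem oneChar_apply (g : G) : ((oneChar : IrrCharacter G) : G → ℂ) g = 1 := rfl

theorem charDegree_oneChar : charDegree ((oneChar : IrrCharacter G) : G → ℂ) = 1 := by
  have h := BlockB.irr_degree_cast (oneChar : IrrCharacter G)
  rw [oneChar_apply] at h
  exact_mod_cast h

/-- The degree of a character. -/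
noncomputable abbrev dg (φ : IrrCharacter G) : ℕ := charDegree (φ : G → ℂ)

theorem deg_oneChar : dg (oneChar : IrrCharacter G) = 1 := charDegree_oneChar

/-- Degree and sign. -/
noncomputable def sKey (ε : IrrCharacter G → ℤ) (φ : IrrCharacter G) : ℕ × Bool :=
  (dg φ, decide (ε φ = 1))

/-- Degree and value. -/
noncomputable def vKey (q : IrrCharacter G → ℤ) (φ : IrrCharacter G) : ℕ × ℤ := (dg φ, q φ)

/-- A principal block with its degree row. -/
structure Setup (p : ℕ) [Fact p.Prime] (B : Blk) (M : Ideal AlgInt) (P : Sylow p G)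
    (CF YF : Finset (IrrCharacter G)) (ε : IrrCharacter G → ℤ) : Prop where
  simple : IsSimpleGroup G
  card : Nat.card G = 10200960
  prime_eq : B.p = p
  odd : p ≠ 2
  card_P : Nat.card P = p
  card_C : Nat.card (Subgroup.centralizer ((P : Subgroup G) : Set G)) = p * B.w
  not_dvd_w : ¬ p ∣ B.w
  modular : IsPModular p M
  rows : Rows M P B.e B.t B.d B.σ CF YF ε
  map : (CF.erase oneChar).val.map (sKey ε) = ↑B.l

theorem exists_values [IsSimpleGroup G] (h : Nat.card G = 10200960) {g : G} (hg : orderOf g = 2) :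
    ∃ q : IrrCharacter G → ℤ, q oneChar = 1 ∧ ∀ φ : IrrCharacter G, (φ : G → ℂ) g = q φ ∧
      (φ ≠ oneChar → q φ ∈ qRange (dg φ) ∧
        admissible 10200960 (Nat.card (Subgroup.centralizer ({g} : Set G))) (dg φ) (q φ) = true) := by
  have hG := not_comm h
  have hperf := CfsgLib.Transfer.commutator_eq_top_of_simple hG
  have hk1 : g ≠ 1 := fun e => by rw [e, orderOf_one] at hg; norm_num at hg
  have hcen : g ∉ Subgroup.center G := fun hmem => by
    rcases IsSimpleGroup.eq_bot_or_eq_top_of_normal (Subgroup.center G) inferInstance with h' | h'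
    · rw [h', Subgroup.mem_bot] at hmem; exact hk1 hmem
    · exact hG ⟨⟨fun a b => Subgroup.mem_center_iff.1 (h'.ge (Subgroup.mem_top b)) a⟩⟩
  have : Fintype (IrrCharacter G) := Fintype.ofFinite _
  have hq : ∀ φ : IrrCharacter G, ∃ a : ℤ, (φ : G → ℂ) g = a ∧ (φ = oneChar → a = 1) ∧
      (φ ≠ oneChar → a ∈ qRange (dg φ) ∧
        admissible 10200960 (Nat.card (Subgroup.centralizer ({g} : Set G))) (dg φ) a = true) := fun φ => by
    by_cases h1 : φ = oneChar
    · exact ⟨1, by simp [h1], fun _ => rfl, fun h' => absurd h1 h'⟩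
    obtain ⟨a, ha, hval⟩ := exists_mem_qRange hperf φ hg
      (fun z hz => CfsgLib.Transfer.irr_apply_ne_apply_one φ (fun h' => h1 (Subtype.ext h')) hz) hcen
    refine ⟨a, hval, fun h' => absurd h' h1, fun _ => ⟨ha, ?_⟩⟩
    rw [admissible, Bool.and_eq_true, decide_eq_true_eq, decide_eq_true_eq]
    refine ⟨?_, Int.emod_eq_zero_of_dvd ?_⟩
    · simpa [-Nat.card_eq_fintype_card] using sum_sq_le g {φ} (fun _ => a) fun ψ hψ => by
        rw [Finset.mem_singleton.1 hψ]; exact hval
    · have hi : (Subgroup.centralizer ({g} : Set G)).index =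
          10200960 / Nat.card (Subgroup.centralizer ({g} : Set G)) := by
        rw [← h, ← (Subgroup.centralizer ({g} : Set G)).index_mul_card,
          Nat.mul_div_cancel _ Nat.card_pos]
      rw [← hi]
      exact dvd_index_mul φ hval
  choose q hq hq1 hq2 using hq
  exact ⟨q, hq1 oneChar rfl, fun φ => ⟨hq φ, hq2 φ⟩⟩

theorem rows_normal {p : ℕ} [Fact p.Prime] {M : Ideal AlgInt} {P : Sylow p G} {e t d₀ : ℕ} {σ : ℤ}
    {CF YF : Finset (IrrCharacter G)} {ε : IrrCharacter G → ℤ}
    (D : Rows M P e t d₀ σ CF YF ε) (ht : t = 1) : Rows M P e t 0 1 CF YF ε := by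
  have hY : YF = ∅ := Finset.card_eq_zero.1 (by rw [D.card_YF, if_pos ht])
  exact ⟨D.hte, D.e_two, D.e_eq, D.one_mem, D.eps_one, D.eps_pm, D.mem, D.disj, D.card_CF, D.card_YF,
    Or.inl rfl, D.CF_mod, D.CF_val, fun η hη => by simp [hY] at hη, fun h => absurd ht h,
    fun h => absurd ht h, by rw [if_pos ht]; simpa [ht] using D.deg_eq, D.relation_one,
    fun h => absurd ht h⟩

/-- The configuration and the degree row of the principal block. -/
theorem exists_setup [IsSimpleGroup G] (h : Nat.card G = 10200960) {p : ℕ} [hpf : Fact p.Prime]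
    (hp2 : p ≠ 2) (h1 : p ∣ 10200960) (h2 : ¬ p ^ 2 ∣ 10200960) (P : Sylow p G) (allow : ℕ → Bool)
    (hallow : ∀ M : Ideal AlgInt, IsPModular p M → ∀ φ : IrrCharacter G,
      φ ∈ principalBlock M G → φ ≠ oneChar → allow (dg φ) = true) :
    ∃ (B : Blk) (M : Ideal AlgInt) (CF YF : Finset (IrrCharacter G)) (ε : IrrCharacter G → ℤ),
      Setup p B M P CF YF ε ∧ (B.e, B.w) ∈ configs p ∧ B ∈ rowsOf p B.e B.w allow := by
  have := Fintype.ofFinite G
  have : Fintype (IrrCharacter G) := Fintype.ofFinite _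
  have hp : p.Prime := hpf.out
  have hG := not_comm h
  have hperf := CfsgLib.Transfer.commutator_eq_top_of_simple hG
  have hP : Nat.card P = p :=
    CfsgLib.Transfer.card_sylow_eq_prime P (by rw [h]; exact h1) (by rw [h]; exact h2)
  obtain ⟨M, hM⟩ := BlockB.exists_isPModular (p := p) hp
  have := isPrime_of_pmodular hM
  obtain ⟨e, t, d₀, σ, CF, YF, ε, D⟩ := exists_rows hperf hM P hP
  have he2 := D.e_two
  have hte := D.hte
  set np := Nat.card (Sylow p G) with hnp
  set C := Subgroup.centralizer ((P : Subgroup G) : Set G) with hC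
  have hcfg : np * (e * Nat.card C) = 10200960 := by rw [← D.e_eq, ← h]; exact card_config P
  obtain ⟨x, hx, hx1⟩ : ∃ x ∈ (P : Subgroup G), x ≠ 1 := by
    refine Subgroup.bot_or_exists_ne_one _ |>.resolve_left fun h' => ?_
    rw [h', Subgroup.card_bot] at hP
    exact hp.ne_one hP.symm
  have hPC : (P : Subgroup G) ≤ C := by
    have : IsCyclic (P : Subgroup G) := isCyclic_of_prime_card hP
    intro a ha
    exact Subgroup.mem_centralizer_iff.2 fun b hb => congrArg Subtype.val
      ((IsCyclic.commGroup (α := (P : Subgroup G))).mul_comm ⟨b, hb⟩ ⟨a, ha⟩)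
  obtain ⟨w, hw⟩ : p ∣ Nat.card C := hP ▸ Subgroup.card_dvd_of_le hPC
  have hwd : p * w ∣ 10200960 := ⟨np * e, by rw [← hcfg, hw]; ring⟩
  have hpw : ¬ p ∣ w := fun hd => h2 ((pow_two p).symm ▸ (Nat.mul_dvd_mul_left p hd).trans hwd)
  have hdiv : 10200960 / (p * e * w) = np := by
    rw [← hcfg, hw, show np * (e * (p * w)) = np * (p * e * w) by ring,
      Nat.mul_div_cancel _ (Nat.pos_of_ne_zero fun h0 => by
        rw [hw, show np * (e * (p * w)) = np * (p * e * w) by ring, h0, mul_zero] at hcfg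
        norm_num at hcfg)]
  have hMval : 10200960 / (p * w) = np * e := by
    rw [← hcfg, hw, ← mul_assoc, Nat.mul_div_cancel _ (Nat.pos_of_ne_zero fun h0 => by
      rw [hw, h0, mul_zero, mul_zero] at hcfg
      norm_num at hcfg)]
  have hidx : (Subgroup.centralizer ({x} : Set G)).index = np * e := by
    rw [BrauerReynolds.centralizer_mem_eq P hP hx hx1, BrauerReynolds.index_centralizer, D.e_eq,
      hnp, mul_comm]
  obtain ⟨hnp1, hnpm, -, -, -⟩ := count_not_excluded (p := p) (a := 1) hG one_pos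
    (by rw [h, pow_one]; exact h1) (by rw [h]; exact h2)
  rw [← hnp] at hnp1 hnpm
  have hep : e < p := by
    rcases Nat.eq_zero_or_pos t with h' | h'
    · rw [h', zero_mul, zero_add] at hte; exact absurd hte.symm hp.ne_one
    · have : 1 * e ≤ t * e := Nat.mul_le_mul_right _ h'
      omega
  have hdt : (p - 1) / e = t := by rw [show p - 1 = t * e by omega, Nat.mul_div_cancel _ (by omega)]
  have hde : (p - 1) % e = 0 := by rw [show p - 1 = t * e by omega, Nat.mul_mod_left]
  -- degrees
  have hsumsq : ∑ φ : IrrCharacter G, dg φ * dg φ = 10200960 := by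
    have h' := CfsgLib.Char.sum_irr_sq (G := G)
    simp only [← BlockB.irr_degree_cast, pow_two, h] at h'
    exact_mod_cast h'
  have hlt : ∀ φ : IrrCharacter G, dg φ < 3195 := fun φ => by
    have h' := Finset.single_le_sum (f := fun φ : IrrCharacter G => dg φ * dg φ)
      (fun _ _ => Nat.zero_le _) (Finset.mem_univ φ)
    simp only [hsumsq] at h'
    by_contra hle
    push Not at hle
    have := Nat.mul_le_mul hle hle
    omega
  have hdvd : ∀ φ : IrrCharacter G, 10200960 % dg φ = 0 := fun φ =>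
    Nat.mod_eq_zero_of_dvd (h ▸ BlockB.irr_degree_dvd_card φ)
  have hdeg2 : ∀ φ : IrrCharacter G, φ ≠ oneChar → 2 ≤ dg φ := fun φ hφ => by
    have h0 : 0 < dg φ := BlockB.irr_degree_pos φ
    by_contra hle
    refine hφ (Subtype.ext (BrauerReynolds.eq_one_of_degree_one hperf φ ?_))
    rw [← BlockB.irr_degree_cast φ, show charDegree (φ : G → ℂ) = 1 from (by omega : dg φ = 1), Nat.cast_one]
  set L := degCands (10200960 / (p * w)) allow with hL
  have hcand : ∀ φ ∈ CF.erase oneChar, sKey ε φ ∈ signCands p L := by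
    intro φ hφ
    obtain ⟨hφ1, hφC⟩ := Finset.mem_erase.1 hφ
    have hdM : (np * e) % dg φ = 0 := Nat.mod_eq_zero_of_dvd (hidx ▸
      BrauerReynolds.dvd_of_omega_sum {φ} id x (BlockB.irr_degree_pos φ)
        (fun j hj => by rw [Finset.mem_singleton.1 hj]; exact (BlockB.irr_degree_cast φ).symm)
        (D.eps_pm φ hφC) (by rw [Finset.sum_singleton]; exact D.CF_val φ hφC x hx hx1))
    refine List.mem_flatMap.2 ⟨dg φ, List.mem_filter.2 ⟨mem_degList _ (hlt φ) (hdeg2 φ hφ1) (hdvd φ),
      by simp [hMval, hdM, hallow M hM φ ((D.mem φ).2 (Or.inl hφC)) hφ1]⟩, ?_⟩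
    have hmod := D.CF_mod φ hφC
    rcases D.eps_pm φ hφC with he | he <;> rw [he] at hmod
    · have hd1 : dg φ % p = 1 := by
        have h' : (dg φ : ℤ) % p = (1 : ℤ) % p := Int.modEq_iff_dvd.2 hmod
        rw [Int.emod_eq_of_lt zero_le_one (by exact_mod_cast hp.one_lt)] at h'
        exact_mod_cast h'
      simp [sKey, he, hd1]
    · have hd1 : dg φ % p = p - 1 := by
        have h' : (dg φ : ℤ) % p = (-1 : ℤ) % p := Int.modEq_iff_dvd.2 hmod
        have hp1 : (-1 : ℤ) % p = (p : ℤ) - 1 := by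
          rw [show (-1 : ℤ) = ((p : ℤ) - 1) + (p : ℤ) * (-1) by ring, Int.add_mul_emod_self_left,
            Int.emod_eq_of_lt (by have := hp.one_lt; omega) (by omega)]
        rw [hp1] at h'
        have h'' : ((dg φ % p : ℕ) : ℤ) = (p : ℤ) - 1 := by push_cast; exact h'
        omega
      simp [sKey, he, hd1]
  have htot : 1 + ∑ φ ∈ CF.erase oneChar, dg φ * dg φ + (if t = 1 then 0 else t * (d₀ * d₀)) ≤
      10200960 := by
    rw [← hsumsq]
    refine le_trans (le_of_eq ?_) (Finset.sum_le_univ_sum_of_nonneg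
      (s := CF ∪ YF) fun _ => Nat.zero_le _)
    rw [Finset.sum_union D.disj,
      ← Finset.add_sum_erase CF _ (show oneChar ∈ CF from D.one_mem), deg_oneChar,
      Finset.sum_congr rfl (g := fun _ => d₀ * d₀) (s₁ := YF) fun φ hφ => by
        rw [show dg φ = d₀ from D.YF_deg φ hφ],
      Finset.sum_const, D.card_YF, smul_eq_mul]
    split_ifs <;> simp
  obtain ⟨l, hl, hlmap⟩ := sols_sound (sKey ε) (signCands p L) (CF.erase oneChar) 1 hcand
    (n := 10200960) (by simp only [sKey]; omega)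
  rw [Finset.card_erase_of_mem (show oneChar ∈ CF from D.one_mem), D.card_CF] at hl
  have hk : (if t = 1 then p - 1 else e - 1) = (if t = 1 then p else e) - 1 := by split_ifs <;> rfl
  rw [← hk] at hl
  have hD : 1 + (l.map fun a => sgn a * (a.1 : ℤ)).sum = if t = 1 then 0 else σ * d₀ := by
    rw [← D.deg_eq, ← Finset.add_sum_erase CF _ (show oneChar ∈ CF from D.one_mem), charDegree_oneChar,
      show ε oneChar = 1 from D.eps_one, Nat.cast_one, one_mul, ← Multiset.sum_coe, ← Multiset.map_coe,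
      ← hlmap, Multiset.map_map]
    refine congrArg _ (Finset.sum_congr rfl fun φ hφ => ?_)
    rcases D.eps_pm φ (Finset.mem_of_mem_erase hφ) with he | he <;> simp [sgn, sKey, he, dg]
  have hS : 1 + (l.map fun a => a.1 * a.1).sum = 1 + ∑ φ ∈ CF.erase oneChar, dg φ * dg φ := by
    rw [← Multiset.sum_coe, ← Multiset.map_coe, ← hlmap, Multiset.map_map]
    rfl
  have hcfgs : (e, w) ∈ configs p := mem_configs hep he2 hde
    ⟨np, by rw [← hcfg, hw]; ring⟩ (by rw [hdiv]; exact hnpm) (by rw [hdiv]; omega)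
  by_cases ht : t = 1
  · refine ⟨⟨p, e, w, l, 0, 1⟩, M, CF, YF, ε, ⟨inferInstance, h, rfl, hp2, hP, hw, hpw, hM, ?_, hlmap⟩,
      hcfgs, ?_⟩
    · exact (show Blk.t ⟨p, e, w, l, 0, 1⟩ = t from hdt) ▸ rows_normal D ht
    · simp only [rowsOf, hdt, ← hL, ht, if_true, List.mem_flatMap]
      refine ⟨l, by simpa [ht] using hl, ?_⟩
      rw [if_pos ht] at hD
      simp [hD]
  · rw [if_neg ht] at hD htot
    obtain ⟨η, hη⟩ : YF.Nonempty := Finset.card_pos.1 (by
      rw [D.card_YF, if_neg ht]
      rcases Nat.eq_zero_or_pos t with h0 | h0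
      · rw [h0, zero_mul, zero_add] at hte; exact absurd hte.symm hp.ne_one
      · exact h0)
    have hη1 : η ≠ oneChar := fun h' =>
      Finset.disjoint_left.1 D.disj D.one_mem (h' ▸ hη : oneChar ∈ YF)
    have hd0 : dg η = d₀ := D.YF_deg η hη
    have hd0M : (np * e) % d₀ = 0 := Nat.mod_eq_zero_of_dvd (hidx ▸
      BrauerReynolds.dvd_of_omega_sum YF id x (hd0 ▸ BlockB.irr_degree_pos η)
        (fun j hj => by rw [← D.YF_deg j hj]; exact (BlockB.irr_degree_cast j).symm)
        (σ := -σ) (by rcases D.sign with h' | h' <;> simp [h']) (D.YF_sum ht x hx hx1))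
    refine ⟨⟨p, e, w, l, d₀, σ⟩, M, CF, YF, ε, ⟨inferInstance, h, rfl, hp2, hP, hw, hpw, hM, ?_, hlmap⟩,
      hcfgs, ?_⟩
    · exact (show Blk.t ⟨p, e, w, l, d₀, σ⟩ = t from hdt) ▸ D
    · simp only [rowsOf, hdt, ← hL, if_neg ht, List.mem_flatMap]
      refine ⟨l, by simpa [ht] using hl, d₀, List.mem_filter.2 ⟨hd0 ▸ mem_degList _ (hlt η)
        (hdeg2 η hη1) (hdvd η), ?_⟩, ?_⟩
      · rw [← hd0] at hd0M ⊢
        simp [hMval, hd0M, hallow M hM η ((D.mem η).2 (Or.inr hη)) hη1]
      · rw [if_pos (by rw [decide_eq_true_eq, hS]; exact htot)]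
        have hmod := D.d₀_mod ht
        rcases D.sign with hs | hs <;> subst hs
        · rw [mul_one] at hmod
          have h' : (d₀ : ℤ) % p = (e : ℤ) % p := Int.modEq_iff_dvd.2 hmod
          have h'' : d₀ % p = e % p := by exact_mod_cast h'
          rw [one_mul] at hD
          simp [hD, h'']
        · have h' : (d₀ + e) % p = 0 := Nat.mod_eq_zero_of_dvd (Int.natCast_dvd_natCast.1 (by
            have h := hmod.neg_right
            push_cast
            simpa [add_comm] using h))
          rw [neg_one_mul] at hD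
          simp [hD, h']

/-- An element commuting with an element of order `p` has a conjugate centralising the Sylow
subgroup. -/
theorem exists_conj_mem {p : ℕ} [hpf : Fact p.Prime] (P : Sylow p G) (hP : Nat.card P = p) (g : G)
    (hd : p ∣ Nat.card (Subgroup.centralizer ({g} : Set G))) :
    ∃ k, IsConj g k ∧ k ∈ Subgroup.centralizer ((P : Subgroup G) : Set G) := by
  obtain ⟨⟨v, hv⟩, hvo⟩ := exists_prime_orderOf_dvd_card' (G := Subgroup.centralizer ({g} : Set G)) p hd
  rw [Subgroup.orderOf_mk] at hvo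
  obtain ⟨Q, hQ⟩ := (IsPGroup.of_card (n := 1) (by rw [Nat.card_zpowers, hvo, pow_one]) :
    IsPGroup p (Subgroup.zpowers v)).exists_le_sylow
  obtain ⟨a, ha⟩ := MulAction.exists_smul_eq G Q P
  refine ⟨a * g * a⁻¹, isConj_iff.2 ⟨a, rfl⟩, ?_⟩
  have hxP : a * v * a⁻¹ ∈ (P : Subgroup G) := by
    rw [← ha, Sylow.coe_subgroup_smul]
    exact ⟨v, hQ (Subgroup.mem_zpowers v), rfl⟩
  have hx1 : a * v * a⁻¹ ≠ 1 := fun h => hpf.out.ne_one (by
    rw [← hvo, show v = 1 by simpa using h, orderOf_one])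
  rw [← BrauerReynolds.centralizer_mem_eq P hP hxP hx1, Subgroup.mem_centralizer_singleton_iff]
  calc a * g * a⁻¹ * (a * v * a⁻¹) = a * (g * v) * a⁻¹ := by group
    _ = a * (v * g) * a⁻¹ := by rw [Subgroup.mem_centralizer_singleton_iff.1 hv]
    _ = _ := by group

namespace Setup

variable {p : ℕ} [hpf : Fact p.Prime] {B : Blk} {M : Ideal AlgInt} {P : Sylow p G}
  {CF YF : Finset (IrrCharacter G)} {ε : IrrCharacter G → ℤ} (S : Setup p B M P CF YF ε)
include S

theorem exists_x : ∃ x ∈ (P : Subgroup G), x ≠ 1 := by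
  refine Subgroup.bot_or_exists_ne_one _ |>.resolve_left fun h => ?_
  have := S.card_P
  rw [h, Subgroup.card_bot] at this
  exact hpf.out.ne_one this.symm

theorem card_YF_eq : YF.card = B.ny := by rw [S.rows.card_YF]; rfl

theorem not_one_of_mem_YF {η : IrrCharacter G} (hη : η ∈ YF) : η ≠ oneChar := fun h =>
  Finset.disjoint_left.1 S.rows.disj S.rows.one_mem (h ▸ hη : oneChar ∈ YF)

theorem block_val : (CF ∪ YF).val = oneChar ::ₘ (CF.erase oneChar).val + YF.val := by
  rw [← Finset.disjUnion_eq_union _ _ S.rows.disj, Finset.disjUnion_val, Finset.erase_val,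
    Multiset.cons_erase (show oneChar ∈ CF.val from S.rows.one_mem)]

/-- The degrees of the block. -/
theorem degKeys_eq : (CF ∪ YF).val.map dg = ↑(degKeys B) := by
  rw [S.block_val, Multiset.map_add, Multiset.map_cons, deg_oneChar, degKeys,
    show (CF.erase oneChar).val.map dg = ((CF.erase oneChar).val.map (sKey ε)).map Prod.fst by
      rw [Multiset.map_map]; rfl,
    S.map, Multiset.map_coe, show YF.val.map dg = Multiset.replicate B.ny B.d from
      Multiset.eq_replicate.2 ⟨by rw [Multiset.card_map]; exact S.card_YF_eq, fun b hb => by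
        obtain ⟨η, hη, rfl⟩ := Multiset.mem_map.1 hb
        exact S.rows.YF_deg η hη⟩]
  rw [← Multiset.coe_replicate, ← Multiset.cons_coe, Multiset.cons_add, Multiset.coe_add]

/-- A character outside the block of a self-centralising element has degree divisible by `p`. -/
theorem dvd_deg (hw : B.w = 1) {φ : IrrCharacter G} (hφ : φ ∉ CF ∪ YF) : p ∣ dg φ := by
  have := Fintype.ofFinite G
  obtain ⟨x, hx, hx1⟩ := S.exists_x
  rw [Finset.mem_union, not_or] at hφ
  have hC : Nat.card (Subgroup.centralizer ((P : Subgroup G) : Set G)) = p := by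
    rw [S.card_C, hw, mul_one]
  have hxo : orderOf x = p := by
    have hd := Subgroup.orderOf_dvd_natCard (P : Subgroup G) hx
    rw [S.card_P] at hd
    exact ((Nat.dvd_prime hpf.out).1 hd).resolve_left fun h' => hx1 (orderOf_eq_one_iff.1 h')
  have hone : ¬ p ∣ orderOf (1 : G) := by rw [orderOf_one]; exact hpf.out.not_dvd_one
  have h := dvd_sub_of_commute (p := p) (Char.irr_isCharacter φ.2) (Commute.one_left x) hxo hone
    (a := (dg φ : ℤ)) (b := 0) (by rw [← BlockB.irr_degree_cast φ]; simp) fun j hj => by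
      rw [one_mul, StructC.RowsTools.apply_eq_zero S.modular S.rows S.card_P hC hφ.1 hφ.2
        (Subgroup.pow_mem _ hx j) fun h => hj (hxo ▸ orderOf_dvd_of_pow_eq_one h)]
      simp
  rw [sub_zero] at h
  exact_mod_cast h

/-- Members of degree prime to `p` of any set lie in the block of a self-centralising element. -/
theorem le_block (hw : B.w = 1) {α : Type*} (K : IrrCharacter G → ℕ × α)
    (hK : ∀ φ, (K φ).1 = dg φ) (s : Finset (IrrCharacter G)) :
    (s.val.map K).filter (fun k => k.1 % p ≠ 0) ≤ (CF ∪ YF).val.map K := by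
  rw [Multiset.filter_map]
  refine Multiset.map_le_map (Multiset.le_iff_subset (s.nodup.filter _) |>.2 fun φ hφ => ?_)
  obtain ⟨-, hd⟩ := Multiset.mem_filter.1 hφ
  by_contra hn
  refine hd ?_
  simp only [Function.comp_apply, hK]
  exact Nat.mod_eq_zero_of_dvd (S.dvd_deg hw hn)

theorem compatD_of (s : Finset (IrrCharacter G)) (y : List ℕ) (hy : s.val.map dg = ↑y) :
    compatD B (degKeys B) y = true := by
  rw [compatD, Bool.or_eq_true, decide_eq_true_eq]
  by_cases hw : B.w = 1
  · right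
    refine leL_of_le ?_
    rw [← Multiset.filter_coe, ← hy, ← S.degKeys_eq, S.prime_eq]
    have h := Multiset.map_le_map (f := Prod.fst)
      (S.le_block hw (fun φ => (dg φ, ())) (fun _ => rfl) s)
    simp only [Multiset.map_map, Function.comp_def, Multiset.filter_map] at h ⊢
    simpa using h
  · exact Or.inl hw

theorem compatV_of (q : IrrCharacter G → ℤ) {s : Finset (IrrCharacter G)} {x y : List (ℕ × ℤ)}
    (hx : (CF ∪ YF).val.map (vKey q) = ↑x) (hy : s.val.map (vKey q) = ↑y) : compatV B x y = true := by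
  rw [compatV, Bool.or_eq_true, decide_eq_true_eq]
  by_cases hw : B.w = 1
  · right
    refine leL_of_le ?_
    rw [← Multiset.filter_coe, ← hy, ← hx, S.prime_eq]
    simpa using S.le_block hw (vKey q) (fun _ => rfl) s
  · exact Or.inl hw

theorem not_excluded {g : G} (hg : orderOf g = 2) :
    excluded B (Nat.card (Subgroup.centralizer ({g} : Set G))) = false := by
  by_contra hne
  rw [Bool.not_eq_false] at hne
  simp only [excluded, Bool.and_eq_true, decide_eq_true_eq, S.prime_eq] at hne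
  obtain ⟨hdvd, hodd⟩ := hne
  obtain ⟨k, hgk, hkC⟩ := exists_conj_mem P S.card_P g (Nat.dvd_of_mod_eq_zero hdvd)
  obtain ⟨a, ha⟩ := isConj_iff.1 hgk
  have hko : orderOf k = 2 := by
    rw [← ha, show a * g * a⁻¹ = MulAut.conj a g from rfl, MulEquiv.orderOf_eq, hg]
  have hd : 2 ∣ p * B.w := S.card_C ▸ hko ▸ Subgroup.orderOf_dvd_natCard _ hkC
  rcases (Nat.prime_two.dvd_mul).1 hd with h | h
  · exact S.odd ((Nat.prime_dvd_prime_iff_eq Nat.prime_two hpf.out).1 h).symm
  · omega

theorem cong_of {g : G} (hg : orderOf g = 2) (hd : p ∣ Nat.card (Subgroup.centralizer ({g} : Set G)))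
    {φ : IrrCharacter G} (hφ : φ ∈ CF) {a : ℤ} (ha : (φ : G → ℂ) g = a) :
    (p : ℤ) ∣ a - (dg φ : ℤ) := by
  obtain ⟨k, hgk, hkC⟩ := exists_conj_mem P S.card_P g hd
  obtain ⟨c, hc⟩ := isConj_iff.1 hgk
  have hko : orderOf k = 2 := by
    rw [← hc, show c * g * c⁻¹ = MulAut.conj c g from rfl, MulEquiv.orderOf_eq, hg]
  refine dvd_value_sub S.modular P S.card_P S.rows hφ hkC (by
    rw [hko]; exact fun h => S.odd ((Nat.prime_dvd_prime_iff_eq hpf.out Nat.prime_two).1 h)) ?_
  rw [← ha, ← hc, Char.irr_isClassFunction φ.2]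

/-- The values at an involution give an element of the search. -/
theorem exists_members {g : G} (hg : orderOf g = 2) (q : IrrCharacter G → ℤ) (hq1 : q oneChar = 1)
    (hq : ∀ φ : IrrCharacter G, (φ : G → ℂ) g = q φ ∧ (φ ≠ oneChar → q φ ∈ qRange (dg φ) ∧
      admissible 10200960 (Nat.card (Subgroup.centralizer ({g} : Set G))) (dg φ) (q φ) = true))
    (V : ℕ → List ℤ) (cost : ℕ → ℤ → ℤ) (hcost : ∀ d v, 0 ≤ cost d v) (Q : ℤ)
    (hV : ∀ φ ∈ CF.erase oneChar, q φ ∈ V (dg φ))
    (hQ : Q + ∑ φ ∈ CF.erase oneChar, cost (dg φ) (q φ) ≤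
      (Nat.card (Subgroup.centralizer ({g} : Set G)) : ℤ)) :
    (B.l.map fun a => (a, V a.1)).any (fun a => a.2.isEmpty) = false ∧
    ∃ y ∈ (assignQ cost (Nat.card (Subgroup.centralizer ({g} : Set G)) : ℤ) (decide (B.t = 1))
        (B.l.map fun a => (a, V a.1)) Q 1 none).flatMap
          (members B (Nat.card (Subgroup.centralizer ({g} : Set G)))),
      (CF ∪ YF).val.map (vKey q) = ↑y := by
  have := Fintype.ofFinite G
  have := Fintype.ofFinite (IrrCharacter G)
  set c := Nat.card (Subgroup.centralizer ({g} : Set G)) with hc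
  refine ⟨any_isEmpty_eq (sKey ε) q V (fun φ hφ => hV φ hφ) S.map, ?_⟩
  obtain ⟨r, hr, hrmap⟩ := assignQ_sound (sKey ε) q V cost hcost (c : ℤ) (decide (B.t = 1)) B.l
    (CF.erase oneChar).val Q 1
    none (fun φ hφ => hV φ hφ) (fun _ _ b hb => absurd hb (by simp)) S.map
    (by simpa [sKey, Finset.sum] using hQ) (fun ht => by
      rw [decide_eq_true_eq] at ht
      have hgr : ¬ p ∣ orderOf g := by
        rw [hg]; exact fun h => S.odd ((Nat.prime_dvd_prime_iff_eq hpf.out Nat.prime_two).1 h)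
      have h := S.rows.relation_one ht g hgr
      rw [Finset.sum_congr rfl fun φ _ => by rw [(hq φ).1]] at h
      have h' : ∑ φ ∈ CF, ε φ * q φ = 0 := by exact_mod_cast h
      rw [← Finset.add_sum_erase CF _ (show oneChar ∈ CF from S.rows.one_mem),
        show ε oneChar = 1 from S.rows.eps_one, hq1, one_mul] at h'
      refine Eq.trans (congrArg _ ?_) h'
      refine Finset.sum_congr rfl fun φ hφ => ?_
      rcases S.rows.eps_pm φ (Finset.mem_of_mem_erase hφ) with he | he <;> simp [sgn, sKey, he])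
  have hrsum : ∀ f : (ℕ × Bool) × ℤ → ℤ,
      (r.map f).sum = ∑ φ ∈ CF.erase oneChar, f (sKey ε φ, q φ) := fun f => by
    rw [← Multiset.sum_coe, ← Multiset.map_coe, ← hrmap, Multiset.map_map]; rfl
  have hsgn : ∀ φ ∈ CF, sgn (sKey ε φ) = ε φ := fun φ hφ => by
    rcases S.rows.eps_pm φ hφ with h | h <;> simp [sgn, sKey, h]
  have hgr : ¬ p ∣ orderOf g := by
    rw [hg]; exact fun h => S.odd ((Nat.prime_dvd_prime_iff_eq hpf.out Nat.prime_two).1 h)
  have hsplit : ∀ f : IrrCharacter G → ℤ,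
      ∑ φ ∈ CF, f φ = f oneChar + ∑ φ ∈ CF.erase oneChar, f φ := fun f =>
    (Finset.add_sum_erase _ _ S.rows.one_mem).symm
  have heps : ε oneChar = 1 := S.rows.eps_one
  set A := 1 + (r.map fun a => sgn a.1 * a.2).sum with hA
  have hA' : A = ∑ φ ∈ CF, ε φ * q φ := by
    rw [hA, hrsum, hsplit, heps, hq1, one_mul]
    exact congrArg _ (Finset.sum_congr rfl fun φ hφ => by rw [hsgn φ (Finset.mem_of_mem_erase hφ)])
  set E := (10200960 : ℤ) + (r.map fun a => sgn a.1 * a.2 * a.2 * ((10200960 / a.1.1 : ℕ) : ℤ)).sum with hE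
  have hE' : E = ∑ φ ∈ CF, ε φ * q φ * q φ * ((10200960 / dg φ : ℕ) : ℤ) := by
    rw [hE, hrsum, hsplit, heps, hq1, deg_oneChar, one_mul, one_mul, one_mul]
    refine congrArg₂ (· + ·) (by norm_num) (Finset.sum_congr rfl fun φ hφ => ?_)
    rw [hsgn φ (Finset.mem_of_mem_erase hφ)]
    rfl
  obtain ⟨x, hx, hx1⟩ := S.exists_x
  have hgg : g * g = 1 := by rw [← pow_two, ← hg, pow_orderOf_eq_one]
  obtain ⟨j, hj0, hj⟩ := block_pairs S.modular P S.card_P S.odd (CF ∪ YF)
    (fun φ => by rw [Finset.mem_union, S.rows.mem]) hx hx1 S.card_C S.not_dvd_w hgg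
  rw [S.rows.e_eq, Nat.odd_iff] at hj0
  have hdiv : ∀ φ : IrrCharacter G, ((10200960 / dg φ : ℕ) : ℂ) = (10200960 : ℂ) / (φ : G → ℂ) 1 :=
    fun φ => by
      rw [Nat.cast_div (S.card ▸ BlockB.irr_degree_dvd_card φ)
        (Nat.cast_ne_zero.2 (BlockB.irr_degree_pos φ).ne'), BlockB.irr_degree_cast]
      norm_num
  have hCFsum : ∑ φ ∈ CF, (Nat.card G : ℂ) * (φ : G → ℂ) g * (φ : G → ℂ) g / (φ : G → ℂ) 1 *
      conj ((φ : G → ℂ) x) = (E : ℂ) := by
    rw [hE', Int.cast_sum, S.card]
    refine Finset.sum_congr rfl fun φ hφ => ?_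
    rw [S.rows.CF_val φ hφ x hx hx1, map_intCast, (hq φ).1, Int.cast_mul, Int.cast_mul, Int.cast_mul,
      Int.cast_natCast, hdiv φ]
    push_cast
    ring
  rw [Finset.sum_union S.rows.disj, hCFsum] at hj
  have hkeys : ((CF.erase oneChar).val.map (vKey q)) = ↑(r.map fun a => (a.1.1, a.2)) := by
    rw [← Multiset.map_coe, ← hrmap, Multiset.map_map]; rfl
  have hone : vKey q oneChar = ((1 : ℕ), (1 : ℤ)) := by rw [vKey, deg_oneChar, hq1]
  by_cases ht : B.t = 1
  · have hY : YF = ∅ := Finset.card_eq_zero.1 (by rw [S.rows.card_YF, if_pos ht])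
    refine ⟨(1, 1) :: r.map fun a => (a.1.1, a.2), List.mem_flatMap.2 ⟨r, hr, ?_⟩, ?_⟩
    · have hA0 : A = 0 := by
        have h := S.rows.relation_one ht g hgr
        rw [Finset.sum_congr rfl fun φ _ => by rw [(hq φ).1]] at h
        rw [hA']
        exact_mod_cast h
      have hok : pairsOK B.p B.e c ((B.w : ℤ) * E) = true := by
        refine pairsOK_of (S.prime_eq ▸ hpf.out.pos) Nat.card_pos hj0 ?_
        rw [S.prime_eq]
        rw [hY, Finset.sum_empty, add_zero] at hj
        exact_mod_cast hj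
      simp only [members, ← hA, ← hE, ht, if_true]
      rw [if_pos (by simp [hA0, hok])]
      exact List.mem_singleton_self _
    · rw [S.block_val, hY, Finset.empty_val, add_zero, Multiset.map_cons, hkeys, hone,
        Multiset.cons_coe]
  · obtain ⟨η, hη⟩ : YF.Nonempty := Finset.card_pos.1 (by
      rw [S.rows.card_YF, if_neg ht]
      have hte := S.rows.hte
      rcases Nat.eq_zero_or_pos B.t with h0 | h0
      · rw [h0, zero_mul, zero_add] at hte; exact absurd hte.symm hpf.out.ne_one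
      · exact h0)
    set v := B.σ * A with hv
    have hσ : B.σ * B.σ = 1 := by rcases S.rows.sign with h | h <;> simp [h]
    have hYv : ∀ φ ∈ YF, q φ = v := fun φ hφ => by
      have h := S.rows.relation ht φ hφ g hgr
      rw [Finset.sum_congr rfl fun ψ _ => by rw [(hq ψ).1], (hq φ).1] at h
      have h' : A = B.σ * q φ := by rw [hA']; exact_mod_cast h
      rw [hv, h', ← mul_assoc, hσ, one_mul]
    have hYkey : YF.val.map (vKey q) = ↑(List.replicate B.t (B.d, v)) := by
      rw [Multiset.coe_replicate]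
      refine Multiset.eq_replicate.2 ⟨?_, fun b hb => ?_⟩
      · rw [Multiset.card_map, show Multiset.card YF.val = YF.card from rfl, S.rows.card_YF,
          if_neg ht]
      · obtain ⟨φ, hφ, rfl⟩ := Multiset.mem_map.1 hb
        rw [vKey, show dg φ = B.d from S.rows.YF_deg φ hφ, hYv φ hφ]
    refine ⟨(1, 1) :: (r.map (fun a => (a.1.1, a.2)) ++ List.replicate B.t (B.d, v)),
      List.mem_flatMap.2 ⟨r, hr, ?_⟩, ?_⟩
    · obtain ⟨hR, hadm⟩ := (hq η).2 (S.not_one_of_mem_YF hη)
      rw [hYv η hη, show dg η = B.d from S.rows.YF_deg η hη] at hR hadm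
      have hQle : 1 + (r.map fun a => a.2 * a.2).sum + (B.t : ℤ) * (v * v) ≤ (c : ℤ) := by
        have h := sum_sq_le g (CF ∪ YF) q fun φ _ => (hq φ).1
        rw [Finset.sum_union S.rows.disj, hsplit, hq1, Finset.sum_congr rfl (g := fun _ => v * v)
          (s₁ := YF) fun φ hφ => by rw [hYv φ hφ], Finset.sum_const, S.rows.card_YF, if_neg ht,
          nsmul_eq_mul, ← hc] at h
        rw [hrsum]
        simpa using h
      have hYsum : ∑ φ ∈ YF, (Nat.card G : ℂ) * (φ : G → ℂ) g * (φ : G → ℂ) g / (φ : G → ℂ) 1 *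
          conj ((φ : G → ℂ) x) =
          ((-(B.σ * (v * v) * ((10200960 / B.d : ℕ) : ℤ)) : ℤ) : ℂ) := by
        rw [Finset.sum_congr rfl (g := fun φ : IrrCharacter G =>
          ((v * v * ((10200960 / B.d : ℕ) : ℤ) : ℤ) : ℂ) * conj ((φ : G → ℂ) x)) fun φ hφ => by
            rw [(hq φ).1, hYv φ hφ, S.card, Int.cast_mul, Int.cast_mul, Int.cast_natCast,
              ← S.rows.YF_deg φ hφ, hdiv φ]
            simp only [hv]
            push_cast
            ring,
          ← Finset.mul_sum, ← map_sum, S.rows.YF_sum ht x hx hx1, map_intCast, ← Int.cast_mul]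
        congr 1
        ring
      have hok : pairsOK B.p B.e c
          ((B.w : ℤ) * (E - B.σ * (v * v) * ((10200960 / B.d : ℕ) : ℤ))) = true := by
        refine pairsOK_of (S.prime_eq ▸ hpf.out.pos) Nat.card_pos hj0 ?_
        rw [S.prime_eq, sub_eq_add_neg]
        rw [hYsum, ← Int.cast_add] at hj
        exact_mod_cast hj
      simp only [members, ← hA, ← hE, if_neg ht, ← hv]
      rw [if_pos (by
        simp only [Bool.and_eq_true, decide_eq_true_eq]
        exact ⟨⟨⟨inRange_of_mem hR, hadm⟩, hQle⟩, hok⟩)]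
      exact List.mem_singleton_self _
    · rw [S.block_val, Multiset.map_add, Multiset.map_cons, hkeys, hYkey, hone, Multiset.cons_add,
        Multiset.coe_add, Multiset.cons_coe]

theorem mem_valsAt {g : G} (hg : orderOf g = 2) {q : IrrCharacter G → ℤ}
    (hq : ∀ φ : IrrCharacter G, (φ : G → ℂ) g = q φ ∧ (φ ≠ oneChar → q φ ∈ qRange (dg φ) ∧
      admissible 10200960 (Nat.card (Subgroup.centralizer ({g} : Set G))) (dg φ) (q φ) = true))
    {φ : IrrCharacter G} (hφ : φ ∈ CF.erase oneChar) :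
    q φ ∈ valsAt B.p (Nat.card (Subgroup.centralizer ({g} : Set G))) (dg φ) := by
  obtain ⟨hne, hC⟩ := Finset.mem_erase.1 hφ
  obtain ⟨hR, hA⟩ := (hq φ).2 hne
  have hsq := hA
  rw [admissible, Bool.and_eq_true, decide_eq_true_eq] at hsq
  refine List.mem_filter.2 ⟨mem_shortRange hR hsq.1, ?_⟩
  rw [hA, Bool.true_and, Bool.or_eq_true, decide_eq_true_eq, decide_eq_true_eq, S.prime_eq]
  by_cases hd : p ∣ Nat.card (Subgroup.centralizer ({g} : Set G))
  · exact Or.inr (Int.emod_eq_zero_of_dvd (S.cong_of hg hd hC (hq φ).1))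
  · exact Or.inl fun h => hd (Nat.dvd_of_mod_eq_zero h)

theorem exists_vec {g : G} (hg : orderOf g = 2) (q : IrrCharacter G → ℤ) (hq1 : q oneChar = 1)
    (hq : ∀ φ : IrrCharacter G, (φ : G → ℂ) g = q φ ∧ (φ ≠ oneChar → q φ ∈ qRange (dg φ) ∧
      admissible 10200960 (Nat.card (Subgroup.centralizer ({g} : Set G))) (dg φ) (q φ) = true)) :
    ∃ y ∈ vec B (Nat.card (Subgroup.centralizer ({g} : Set G))),
      (CF ∪ YF).val.map (vKey q) = ↑y := by
  have := Fintype.ofFinite (IrrCharacter G)
  have h := sum_sq_le g CF q fun φ _ => (hq φ).1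
  rw [← Finset.add_sum_erase CF _ S.rows.one_mem] at h
  obtain ⟨hne, hmem⟩ := S.exists_members hg q hq1 hq (valsAt B.p _) _ (fun _ v => mul_self_nonneg v) 1
    (fun φ hφ => S.mem_valsAt hg hq hφ)
    (by simpa [show q ⟨fun _ => 1, Char.isIrrCharacter_one⟩ = 1 from hq1, oneChar] using h)
  rw [vec, if_neg (by rw [S.not_excluded hg]; simp), prep_eq, hne, if_neg (by simp)]
  exact hmem

end Setup

end CfsgLib.Recog.OrderM23
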