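import Cfsg.Agent.Lib.Recog.OrderM23.TwentythreeCheck
import Cfsg.Agent.Lib.Recog.OrderM23.Setup

/-!
# Simple groups of order 10200960: the Sylow 23-subgroup is self-centralising

An involution centralising the Sylow subgroup is incompatible with the rows of the principal block;
a nontrivial centraliser of odd order leaves no row at all.
-/

set_option autoImplicit false
set_option maxRecDepth 100000

namespace CfsgLib.Recog.OrderM23

open Cfsg CfsgLib CfsgLib.ClassK CfsgLib.ClassK.RowSieve CfsgLib.ClassK.RowInvolution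
open CfsgLib.Recog.OrderM22 (rowsAt rowsAt_of_invol)

universe u

namespace Twentythree

/-- The configurations with centraliser of even order. -/
def evenConfigs : List (ℕ × ℕ) :=
  [(2, 40), (2, 132), (2, 224), (2, 960), (2, 3168), (2, 9240), (11, 24), (11, 70), (11, 576), (11, 1680), (22, 12), (22, 288), (22, 840)]

theorem config_check : ((configs 23).all fun a => decide (a = (11, 1)) || evenConfigs.contains a ||
    (decide (a.2 % 2 = 1) && (rowsOf 23 a.1 a.2 fun _ => true).isEmpty)) = true := by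
  decide +kernel

theorem dead_aux {np e M : ℕ} {T : List ((ℕ × Bool) × ℤ)} {X : List ℕ} (hM : np * e = M)
    (hT : congTrips M = T)
    (hX : (List.range 3195).filter (excOK 10200960 M 23 false fun _ => true) = X)
    (h : (cQuots.all fun m => !search T X e (46 * m)) = true) {m : ℕ} (hm : m ∈ cQuots) :
    rowsAt 10200960 np e 23 3195 (46 * m) = false := by
  rw [rowsAt_eq hM hT hX]
  simpa using List.all_eq_true.1 h m hm

theorem rowsAt_dead {np e w : ℕ} (ha : (e, w) ∈ evenConfigs) (hM : np * e = 10200960 / (23 * w))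
    {m : ℕ} (hm : m ∈ cQuots) : rowsAt 10200960 np e 23 3195 (46 * m) = false := by
  simp only [evenConfigs, List.mem_cons, List.not_mem_nil, or_false, Prod.mk.injEq] at ha
  rcases ha with ⟨rfl, rfl⟩ | ⟨rfl, rfl⟩ | ⟨rfl, rfl⟩ | ⟨rfl, rfl⟩ | ⟨rfl, rfl⟩ | ⟨rfl, rfl⟩ | ⟨rfl, rfl⟩ | ⟨rfl, rfl⟩ | ⟨rfl, rfl⟩ | ⟨rfl, rfl⟩ | ⟨rfl, rfl⟩ | ⟨rfl, rfl⟩ | ⟨rfl, rfl⟩ <;> norm_num at hM
  · exact dead_aux hM (M := 11088) trips_2_40_eq exc_2_40_eq dead_2_40 hm
  · exact dead_aux hM (M := 3360) trips_2_132_eq exc_2_132_eq dead_2_132 hm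
  · exact dead_aux hM (M := 1980) trips_2_224_eq exc_2_224_eq dead_2_224 hm
  · exact dead_aux hM (M := 462) trips_2_960_eq exc_2_960_eq dead_2_960 hm
  · exact dead_aux hM (M := 140) trips_2_3168_eq exc_2_3168_eq dead_2_3168 hm
  · exact dead_aux hM (M := 48) trips_2_9240_eq exc_2_9240_eq dead_2_9240 hm
  · exact dead_aux hM (M := 18480) trips_11_24_eq exc_11_24_eq dead_11_24 hm
  · exact dead_aux hM (M := 6336) trips_11_70_eq exc_11_70_eq dead_11_70 hm
  · exact dead_aux hM (M := 770) trips_11_576_eq exc_11_576_eq dead_11_576 hm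
  · exact dead_aux hM (M := 264) trips_11_1680_eq exc_11_1680_eq dead_11_1680 hm
  · exact dead_aux hM (M := 36960) trips_22_12_eq exc_22_12_eq dead_22_12 hm
  · exact dead_aux hM (M := 1540) trips_22_288_eq exc_22_288_eq dead_22_288 hm
  · exact dead_aux hM (M := 528) trips_22_840_eq exc_22_840_eq dead_22_840 hm

end Twentythree

open Twentythree

variable {G : Type u} [Group G] [Finite G]

/-- The configuration at the prime 23. -/
theorem config23 [IsSimpleGroup G] (h : Nat.card G = 10200960) (P : Sylow 23 G) :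
    Nat.card (Subgroup.centralizer ((P : Subgroup G) : Set G)) = 23 ∧
      (Subgroup.centralizer ((P : Subgroup G) : Set G)).relIndex
        (Subgroup.normalizer ((P : Subgroup G) : Set G)) = 11 := by
  have : Fact (Nat.Prime 23) := ⟨by norm_num⟩
  obtain ⟨B, M, CF, YF, ε, S, hcf, hB⟩ :=
    exists_setup h (p := 23) (by norm_num) (by norm_num) (by norm_num) P (fun _ => true)
      (fun _ _ _ _ _ => rfl)
  have hchk := List.all_eq_true.1 config_check _ hcf
  simp only [Bool.or_eq_true, Bool.and_eq_true, decide_eq_true_eq, List.contains_iff_mem,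
    Prod.mk.injEq, List.isEmpty_iff] at hchk
  rcases hchk with (⟨he, hw⟩ | hev) | ⟨-, hnil⟩
  · exact ⟨by rw [S.card_C, hw], by rw [S.rows.e_eq, he]⟩
  swap
  · rw [hnil] at hB
    exact absurd hB List.not_mem_nil
  exfalso
  have hG := not_comm h
  set C := Subgroup.centralizer ((P : Subgroup G) : Set G) with hC
  have hw2 : ∀ a ∈ evenConfigs, 2 ∣ a.2 := by decide
  have : Fact (Nat.Prime 2) := ⟨Nat.prime_two⟩
  obtain ⟨⟨k, hkC⟩, hk⟩ := exists_prime_orderOf_dvd_card' (G := C) 2
    (S.card_C ▸ dvd_mul_of_dvd_right (hw2 _ hev) 23)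
  rw [Subgroup.orderOf_mk] at hk
  have hrows := rowsAt_of_invol hG h (B := 3195) (by norm_num) P S.card_P (by norm_num) hk hkC
  rw [S.rows.e_eq] at hrows
  have hM : Nat.card (Sylow 23 G) * B.e = 10200960 / (23 * B.w) := by
    have hcfg := card_config P
    rw [S.rows.e_eq, S.card_C, h, ← mul_assoc] at hcfg
    rw [← hcfg, Nat.mul_div_cancel _ (S.card_C ▸ Nat.card_pos)]
  obtain ⟨x, hx, hx1⟩ := S.exists_x
  have hxo : orderOf x = 23 := by
    have hd := Subgroup.orderOf_dvd_natCard (P : Subgroup G) hx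
    rw [S.card_P] at hd
    exact ((Nat.dvd_prime Fact.out).1 hd).resolve_left fun h' => hx1 (orderOf_eq_one_iff.1 h')
  set Ck := Subgroup.centralizer ({k} : Set G) with hCk
  have hxk : x ∈ Ck := Subgroup.mem_centralizer_singleton_iff.2
    (Subgroup.mem_centralizer_iff.1 hkC x hx)
  have hkk : k ∈ Ck := Subgroup.mem_centralizer_singleton_iff.2 rfl
  obtain ⟨m, hm⟩ : 46 ∣ Nat.card Ck :=
    Nat.Coprime.mul_dvd_of_dvd_of_dvd (m := 2) (n := 23) (by norm_num)
      (hk ▸ Subgroup.orderOf_dvd_natCard Ck hkk) (hxo ▸ Subgroup.orderOf_dvd_natCard Ck hxk)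
  have hmd : m ∣ 221760 := by
    have hd := Subgroup.card_subgroup_dvd_card Ck
    rw [h, hm, show (10200960 : ℕ) = 46 * 221760 by norm_num] at hd
    exact Nat.dvd_of_mul_dvd_mul_left (by norm_num) hd
  have hne : m ≠ 221760 := fun hm' => by
    have htop : Ck = ⊤ := Subgroup.eq_top_of_card_eq _ (by rw [hm, hm', h])
    rcases IsSimpleGroup.eq_bot_or_eq_top_of_normal (Subgroup.center G) inferInstance with hc | hc
    · have hk1 : k ∈ Subgroup.center G := Subgroup.mem_center_iff.2 fun g =>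
        Subgroup.mem_centralizer_singleton_iff.1 (htop.ge (Subgroup.mem_top g))
      rw [hc, Subgroup.mem_bot] at hk1
      rw [hk1, orderOf_one] at hk
      norm_num at hk
    · exact hG ⟨⟨fun a b => Subgroup.mem_center_iff.1 (hc.ge (Subgroup.mem_top b)) a⟩⟩
  rw [hm, rowsAt_dead hev hM (mem_cQuots hmd hne)] at hrows
  exact Bool.false_ne_true hrows

end CfsgLib.Recog.OrderM23
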