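import Cfsg.Agent.Lib.Recog.OrderM23.ElevenCheck
import Cfsg.Agent.Lib.Recog.OrderM23.Twentythree
import Cfsg.Agent.Lib.BlockA.Galois
import Cfsg.Agent.Lib.Char.Galois

/-!
# Simple groups of order 10200960: the Sylow 11-subgroup is self-centralising

A character of degree 23 or 45 that is alone of its degree in the principal block is rational; at an
element of order seven centralising the Sylow subgroup its value is congruent to the degree modulo
eleven, which forces the element into the kernel.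
-/

set_option autoImplicit false
set_option maxRecDepth 100000
set_option linter.unusedSectionVars false

namespace CfsgLib.Recog.OrderM23

open Cfsg CfsgLib CfsgLib.ClassK CfsgLib.ClassK.RowSieve CfsgLib.ClassK.RowInvolution
open CfsgLib.Recog.OrderM22 (dvd_value_sub)
open scoped Classical

universe u

variable {G : Type u} [Group G] [Finite G]

attribute [local instance high] decEqIrr

namespace Eleven

/-- An element with order prime to 23 commutes with no element of order 23. -/
theorem not_dvd_cen [IsSimpleGroup G] (h : Nat.card G = 10200960) {g : G} (hg : g ≠ 1)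
    (hg' : ¬ 23 ∣ orderOf g) : ¬ 23 ∣ Nat.card (Subgroup.centralizer ({g} : Set G)) := by
  intro hd
  have : Fact (Nat.Prime 23) := ⟨by norm_num⟩
  let P : Sylow 23 G := Classical.arbitrary _
  have hC := (config23 h P).1
  have hP : Nat.card P = 23 :=
    CfsgLib.Transfer.card_sylow_eq_prime P (by rw [h]; norm_num) (by rw [h]; norm_num)
  obtain ⟨k, hgk, hkC⟩ := exists_conj_mem P hP g hd
  obtain ⟨a, ha⟩ := isConj_iff.1 hgk
  have hko : orderOf k = orderOf g := by
    rw [← ha, show a * g * a⁻¹ = MulAut.conj a g from rfl, MulEquiv.orderOf_eq]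
  have hd' : orderOf g ∣ 23 := hC ▸ hko ▸ Subgroup.orderOf_dvd_natCard _ hkC
  rcases (Nat.dvd_prime (by norm_num)).1 hd' with h' | h'
  · exact hg (orderOf_eq_one_iff.1 h')
  · exact hg' (h' ▸ dvd_rfl)

/-- The degrees next to a self-centralising subgroup of order 23. -/
theorem degOK_dg [IsSimpleGroup G] (h : Nat.card G = 10200960) (φ : IrrCharacter G) :
    degOK (dg φ) = true := by
  have : Fact (Nat.Prime 23) := ⟨by norm_num⟩
  let P : Sylow 23 G := Classical.arbitrary _
  obtain ⟨hC, he⟩ := config23 h P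
  obtain ⟨B, M, CF, YF, ε, S, -, -⟩ :=
    exists_setup h (p := 23) (by norm_num) (by norm_num) (by norm_num) P (fun _ => true)
      (fun _ _ _ _ _ => rfl)
  have hw : B.w = 1 := by have := S.card_C; omega
  have hBe : B.e = 11 := by rw [← S.rows.e_eq, he]
  have ht : B.t ≠ 1 := by rw [Blk.t, hBe, S.prime_eq]; norm_num
  simp only [degOK, Bool.or_eq_true, decide_eq_true_eq]
  by_cases hb : φ ∈ CF ∪ YF
  · rcases Finset.mem_union.1 hb with hc | hy
    · have hm := S.rows.CF_mod φ hc
      rcases S.rows.eps_pm φ hc with e1 | e1 <;> rw [e1] at hm <;>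
        · change ((23 : ℕ) : ℤ) ∣ _ - (dg φ : ℤ) at hm
          omega
    · have hm := S.rows.d₀_mod ht
      rw [← S.rows.YF_deg φ hy] at hm
      rcases S.rows.sign with e1 | e1 <;> rw [e1, hBe] at hm <;>
        · change ((23 : ℕ) : ℤ) ∣ _ - (dg φ : ℤ) at hm
          omega
  · have := Nat.mod_eq_zero_of_dvd (S.dvd_deg hw hb)
    omega

/-- The principal block is invariant under the power maps prime to the group order. -/
theorem mem_principalBlock_comp_pow {M : Ideal AlgInt} {m : ℕ} (hm : m.Coprime (Nat.card G))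
    {φ ψ : IrrCharacter G} (hψ : ∀ g : G, (ψ : G → ℂ) g = (φ : G → ℂ) (g ^ m))
    (hφ : φ ∈ principalBlock M G) : ψ ∈ principalBlock M G := by
  intro g
  have hc : Subgroup.centralizer ({g ^ m} : Set G) = Subgroup.centralizer ({g} : Set G) := by
    obtain ⟨n, hn⟩ := exists_pow_eq_self_of_coprime (x := g) (n := m)
      (hm.coprime_dvd_right (orderOf_dvd_natCard g))
    ext x
    simp only [Subgroup.mem_centralizer_singleton_iff]
    refine ⟨fun h => ?_, fun h => ((show Commute x g from h).pow_right m).eq⟩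
    have := ((show Commute x (g ^ m) from h).pow_right n).eq
    rwa [hn] at this
  have h := hφ (g ^ m)
  simp only [centralChar, hc, hψ, one_pow] at h ⊢
  exact h

/-- The sum over the powers of an element of prime order counts the fixed vectors. -/
theorem exists_fixed {χ : G → ℂ} (hχ : IsCharacter G χ) {d : ℕ} (hd : χ 1 = d) {q : ℕ}
    (hq : q.Prime) {u : G} (hu : orderOf u = q) :
    ∃ n ≤ d, ∑ k ∈ Finset.range q, χ (u ^ k) = (q * n : ℕ) := by
  obtain ⟨m, ρ, rfl⟩ := hχ
  obtain ⟨ι, hι, b, μ, -, h2, h3, -⟩ := Char.exists_char_eigen ρ u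
  have hd' : Fintype.card ι = d := by
    have h0 := h3 0
    rw [pow_zero, hd] at h0
    simp only [pow_zero, Finset.sum_const, Finset.card_univ, nsmul_eq_mul, mul_one] at h0
    exact_mod_cast h0.symm
  refine ⟨(Finset.univ.filter fun i => μ i = 1).card, hd' ▸ Finset.card_le_univ _, ?_⟩
  simp only [h3]
  rw [Finset.sum_comm, Nat.cast_mul, Finset.card_filter, Nat.cast_sum, Finset.mul_sum]
  refine Finset.sum_congr rfl fun i _ => ?_
  by_cases h1 : μ i = 1
  · simp [h1]
  · have hp : IsPrimitiveRoot (μ i) q := by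
      have hμ : orderOf (μ i) = q :=
        ((Nat.dvd_prime hq).1 (orderOf_dvd_of_pow_eq_one (hu ▸ h2 i))).resolve_left
          fun h => h1 (orderOf_eq_one_iff.1 h)
      exact hμ ▸ IsPrimitiveRoot.orderOf (μ i)
    rw [hp.geom_sum_eq_zero hq.one_lt]
    simp [h1]

/-- A row with a character of degree 23 or 45 alone of its degree is impossible. -/
theorem false_of_alone [Fact (Nat.Prime 11)] {B : Blk} {M : Ideal AlgInt} {P : Sylow 11 G}
    {CF YF : Finset (IrrCharacter G)} {ε : IrrCharacter G → ℤ} (S : Setup 11 B M P CF YF ε)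
    (h : alone B = true) : False := by
  have := S.simple
  have : Fact (Nat.Prime 7) := ⟨by norm_num⟩
  have := Fintype.ofFinite G
  have := Fintype.ofFinite (IrrCharacter G)
  simp only [alone, Bool.and_eq_true, decide_eq_true_eq, List.any_eq_true, List.mem_cons,
    List.not_mem_nil, or_false, List.contains_iff_mem] at h
  obtain ⟨h7, d, hd, hmem, hcount⟩ := h
  obtain ⟨φ, hφ, hkey⟩ := Multiset.mem_map.1
    (show (d, true) ∈ (CF.erase oneChar).val.map (sKey ε) by rw [S.map]; exact hmem)
  obtain ⟨hφ1, hφC⟩ := Finset.mem_erase.1 hφ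
  simp only [sKey, Prod.mk.injEq, decide_eq_true_eq] at hkey
  obtain ⟨hdeg, -⟩ := hkey
  have hsing : ((CF ∪ YF).filter fun ψ => dg ψ = d).card = 1 := by
    rw [← hcount, ← Multiset.coe_count, ← S.degKeys_eq, Multiset.count_map]
    simp only [Finset.card_def, Finset.filter_val, eq_comm (a := d)]
  have huniq : ∀ ψ ∈ CF ∪ YF, dg ψ = d → ψ = φ := fun ψ hψ hψd =>
    Finset.card_le_one.1 hsing.le ψ (Finset.mem_filter.2 ⟨hψ, hψd⟩) φ
      (Finset.mem_filter.2 ⟨Finset.mem_union_left _ hφC, hdeg⟩)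
  have hφone : (φ : G → ℂ) 1 = (d : ℂ) := by
    rw [← BlockB.irr_degree_cast φ, show charDegree (φ : G → ℂ) = d from hdeg]
  have hfix : ∀ m : ℕ, m.Coprime (Nat.card G) → ∀ g : G, (φ : G → ℂ) (g ^ m) = (φ : G → ℂ) g := by
    intro m hm g
    let ψ : IrrCharacter G := ⟨_, BlockA.isIrrCharacter_comp_pow hm φ.2⟩
    have hψb : ψ ∈ CF ∪ YF := Finset.mem_union.2 ((S.rows.mem ψ).1
      (mem_principalBlock_comp_pow hm (fun _ => rfl) ((S.rows.mem φ).2 (Or.inl hφC))))
    have hψd : dg ψ = d := by
      rw [← hdeg]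
      show charDegree (fun g : G => (φ : G → ℂ) (g ^ m)) = charDegree (φ : G → ℂ)
      simp only [charDegree, one_pow]
    exact congrFun (congrArg Subtype.val (huniq ψ hψb hψd)) g
  obtain ⟨⟨u, huC⟩, hu⟩ := exists_prime_orderOf_dvd_card'
    (G := Subgroup.centralizer ((P : Subgroup G) : Set G)) 7
    (S.card_C ▸ dvd_mul_of_dvd_right (Nat.dvd_of_mod_eq_zero h7) 11)
  rw [Subgroup.orderOf_mk] at hu
  have hu1 : u ≠ 1 := fun e => by rw [e, orderOf_one] at hu; norm_num at hu
  obtain ⟨q, hq⟩ := Char.exists_rat_of_emb_fixed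
    (Char.charVal (Char.irr_isCharacter φ.2) u) fun σ => by
      obtain ⟨m, hm, hσ⟩ := Char.exists_pow_of_emb (Nat.card_pos (α := G)) σ
      rw [Char.emb_charVal (Char.irr_isCharacter φ.2) σ hσ u, hfix m hm]
      rfl
  have hint := BlockB.irr_isIntegral φ u
  change (φ : G → ℂ) u = (q : ℂ) at hq
  rw [hq] at hint
  obtain ⟨a, ha⟩ := Char.exists_int_of_isIntegral_rat hint
  have hua : (φ : G → ℂ) u = (a : ℂ) := by rw [hq, ha]; norm_num
  have hpow : ∀ j < 7, j ≠ 0 → (φ : G → ℂ) (u ^ j) = (a : ℂ) := by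
    intro j hj hj0
    obtain ⟨m, hm7, hm1⟩ := Nat.chineseRemainder (m := 1457280) (by norm_num : Nat.Coprime 7 1457280) j 1
    have hmG : m.Coprime (Nat.card G) := by
      rw [S.card, show (10200960 : ℕ) = 7 * 1457280 by norm_num]
      refine Nat.Coprime.mul_right (((by norm_num : Nat.Prime 7).coprime_iff_not_dvd.2 fun hd => ?_).symm)
        (by
          rw [Nat.Coprime, Nat.gcd_comm, Nat.gcd_rec, hm1]
          norm_num)
      have := hm7
      unfold Nat.ModEq at this
      omega
    rw [show u ^ j = u ^ m from pow_eq_pow_iff_modEq.2 (by rw [hu]; exact hm7.symm), hfix m hmG, hua]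
  have h11 : ((11 : ℕ) : ℤ) ∣ a - (d : ℤ) := by
    have := dvd_value_sub S.modular P S.card_P S.rows hφC huC (by rw [hu]; norm_num) hua
    rwa [show charDegree (φ : G → ℂ) = d from hdeg] at this
  obtain ⟨n, hn, hsum⟩ := exists_fixed (Char.irr_isCharacter φ.2) hφone (by norm_num : Nat.Prime 7) hu
  simp only [Finset.sum_range_succ, Finset.sum_range_zero, zero_add, pow_zero, hφone,
    hpow 1 (by norm_num) (by norm_num), hpow 2 (by norm_num) (by norm_num),
    hpow 3 (by norm_num) (by norm_num), hpow 4 (by norm_num) (by norm_num),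
    hpow 5 (by norm_num) (by norm_num), hpow 6 (by norm_num) (by norm_num)] at hsum
  have hsum' : (d : ℤ) + a + a + a + a + a + a = 7 * (n : ℤ) := by exact_mod_cast hsum
  have had : a = (d : ℤ) := by rcases hd with rfl | rfl <;> omega
  refine CfsgLib.Transfer.irr_apply_ne_apply_one φ (fun e => hφ1 (Subtype.ext e)) hu1 ?_
  rw [hua, hφone, had]
  norm_num

end Eleven

open Eleven

/-- The configuration at the prime eleven. -/
theorem config11 [IsSimpleGroup G] (h : Nat.card G = 10200960) (P : Sylow 11 G) :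
    Nat.card (Subgroup.centralizer ((P : Subgroup G) : Set G)) = 11 ∧
      (Subgroup.centralizer ((P : Subgroup G) : Set G)).relIndex
        (Subgroup.normalizer ((P : Subgroup G) : Set G)) = 5 := by
  have : Fact (Nat.Prime 11) := ⟨by norm_num⟩
  obtain ⟨B, M, CF, YF, ε, S, hcf, hB⟩ :=
    exists_setup h (p := 11) (by norm_num) (by norm_num) (by norm_num) P degOK
      (fun _ _ φ _ _ => degOK_dg h φ)
  have hchk := List.all_eq_true.1 check _ hcf
  simp only [Bool.or_eq_true, decide_eq_true_eq, Prod.mk.injEq] at hchk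
  rcases hchk with (⟨he, hw⟩ | h23) | hall
  · exact ⟨by rw [S.card_C, hw], by rw [S.rows.e_eq, he]⟩
  · exfalso
    obtain ⟨x, hx, hx1⟩ := S.exists_x
    have hxo : orderOf x = 11 := by
      have hd := Subgroup.orderOf_dvd_natCard (P : Subgroup G) hx
      rw [S.card_P] at hd
      exact ((Nat.dvd_prime Fact.out).1 hd).resolve_left fun h' => hx1 (orderOf_eq_one_iff.1 h')
    refine not_dvd_cen h hx1 (by rw [hxo]; norm_num) ?_
    refine (S.card_C ▸ dvd_mul_of_dvd_right (Nat.dvd_of_mod_eq_zero h23) 11).trans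
      (Subgroup.card_dvd_of_le fun g hg => ?_)
    exact Subgroup.mem_centralizer_singleton_iff.2 (Subgroup.mem_centralizer_iff.1 hg x hx).symm
  exfalso
  have hdead := List.all_eq_true.1 hall B hB
  simp only [dead, Bool.or_eq_true, Bool.and_eq_true, decide_eq_true_eq, List.all_eq_true,
    List.isEmpty_iff] at hdead
  rcases hdead with ha | ⟨hw2, hc⟩
  · exact false_of_alone S ha
  have : Fact (Nat.Prime 2) := ⟨Nat.prime_two⟩
  obtain ⟨⟨k, hkC⟩, hk⟩ := exists_prime_orderOf_dvd_card'
    (G := Subgroup.centralizer ((P : Subgroup G) : Set G)) 2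
    (S.card_C ▸ dvd_mul_of_dvd_right (Nat.dvd_of_mod_eq_zero hw2) 11)
  rw [Subgroup.orderOf_mk] at hk
  have hk1 : k ≠ 1 := fun e => by rw [e, orderOf_one] at hk; norm_num at hk
  obtain ⟨q, hq1, hq⟩ := exists_values h hk
  obtain ⟨y, hy, -⟩ := S.exists_vec hk q hq1 hq
  set Ck := Subgroup.centralizer ({k} : Set G) with hCk
  obtain ⟨x, hx, hx1⟩ := S.exists_x
  have hxo : orderOf x = 11 := by
    have hd := Subgroup.orderOf_dvd_natCard (P : Subgroup G) hx
    rw [S.card_P] at hd
    exact ((Nat.dvd_prime Fact.out).1 hd).resolve_left fun h' => hx1 (orderOf_eq_one_iff.1 h')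
  have hxk : x ∈ Ck := Subgroup.mem_centralizer_singleton_iff.2
    (Subgroup.mem_centralizer_iff.1 hkC x hx)
  have hkk : k ∈ Ck := Subgroup.mem_centralizer_singleton_iff.2 rfl
  obtain ⟨m, hm⟩ : 22 ∣ Nat.card Ck :=
    Nat.Coprime.mul_dvd_of_dvd_of_dvd (m := 2) (n := 11) (by norm_num)
      (hk ▸ Subgroup.orderOf_dvd_natCard Ck hkk) (hxo ▸ Subgroup.orderOf_dvd_natCard Ck hxk)
  have hd : Nat.card Ck ∣ 23 * 443520 := by
    have hd := Subgroup.card_subgroup_dvd_card Ck
    rwa [h, show (10200960 : ℕ) = 23 * 443520 by norm_num] at hd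
  have hd' : 22 * m ∣ 22 * 20160 := hm ▸ (Nat.Coprime.symm ((by norm_num : Nat.Prime 23).coprime_iff_not_dvd.2
    (not_dvd_cen h hk1 (by rw [hk]; norm_num)))).dvd_of_dvd_mul_left hd
  have hm20 : m ∣ 20160 := Nat.dvd_of_mul_dvd_mul_left (by norm_num) hd'
  have hempty := hc m (List.mem_filter.2
    ⟨mem_cenOrders (hm20.trans (by norm_num)), by simpa using Nat.mod_eq_zero_of_dvd hm20⟩)
  rw [hm, hempty] at hy
  exact List.not_mem_nil hy

end CfsgLib.Recog.OrderM23
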