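import Cfsg.Prelude.Def_Sporadic
import Cfsg.Agent.Lib.ClassK.RowSieve

/-!
# Simple groups of order 10200960: the part of the character table that the sieve yields

Interface between the block sieve and the count of elements of each order.
-/

set_option autoImplicit false

namespace CfsgLib.Recog.OrderM23

open Cfsg CfsgLib CfsgLib.Block

universe u

/-- The degrees. -/
def degs : Fin 17 → ℕ :=
  ![1, 22, 45, 45, 230, 231, 231, 231, 253, 770, 770, 896, 896, 990, 990, 1035, 2024]

/-- The values at the central involution. -/
def tv : Fin 17 → ℤ := ![1, 6, -3, -3, 22, 7, 7, 7, 13, -14, -14, 0, 0, -18, -18, 27, 8]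

/-- The centraliser of an element of order `p` has order `c`, the normaliser of its group order `n`. -/
def CentNorm (G : Type u) [Group G] (p c n : ℕ) : Prop :=
  ∀ x : G, orderOf x = p → Nat.card (Subgroup.centralizer ({x} : Set G)) = c ∧
    Nat.card (Subgroup.normalizer (Subgroup.zpowers x : Set G)) = n

/-- The known part of the table. -/
structure Table (G : Type u) [Group G] where
  simple : IsSimpleGroup G
  card : Nat.card G = 10200960
  five : CentNorm G 5 15 60
  seven : CentNorm G 7 14 42 ∨ CentNorm G 7 112 336
  eleven : CentNorm G 11 11 55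
  twentythree : CentNorm G 23 23 253
  χ : Fin 17 → IrrCharacter G
  bij : Function.Bijective χ
  deg : ∀ i, charDegree (χ i : G → ℂ) = degs i
  t : G
  ht : orderOf t = 2
  ct : Nat.card (Subgroup.centralizer ({t} : Set G)) = 2688
  tval : ∀ i, (χ i : G → ℂ) t = (tv i : ℂ)

end CfsgLib.Recog.OrderM23
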