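import Cfsg.Agent.Lib.Recog.OrderM23.Central
import Cfsg.Agent.Lib.Recog.OrderM23.Cover
import Cfsg.Agent.Lib.Recog.OrderM23.Eleven
import Cfsg.Agent.Lib.Recog.OrderM23.Table

/-!
# Simple groups of order 10200960: the table from the search
-/

set_option autoImplicit false
set_option synthInstance.maxSize 2000
set_option maxHeartbeats 1000000
set_option linter.unusedSectionVars false

namespace CfsgLib.Recog.OrderM23

open Cfsg CfsgLib CfsgLib.Block CfsgLib.ClassK CfsgLib.ClassK.RowSieve CfsgLib.ClassK.RowInvolution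
open CfsgLib.Recog.OrderM12 (admissible sum_sq_le)
open scoped ComplexConjugate Classical

universe u

variable {G : Type u} [Group G] [Finite G]

/-- Classical equality of characters. -/
noncomputable local instance (priority := high) decEqIrrA : DecidableEq (IrrCharacter G) :=
  Classical.decEq _

/-- The verdict of the search. -/
def SearchOK : Prop := ∀ c ∈ centralOrders, ∀ A ∈ listEleven, checkRow listFive c A = true

theorem exists_central_involution (h : Nat.card G = 10200960) :
    ∃ z : G, orderOf z = 2 ∧ 128 ∣ Nat.card (Subgroup.centralizer ({z} : Set G)) := by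
  have : Fact (Nat.Prime 2) := ⟨Nat.prime_two⟩
  obtain ⟨S⟩ := (inferInstance : Nonempty (Sylow 2 G))
  have hS : Nat.card (S : Subgroup G) = 128 := by
    rw [S.card_eq_multiplicity, h, show (10200960 : ℕ) = 128 * 79695 by norm_num,
      Nat.factorization_mul (by norm_num) (by norm_num), Finsupp.add_apply,
      Nat.factorization_eq_zero_of_not_dvd (show ¬ 2 ∣ 79695 by norm_num), add_zero,
      show (128 : ℕ) = 2 ^ 7 by norm_num, Nat.factorization_pow_self Nat.prime_two]
  have : Nontrivial (S : Subgroup G) := Finite.one_lt_card_iff_nontrivial.1 (by rw [hS]; norm_num)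
  have hZ : Nontrivial (Subgroup.center (S : Subgroup G)) := S.isPGroup'.center_nontrivial
  have h2 : 2 ∣ Nat.card (Subgroup.center (S : Subgroup G)) := by
    have hpos : 1 < Nat.card (Subgroup.center (S : Subgroup G)) := Finite.one_lt_card
    obtain ⟨n, hn⟩ := IsPGroup.iff_card.1 (S.isPGroup'.to_subgroup (Subgroup.center (S : Subgroup G)))
    rw [hn] at hpos ⊢
    rcases n with _ | n
    · simp at hpos
    · exact dvd_pow_self 2 (Nat.succ_ne_zero n)
  obtain ⟨⟨⟨z, hzS⟩, hz⟩, hzo⟩ :=
    exists_prime_orderOf_dvd_card' (G := Subgroup.center (S : Subgroup G)) 2 h2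
  rw [Subgroup.orderOf_mk, Subgroup.orderOf_mk] at hzo
  refine ⟨z, hzo, hS ▸ Subgroup.card_dvd_of_le fun a ha => Subgroup.mem_centralizer_singleton_iff.2 ?_⟩
  exact congrArg Subtype.val (Subgroup.mem_center_iff.1 hz ⟨a, ha⟩)

theorem exists_covered {p : ℕ} [Fact p.Prime] {B : Blk} {M : Ideal AlgInt} {P : Sylow p G}
    {CF YF : Finset (IrrCharacter G)} {ε : IrrCharacter G → ℤ} (S : Setup p B M P CF YF ε)
    {L : List Blk} (h : covers L B = true) :
    ∃ B' ∈ L, B'.w = B.w ∧ B'.e = B.e ∧ Setup p B' M P CF YF ε := by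
  obtain ⟨B', hB', hb⟩ := List.any_eq_true.1 h
  simp only [Bool.and_eq_true, decide_eq_true_eq] at hb
  obtain ⟨⟨⟨⟨⟨hp, he⟩, hw⟩, hd⟩, hσ⟩, hl⟩ := hb
  exact ⟨B', hB', hw, he, S.perm hp he hw hd hσ (List.isPerm_iff.1 hl)⟩

/-- A prime with self-centralising Sylow subgroups divides no other centraliser of a Sylow
subgroup of prime order. -/
theorem mod_ne_zero_of_selfCent {p q : ℕ} [hpf : Fact p.Prime] [hqf : Fact q.Prime] (hpq : p ≠ q)
    (hq1 : q ∣ Nat.card G) (hq2 : ¬ q ^ 2 ∣ Nat.card G) (P : Sylow p G) (hP : Nat.card P = p)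
    (hself : ∀ Q : Sylow q G, Nat.card (Subgroup.centralizer ((Q : Subgroup G) : Set G)) = q)
    {w : ℕ} (hw : Nat.card (Subgroup.centralizer ((P : Subgroup G) : Set G)) = p * w) :
    w % q ≠ 0 := by
  intro h0
  obtain ⟨⟨k, hkC⟩, hk⟩ := exists_prime_orderOf_dvd_card'
    (G := Subgroup.centralizer ((P : Subgroup G) : Set G)) q
    (hw ▸ dvd_mul_of_dvd_right (Nat.dvd_of_mod_eq_zero h0) p)
  rw [Subgroup.orderOf_mk] at hk
  obtain ⟨Q, hQ⟩ := (IsPGroup.of_card (n := 1) (by rw [Nat.card_zpowers, hk, pow_one]) :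
    IsPGroup q (Subgroup.zpowers k)).exists_le_sylow
  have hQc : Nat.card (Q : Subgroup G) = q :=
    CfsgLib.Transfer.card_sylow_eq_prime Q hq1 hq2
  have hk1 : k ≠ 1 := fun e => hqf.out.ne_one (by rw [← hk, e, orderOf_one])
  have hCk := BrauerReynolds.centralizer_mem_eq Q hQc (hQ (Subgroup.mem_zpowers k)) hk1
  have hle : (P : Subgroup G) ≤ Subgroup.centralizer ({k} : Set G) := fun a ha =>
    Subgroup.mem_centralizer_singleton_iff.2 (Subgroup.mem_centralizer_iff.1 hkC a ha)
  have hd := Subgroup.card_dvd_of_le hle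
  rw [hP, hCk, hself Q] at hd
  exact hpq ((Nat.prime_dvd_prime_iff_eq hpf.out hqf.out).1 hd)

/-- From the Sylow subgroups to the elements of order `p`. -/
theorem centNorm_of {p : ℕ} [hpf : Fact p.Prime] (hp1 : p ∣ Nat.card G) (hp2 : ¬ p ^ 2 ∣ Nat.card G)
    {C N : ℕ} (h : ∀ P : Sylow p G,
      Nat.card (Subgroup.centralizer ((P : Subgroup G) : Set G)) = C ∧
        (Subgroup.centralizer ((P : Subgroup G) : Set G)).relIndex
          (Subgroup.normalizer ((P : Subgroup G) : Set G)) * C = N) :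
    CentNorm G p C N := by
  intro x hx
  obtain ⟨P, hP⟩ := (IsPGroup.of_card (n := 1) (by rw [Nat.card_zpowers, hx, pow_one]) :
    IsPGroup p (Subgroup.zpowers x)).exists_le_sylow
  have hPc : Nat.card (P : Subgroup G) = p := CfsgLib.Transfer.card_sylow_eq_prime P hp1 hp2
  have heq : Subgroup.zpowers x = (P : Subgroup G) :=
    Subgroup.eq_of_le_of_card_ge hP (by rw [hPc, Nat.card_zpowers, hx])
  have hx1 : x ≠ 1 := fun e => hpf.out.ne_one (by rw [← hx, e, orderOf_one])
  obtain ⟨hC, hN⟩ := h P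
  refine ⟨by rw [BrauerReynolds.centralizer_mem_eq P hPc (hP (Subgroup.mem_zpowers x)) hx1, hC], ?_⟩
  rw [heq]
  set K := Subgroup.centralizer ((P : Subgroup G) : Set G)
  set H := Subgroup.normalizer ((P : Subgroup G) : Set G)
  have e1 : Nat.card (K.subgroupOf H) = C := by
    rw [Nat.card_congr (Subgroup.subgroupOfEquivOfLe (Subgroup.centralizer_le_normalizer _)).toEquiv,
      hC]
  rw [← (K.subgroupOf H).index_mul_card, e1]
  exact hN

/-- The configurations at five and seven and the members at a central involution. -/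
theorem exists_central [IsSimpleGroup G] [Fact (Nat.Prime 5)] [Fact (Nat.Prime 7)]
    [Fact (Nat.Prime 11)] [Fact (Nat.Prime 23)] (hG : Nat.card G = 10200960) (hok : SearchOK)
    (P5 : Sylow 5 G) (P7 : Sylow 7 G) :
    (Nat.card (Subgroup.centralizer ((P5 : Subgroup G) : Set G)) = 15 ∧
      (Subgroup.centralizer ((P5 : Subgroup G) : Set G)).relIndex
        (Subgroup.normalizer ((P5 : Subgroup G) : Set G)) = 4) ∧
    ((Nat.card (Subgroup.centralizer ((P7 : Subgroup G) : Set G)) = 14 ∨
        Nat.card (Subgroup.centralizer ((P7 : Subgroup G) : Set G)) = 112) ∧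
      (Subgroup.centralizer ((P7 : Subgroup G) : Set G)).relIndex
        (Subgroup.normalizer ((P7 : Subgroup G) : Set G)) = 3) ∧
    ∃ (z : G) (v : IrrCharacter G → ℤ) (U : Finset (IrrCharacter G)), InvVals z v ∧
      Nat.card (Subgroup.centralizer ({z} : Set G)) = 2688 ∧
      U.val.map (vKey v) = ↑target ∧ ∀ φ, φ ∉ U → 253 ∣ dg φ := by
  obtain ⟨P11⟩ := (inferInstance : Nonempty (Sylow 11 G))
  obtain ⟨P23⟩ := (inferInstance : Nonempty (Sylow 23 G))
  -- twenty-three
  obtain ⟨hC23, he23⟩ := config23 hG P23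
  obtain ⟨W, MW, CFW, YFW, εW, SW, -, -⟩ := exists_setup hG (p := 23) (by norm_num) (by norm_num)
    (by norm_num) P23 (fun _ => true) fun _ _ _ _ _ => rfl
  have hwW : W.w = 1 := by have := SW.card_C; omega
  have heW : W.e = 11 := by rw [← SW.rows.e_eq, he23]
  -- eleven
  obtain ⟨hC11, he11⟩ := config11 hG P11
  obtain ⟨A₀, MA, CFA, YFA, εA, SA₀, -, hrA⟩ := exists_setup hG (p := 11) (by norm_num) (by norm_num)
    (by norm_num) P11 allowEleven fun _ _ φ _ _ => by
      simpa [allowEleven, Eleven.degOK] using Eleven.degOK_dg hG φ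
  have hwA₀ : A₀.w = 1 := by have := SA₀.card_C; omega
  have heA₀ : A₀.e = 5 := by rw [← SA₀.rows.e_eq, he11]
  rw [heA₀, hwA₀] at hrA
  obtain ⟨A, hA, hwA', heA', SA⟩ :=
    exists_covered SA₀ (List.all_eq_true.1 cover_eleven A₀ (mem_rowsFast hrA))
  have hwA : A.w = 1 := hwA'.trans hwA₀
  have heA : A.e = 5 := heA'.trans heA₀
  -- five
  obtain ⟨B₀, MB, CFB, YFB, εB, SB₀, hcB, hrB⟩ := exists_setup hG (p := 5) (by norm_num) (by norm_num)
    (by norm_num) P5 allowed fun _ _ φ _ _ => by
      rw [allowed, Bool.or_eq_true, decide_eq_true_eq]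
      by_cases h : φ ∈ CFA ∪ YFA
      · right
        have hk := mem_of_mem_map dg SA.degKeys_eq h
        exact List.all_eq_true.1 (List.all_eq_true.1 degs_eleven A hA) _ hk
      · exact Or.inl (Nat.mod_eq_zero_of_dvd (SA.dvd_deg hwA h))
  have hsmall : ∀ {p : ℕ} [Fact p.Prime] (P : Sylow p G), Nat.card P = p → p ≠ 11 → p ≠ 23 →
      ∀ w, Nat.card (Subgroup.centralizer ((P : Subgroup G) : Set G)) = p * w →
        w % 11 ≠ 0 ∧ w % 23 ≠ 0 := fun P hP h1 h2 w hw =>
    ⟨mod_ne_zero_of_selfCent h1 (by rw [hG]; norm_num) (by rw [hG]; norm_num) P hP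
        (fun Q => (config11 hG Q).1) hw,
      mod_ne_zero_of_selfCent h2 (by rw [hG]; norm_num) (by rw [hG]; norm_num) P hP
        (fun Q => (config23 hG Q).1) hw⟩
  obtain ⟨hs11, hs23⟩ := hsmall P5 SB₀.card_P (by norm_num) (by norm_num) B₀.w SB₀.card_C
  obtain ⟨B, hB, hwB, heB, SB⟩ := exists_covered SB₀
    (List.all_eq_true.1 (List.all_eq_true.1 cover_five (B₀.e, B₀.w)
      (List.mem_filter.2 ⟨hcB, by simp [hs11, hs23]⟩)) B₀ (mem_rowsFast hrB))
  -- the central involution
  obtain ⟨z, hz, h128⟩ := exists_central_involution hG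
  obtain ⟨v, hv1, hv⟩ := exists_values hG hz
  have hV : InvVals z v := ⟨hz, hv1, hv⟩
  have hc : Nat.card (Subgroup.centralizer ({z} : Set G)) ∈ centralOrders := by
    refine mem_centralOrders ?_ h128
    set c := Nat.card (Subgroup.centralizer ({z} : Set G)) with hcdef
    have hn11 : ¬ 11 ∣ c := fun hd => by
      have hex := SA.not_excluded hz
      simp [excluded, SA.prime_eq, hwA, ← hcdef, Nat.mod_eq_zero_of_dvd hd] at hex
    have hn23 : ¬ 23 ∣ c := fun hd => by
      have hex := SW.not_excluded hz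
      simp [excluded, SW.prime_eq, hwW, ← hcdef, Nat.mod_eq_zero_of_dvd hd] at hex
    have hd := Subgroup.card_subgroup_dvd_card (Subgroup.centralizer ({z} : Set G))
    rw [hG, ← hcdef, show (10200960 : ℕ) = 23 * (11 * 40320) by norm_num] at hd
    exact Nat.Coprime.dvd_of_dvd_mul_left
      (((show Nat.Prime 11 by norm_num).coprime_iff_not_dvd.2 hn11).symm)
      (Nat.Coprime.dvd_of_dvd_mul_left
        (((show Nat.Prime 23 by norm_num).coprime_iff_not_dvd.2 hn23).symm) hd)
  have hcheck := hok _ hc A hA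
  obtain ⟨y, hy, hym⟩ := exists_stageEleven hV SA hwA heA
  obtain ⟨u, hu, hum⟩ := exists_stageFive hV hG SA hwA heA hym hB SB
  set U := (CFA ∪ YFA) ∪ (CFB ∪ YFB) with hUdef
  have hU11 : ∀ φ, φ ∉ U → 11 ∣ dg φ := fun φ hφ =>
    SA.dvd_deg hwA fun h => hφ (Finset.mem_union_left _ h)
  obtain ⟨u₂, hu₂, hum₂⟩ := exists_stageTwentyThree hV hG hum hU11
    (Finset.mem_union_left _ (Finset.mem_union_left _ SA.rows.one_mem)) SW hwW heW
  set U₂ := U ∪ (CFW ∪ YFW) with hU₂def
  have hU253 : ∀ φ, φ ∉ U₂ → 253 ∣ dg φ := fun φ hφ =>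
    Nat.Coprime.mul_dvd_of_dvd_of_dvd (m := 11) (n := 23) (by norm_num)
      (hU11 φ fun h => hφ (Finset.mem_union_left _ h))
      (SW.dvd_deg hwW fun h => hφ (Finset.mem_union_right _ h))
  have hleft := leftoverOK_of hV hG hum₂ hU253
  obtain ⟨C, MC, CFC, YFC, εC, SC, hC⟩ := mem_stageSeven hV hG hum₂ hU253 P7
    (hsmall P7 (CfsgLib.Transfer.card_sylow_eq_prime P7 (by rw [hG]; norm_num) (by rw [hG]; norm_num))
      (by norm_num) (by norm_num))
  rw [checkRow, List.all_eq_true] at hcheck
  have h1 := hcheck y hy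
  rw [checkY, forceU_eq, List.all_eq_true] at h1
  have h2 := h1 (B, u) hu
  rw [forceU_eq, List.all_eq_true] at h2
  have h3 := h2 u₂ hu₂
  rw [forceU_eq, finalOK, hleft, Bool.not_true, Bool.false_or, List.all_eq_true] at h3
  have h4 := h3 _ hC
  simp only [Bool.and_eq_true, Bool.or_eq_true, decide_eq_true_eq] at h4
  obtain ⟨⟨⟨⟨⟨hc2688, he5⟩, hw5⟩, he7⟩, hw7⟩, hperm⟩ := h4
  refine ⟨⟨by rw [SB.card_C, hw5], by rw [SB.rows.e_eq, he5]⟩, ⟨?_, by rw [SC.rows.e_eq, he7]⟩,
    z, v, U₂, hV, hc2688, ?_, hU253⟩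
  · rcases hw7 with e | e <;> rw [SC.card_C, e] <;> simp
  · rw [hum₂]
    exact Multiset.coe_eq_coe.2 (List.isPerm_iff.1 hperm)

/-- All characters with their values at the central involution. -/
def full : List (ℕ × ℤ) :=
  [(1, 1), (22, 6), (45, -3), (45, -3), (230, 22), (231, 7), (231, 7), (231, 7), (253, 13), (770, -14),
    (770, -14), (896, 0), (896, 0), (990, -18), (990, -18), (1035, 27), (2024, 8)]

theorem full_spec : ∀ i : Fin 17, full[i.1]? = some (degs i, tv i) := by decide +kernel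

/-- The table. -/
theorem nonempty_table_of [IsSimpleGroup G] (hG : Nat.card G = 10200960) (hok : SearchOK) :
    Nonempty (Table G) := by
  have : Fact (Nat.Prime 5) := ⟨by norm_num⟩
  have : Fact (Nat.Prime 7) := ⟨by norm_num⟩
  have : Fact (Nat.Prime 11) := ⟨by norm_num⟩
  have : Fact (Nat.Prime 23) := ⟨by norm_num⟩
  have := Fintype.ofFinite G
  have : Fintype (IrrCharacter G) := Fintype.ofFinite _
  obtain ⟨P5⟩ := (inferInstance : Nonempty (Sylow 5 G))
  obtain ⟨P7⟩ := (inferInstance : Nonempty (Sylow 7 G))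
  have h5 : CentNorm G 5 15 60 := centNorm_of (by rw [hG]; norm_num) (by rw [hG]; norm_num) fun P => by
    obtain ⟨⟨hC, he⟩, -, -⟩ := exists_central hG hok P P7
    exact ⟨hC, by rw [he]⟩
  have h23 : CentNorm G 23 23 253 :=
    centNorm_of (by rw [hG]; norm_num) (by rw [hG]; norm_num) fun P => by
      obtain ⟨hC, he⟩ := config23 hG P
      exact ⟨hC, by rw [he]⟩
  have h11 : CentNorm G 11 11 55 :=
    centNorm_of (by rw [hG]; norm_num) (by rw [hG]; norm_num) fun P => by
      obtain ⟨hC, he⟩ := config11 hG P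
      exact ⟨hC, by rw [he]⟩
  obtain ⟨-, ⟨hC7, he7⟩, z, v, U, hV, hc, hUm, hU⟩ := exists_central hG hok P5 P7
  have hsame : ∀ P : Sylow 7 G,
      Nat.card (Subgroup.centralizer ((P : Subgroup G) : Set G)) =
        Nat.card (Subgroup.centralizer ((P7 : Subgroup G) : Set G)) ∧
      (Subgroup.centralizer ((P : Subgroup G) : Set G)).relIndex
        (Subgroup.normalizer ((P : Subgroup G) : Set G)) = 3 := fun P => by
    obtain ⟨-, ⟨-, he⟩, -⟩ := exists_central hG hok P5 P
    have h1 := card_config P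
    have h2 := card_config P7
    rw [he] at h1
    rw [he7] at h2
    exact ⟨Nat.eq_of_mul_eq_mul_left (show 0 < 3 by norm_num)
      (Nat.eq_of_mul_eq_mul_left Nat.card_pos (h1.trans h2.symm)), he⟩
  have h7 : CentNorm G 7 14 42 ∨ CentNorm G 7 112 336 := by
    rcases hC7 with e | e
    · left
      refine centNorm_of (by rw [hG]; norm_num) (by rw [hG]; norm_num) fun P => ?_
      obtain ⟨h, he⟩ := hsame P
      exact ⟨h.trans e, by rw [he]⟩
    · right
      refine centNorm_of (by rw [hG]; norm_num) (by rw [hG]; norm_num) fun P => ?_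
      obtain ⟨h, he⟩ := hsame P
      exact ⟨h.trans e, by rw [he]⟩
  -- the last character
  set R := (Finset.univ : Finset (IrrCharacter G)) \ U with hR
  have hsq : ∑ φ : IrrCharacter G, dg φ * dg φ = 10200960 := by
    have h' := CfsgLib.Char.sum_irr_sq (G := G)
    simp only [← BlockB.irr_degree_cast, pow_two, hG] at h'
    exact_mod_cast h'
  have hUsq : ∑ φ ∈ U, dg φ * dg φ = 10136951 := by
    have e := sum_map_eq (vKey v) hUm fun a : ℕ × ℤ => a.1 * a.1
    simp only [vKey] at e
    exact e.symm.trans (by decide +kernel)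
  have hRsq : ∑ φ ∈ R, dg φ * dg φ = 64009 := by
    have h := Finset.sum_sdiff (f := fun φ : IrrCharacter G => dg φ * dg φ) (Finset.subset_univ U)
    rw [hsq, hUsq, ← hR] at h
    omega
  have hR253 : ∀ φ ∈ R, dg φ = 253 := fun φ hφ => by
    have hd := hU φ (Finset.mem_sdiff.1 hφ).2
    have h0 : 0 < dg φ := BlockB.irr_degree_pos φ
    have hle : dg φ * dg φ ≤ 64009 :=
      hRsq ▸ Finset.single_le_sum (f := fun φ : IrrCharacter G => dg φ * dg φ)
        (fun _ _ => Nat.zero_le _) hφ
    obtain ⟨k, hk⟩ := hd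
    rw [hk] at hle h0 ⊢
    rcases k with _ | _ | k
    · omega
    · rfl
    · nlinarith
  have hRcard : R.card = 1 := by
    rw [Finset.sum_congr rfl fun φ hφ => by rw [hR253 φ hφ], Finset.sum_const, smul_eq_mul] at hRsq
    omega
  obtain ⟨r, hr⟩ := Finset.card_eq_one.1 hRcard
  have hrU : r ∉ U := (Finset.mem_sdiff.1 (show r ∈ R by simp [hr])).2
  have hdr : dg r = 253 := hR253 r (by simp [hr])
  have horth : ∑ φ : IrrCharacter G, (dg φ : ℤ) * v φ = 0 := by
    have hne : ¬ IsConj (1 : G) z := fun h => by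
      obtain rfl : z = 1 := isConj_one_right.1 h
      simpa using hV.order
    have h := Char.column_orthogonality (1 : G) z
    rw [if_neg hne] at h
    have e : (((∑ φ : IrrCharacter G, ((dg φ : ℤ) * v φ : ℤ)) : ℤ) : ℂ) = 0 := by
      rw [← h, Int.cast_sum]
      refine Finset.sum_congr rfl fun φ _ => ?_
      rw [(hV.spec φ).1, map_intCast, ← BlockB.irr_degree_cast]
      push_cast
      rfl
    exact_mod_cast e
  have huniv : (Finset.univ : Finset (IrrCharacter G)) = insert r U := by
    ext φ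
    simp only [Finset.mem_univ, Finset.mem_insert, true_iff]
    by_cases h : φ ∈ U
    · exact Or.inr h
    · left
      have : φ ∈ R := Finset.mem_sdiff.2 ⟨Finset.mem_univ _, h⟩
      rwa [hr, Finset.mem_singleton] at this
  have hvr : v r = 13 := by
    have e := sum_map_eq (vKey v) hUm fun a : ℕ × ℤ => (a.1 : ℤ) * a.2
    simp only [vKey] at e
    rw [huniv, Finset.sum_insert hrU, ← e, hdr,
      show (target.map fun a : ℕ × ℤ => (a.1 : ℤ) * a.2).sum = -3289 from rfl] at horth
    push_cast at horth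
    omega
  have hfull : (insert r U).val.map (vKey v) = ↑full := by
    rw [Finset.insert_val_of_notMem hrU, Multiset.map_cons, hUm, vKey, hdr, hvr, Multiset.cons_coe]
    exact Multiset.coe_eq_coe.2 (List.isPerm_iff.1 (by decide +kernel))
  -- listing
  obtain ⟨L, hL, hLm⟩ := exists_list_map (vKey v) full (insert r U).val hfull
  have hlen : L.length = 17 := by rw [← List.length_map (vKey v), hLm]; rfl
  let χ : Fin 17 → IrrCharacter G := fun i => L.get (i.cast hlen.symm)
  have hnd : L.Nodup := by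
    rw [← Multiset.coe_nodup, hL]
    exact (insert r U).nodup
  have hbij : Function.Bijective χ := by
    refine ⟨fun i j hij => ?_, fun φ => ?_⟩
    · have h := hnd.injective_get hij
      exact Fin.ext (by simpa using congrArg Fin.val h)
    · have hφ : φ ∈ (insert r U).val := by
        show φ ∈ insert r U
        rw [← huniv]; exact Finset.mem_univ φ
      rw [← hL, Multiset.mem_coe] at hφ
      obtain ⟨k, hk⟩ := List.mem_iff_get.1 hφ
      exact ⟨k.cast hlen, by simpa [χ] using hk⟩
  have hval : ∀ i, vKey v (χ i) = (degs i, tv i) := fun i => by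
    have h := full_spec i
    rw [← hLm, List.getElem?_map] at h
    have hi : i.1 < L.length := by omega
    rw [List.getElem?_eq_getElem hi, Option.map_some, Option.some.injEq] at h
    exact h
  refine ⟨⟨inferInstance, hG, h5, h7, h11, h23, χ, hbij, fun i => congrArg Prod.fst (hval i), z,
    hV.order, hc, fun i => ?_⟩⟩
  rw [(hV.spec (χ i)).1, show v (χ i) = tv i from congrArg Prod.snd (hval i)]
where
  exists_list_map {α β : Type _} (f : α → β) :
      ∀ (l : List β) (m : Multiset α), m.map f = ↑l → ∃ L : List α, ↑L = m ∧ L.map f = l := by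
    intro l
    induction l with
    | nil => exact fun m h => ⟨[], (Multiset.map_eq_zero.1 h).symm, rfl⟩
    | cons b l ih =>
      intro m h
      have hb : b ∈ m.map f := by rw [h]; simp
      obtain ⟨a, ha, rfl⟩ := Multiset.mem_map.1 hb
      obtain ⟨m', rfl⟩ := Multiset.exists_cons_of_mem ha
      rw [Multiset.map_cons, ← Multiset.cons_coe, Multiset.cons_inj_right] at h
      obtain ⟨L, hL, hmap⟩ := ih m' h
      exact ⟨a :: L, by rw [← Multiset.cons_coe, hL], by rw [List.map_cons, hmap]⟩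

end CfsgLib.Recog.OrderM23
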