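import Cfsg.Agent.Lib.Recog.OrderM23.Sieve

/-!
# Simple groups of order 10200960: degree rows by a search carrying the signed totals
-/

set_option autoImplicit false

namespace CfsgLib.Recog.OrderM23

open CfsgLib.ClassK CfsgLib.ClassK.RowInvolution

/-- Multisets of `k` signed degrees with squares bounded by `10200960` whose totals pass `fin`. -/
noncomputable def combos (fin : ℕ → ℕ → Bool) (L : List (ℕ × Bool)) :
    ℕ → ℕ → ℕ → ℕ → List (List (ℕ × Bool)) :=
  List.rec (motive := fun _ => ℕ → ℕ → ℕ → ℕ → List (List (ℕ × Bool)))
    (fun k _ P M => cond (Nat.beq k 0) (cond (fin P M) [[]] []) [])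
    (fun c _ ih k => Nat.rec (motive := fun _ => ℕ → ℕ → ℕ → List (List (ℕ × Bool)))
      (fun _ P M => cond (fin P M) [[]] [])
      (fun k' ihk S P M => cond (Nat.ble (Nat.add S (Nat.mul c.1 c.1)) 10200960)
        (((cond c.2 (ihk (Nat.add S (Nat.mul c.1 c.1)) (Nat.add P c.1) M)
          (ihk (Nat.add S (Nat.mul c.1 c.1)) P (Nat.add M c.1))).map (c :: ·)) ++
            ih (Nat.succ k') S P M)
        (ih (Nat.succ k') S P M)) k) L

/-- The positive part of a signed sum. -/
def posSum (l : List (ℕ × Bool)) : ℕ := (l.map fun a => bif a.2 then a.1 else 0).sum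

/-- The negative part of a signed sum. -/
def negSum (l : List (ℕ × Bool)) : ℕ := (l.map fun a => bif a.2 then 0 else a.1).sum

theorem posSum_sub_negSum : ∀ l : List (ℕ × Bool),
    (posSum l : ℤ) - (negSum l : ℤ) = (l.map fun a => sgn a * (a.1 : ℤ)).sum
  | [] => rfl
  | (d, s) :: l => by
    have h := posSum_sub_negSum l
    simp only [posSum, negSum, List.map_cons, List.sum_cons] at h ⊢
    rcases s with - | - <;> simp [sgn] at h ⊢ <;> linarith

theorem nil_mem_combos (fin : ℕ → ℕ → Bool) {P M : ℕ} (hf : fin P M = true) :
    ∀ (L : List (ℕ × Bool)) (S : ℕ), [] ∈ combos fin L 0 S P M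
  | [], S => by simp [combos, hf]
  | c :: cs, S => by simp [combos, hf]

theorem mem_combos (fin : ℕ → ℕ → Bool) : ∀ (L : List (ℕ × Bool)) (k S P M : ℕ)
    {l : List (ℕ × Bool)}, l ∈ sols 10200960 L k S →
      fin (P + posSum l) (M + negSum l) = true → l ∈ combos fin L k S P M := by
  intro L
  induction L with
  | nil =>
    intro k S P M l hl hf
    rw [sols] at hl
    split_ifs at hl with hk
    · obtain rfl := List.mem_singleton.1 hl
      subst hk
      exact nil_mem_combos fin (by simpa [posSum, negSum] using hf) [] S
    · simp at hl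
  | cons c cs ih =>
    intro k
    induction k with
    | zero =>
      intro S P M l hl hf
      rw [sols, List.mem_flatMap] at hl
      obtain ⟨j, hj, hl⟩ := hl
      obtain rfl : j = 0 := by rw [List.mem_range] at hj; omega
      simp only [Nat.zero_mul, Nat.add_zero, Nat.sub_zero, List.replicate_zero, List.nil_append,
        List.map_id'] at hl
      split_ifs at hl
      · have hnil : ∀ (L : List (ℕ × Bool)) (S : ℕ) (l : List (ℕ × Bool)),
            l ∈ sols 10200960 L 0 S → l = [] := by
          intro L
          induction L with
          | nil => intro S l h; simpa [sols] using h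
          | cons d ds ih' =>
            intro S l h
            simp [sols] at h
            exact ih' _ _ h.2
        obtain rfl := hnil _ _ _ hl
        exact nil_mem_combos fin (by simpa [posSum, negSum] using hf) _ S
      · simp at hl
    | succ k ihk =>
      intro S P M l hl hf
      rw [sols, List.mem_flatMap] at hl
      obtain ⟨j, hj, hl⟩ := hl
      rw [List.mem_range] at hj
      split_ifs at hl with hle
      swap
      · simp at hl
      obtain ⟨l', hl', rfl⟩ := List.mem_map.1 hl
      rcases j with - | j
      · simp only [Nat.zero_mul, Nat.add_zero, Nat.sub_zero, List.replicate_zero, List.nil_append]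
          at hl' hf ⊢
        have h := ih (k + 1) S P M hl' hf
        simp only [combos] at h ⊢
        rcases Nat.ble (Nat.add S (Nat.mul c.1 c.1)) 10200960 with - | -
        · exact h
        · exact List.mem_append_right _ h
      · have hb : Nat.ble (Nat.add S (Nat.mul c.1 c.1)) 10200960 = true := by
          simp only [Nat.add_eq, Nat.mul_eq, Nat.ble_eq]
          rw [Nat.succ_mul] at hle
          omega
        have hmem : List.replicate j c ++ l' ∈ sols 10200960 (c :: cs) k (S + c.1 * c.1) := by
          rw [sols, List.mem_flatMap]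
          refine ⟨j, List.mem_range.2 (by omega), ?_⟩
          rw [if_pos (by rw [Nat.succ_mul] at hle; omega)]
          refine List.mem_map.2 ⟨l', ?_, rfl⟩
          rw [show k - j = k + 1 - (j + 1) by omega,
            show S + c.1 * c.1 + j * (c.1 * c.1) = S + (j + 1) * (c.1 * c.1) by ring]
          exact hl'
        obtain ⟨d, s⟩ := c
        simp only [combos, hb, cond_true]
        refine List.mem_append_left _ (List.mem_map.2 ⟨_, ?_, by
          rw [List.replicate_succ, List.cons_append]⟩)
        rcases s with - | -
        · exact ihk (S + d * d) P (M + d) hmem (by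
            simpa [posSum, negSum, List.replicate_succ, add_assoc] using hf)
        · exact ihk (S + d * d) (P + d) M hmem (by
            simpa [posSum, negSum, List.replicate_succ, add_assoc] using hf)

/-- The test on the totals of a row. -/
def finRow (t Mq P M : ℕ) : Bool :=
  cond (Nat.beq t 1) (Nat.beq P M)
    (cond (Nat.beq (Nat.add (Nat.sub P M) (Nat.sub M P)) 0) false
      (Nat.beq (Nat.mod Mq (Nat.add (Nat.sub P M) (Nat.sub M P))) 0))

/-- Evaluation of a list of numbers before use. -/
def forceNs {α : Type} : List ℕ → (List ℕ → α) → α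
  | [], f => f []
  | a :: as, f => forceN a fun d => forceNs as fun r => f (d :: r)

theorem forceNs_eq {α : Type} : ∀ (l : List ℕ) (f : List ℕ → α), forceNs l f = f l
  | [], _ => rfl
  | a :: as, f => by simp [forceNs, forceN_eq, forceNs_eq as]

/-- The degree rows of one configuration, as in `rowsOf`. -/
noncomputable def rowsFast (p e w : ℕ) (allow : ℕ → Bool) : List Blk :=
  forceN ((p - 1) / e) fun t => forceN (10200960 / (p * w)) fun Mq =>
  forceNs (degCands Mq allow) fun L =>
  forceN (if t = 1 then p - 1 else e - 1) fun k =>
  (combos (finRow t Mq) (signCands p L) k 1 1 0).flatMap fun l =>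
    let D := 1 + (l.map fun a => sgn a * (a.1 : ℤ)).sum
    let S := 1 + (l.map fun a => a.1 * a.1).sum
    if t = 1 then (if D = 0 then [⟨p, e, w, l, 0, 1⟩] else [])
    else L.flatMap fun (d : ℕ) =>
      if decide (S + t * (d * d) ≤ 10200960) then
        (if decide (D = (d : ℤ)) && decide (d % p = e % p) then [⟨p, e, w, l, d, 1⟩] else []) ++
          (if decide (D = -(d : ℤ)) && decide ((d + e) % p = 0) then [⟨p, e, w, l, d, -1⟩] else [])
      else []

theorem degList_ne_zero : ∀ d ∈ degList, d ≠ 0 := by decide +kernel

theorem mem_rowsFast {p e w : ℕ} {allow : ℕ → Bool} {B : Blk} (h : B ∈ rowsOf p e w allow) :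
    B ∈ rowsFast p e w allow := by
  rw [rowsOf, List.mem_flatMap] at h
  obtain ⟨l, hl, hbody⟩ := h
  simp only [rowsFast, forceN_eq, forceNs_eq, List.mem_flatMap]
  refine ⟨l, mem_combos _ _ _ _ _ _ hl ?_, hbody⟩
  have e1 := posSum_sub_negSum l
  set t := (p - 1) / e
  set P := 1 + posSum l with hP
  set M := 0 + negSum l with hM
  simp only [finRow, Nat.add_eq, Nat.sub_eq]
  by_cases ht : t = 1
  · simp only [if_pos ht] at hbody
    split_ifs at hbody with hD
    · rw [show Nat.beq t 1 = true by rw [ht]; rfl, cond_true, Nat.beq_eq]
      have : (P : ℤ) = M := by rw [hP, hM]; push_cast; linarith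
      exact_mod_cast this
    · simp at hbody
  · rw [show Nat.beq t 1 = false from Bool.eq_false_iff.2 fun h => ht (Nat.eq_of_beq_eq_true h),
      cond_false]
    simp only [if_neg ht, List.mem_flatMap] at hbody
    obtain ⟨d, hd, hb⟩ := hbody
    obtain ⟨hd1, hd2⟩ := List.mem_filter.1 hd
    simp only [Bool.and_eq_true, decide_eq_true_eq] at hd2
    have hd0 := degList_ne_zero d hd1
    have hD : P - M + (M - P) = d := by
      have e2 : (P : ℤ) - M = 1 + (l.map fun a => sgn a * (a.1 : ℤ)).sum := by
        rw [hP, hM]; push_cast; linarith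
      by_cases hS : 1 + (l.map fun a => a.1 * a.1).sum + t * (d * d) ≤ 10200960
      · rw [if_pos (by simpa using hS), List.mem_append] at hb
        rcases hb with hb | hb <;> split_ifs at hb with hh
        · simp only [Bool.and_eq_true, decide_eq_true_eq] at hh
          omega
        · simp at hb
        · simp only [Bool.and_eq_true, decide_eq_true_eq] at hh
          omega
        · simp at hb
      · rw [if_neg (by simpa using hS)] at hb
        simp at hb
    rw [hD, show Nat.beq d 0 = false from Bool.eq_false_iff.2 fun h =>
      hd0 (Nat.eq_of_beq_eq_true h), cond_false, Nat.beq_eq]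
    exact hd2.1

end CfsgLib.Recog.OrderM23
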