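import Cfsg.Agent.Lib.Recog.OrderM23.Search
import Cfsg.Agent.Lib.Recog.OrderM23.Combos

/-!
# Simple groups of order 10200960: the four stages of the search at a central involution

The members of the blocks at eleven, five, twenty-three and seven are collected one block after
the other; a member outside the block at eleven has degree divisible by eleven, and a member
outside the blocks at eleven and twenty-three has degree divisible by 253.
-/

set_option autoImplicit false

namespace CfsgLib.Recog.OrderM23

noncomputable section

open CfsgLib.ClassK CfsgLib.ClassK.RowInvolution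

/-- Evaluation of members with values before use. -/
def forceU {α : Type} : List (ℕ × ℤ) → (List (ℕ × ℤ) → α) → α
  | [], f => f []
  | a :: as, f => forceN a.1 fun d => forceZ a.2 fun v => forceU as fun r => f ((d, v) :: r)

theorem forceU_eq {α : Type} : ∀ (l : List (ℕ × ℤ)) (f : List (ℕ × ℤ) → α), forceU l f = f l
  | [], _ => rfl
  | a :: as, f => by simp [forceU, forceN_eq, forceZ_eq, forceU_eq as]

/-- Evaluation of a sign before use. -/
def forceB {α : Type} (b : Bool) (f : Bool → α) : α := bif b then f true else f false

theorem forceB_eq {α : Type} (b : Bool) (f : Bool → α) : forceB b f = f b := by cases b <;> rfl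

/-- Evaluation of signed degrees before use. -/
def forceK {α : Type} : List (ℕ × Bool) → (List (ℕ × Bool) → α) → α
  | [], f => f []
  | a :: as, f => forceN a.1 fun d => forceB a.2 fun b => forceK as fun r => f ((d, b) :: r)

theorem forceK_eq {α : Type} : ∀ (l : List (ℕ × Bool)) (f : List (ℕ × Bool) → α), forceK l f = f l
  | [], _ => rfl
  | a :: as, f => by simp [forceK, forceN_eq, forceB_eq, forceK_eq as]

/-- Evaluation of signed members with values before use. -/
def forceR {α : Type} : List ((ℕ × Bool) × ℤ) → (List ((ℕ × Bool) × ℤ) → α) → α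
  | [], f => f []
  | a :: as, f => forceN a.1.1 fun d => forceB a.1.2 fun b => forceZ a.2 fun v =>
      forceR as fun r => f (((d, b), v) :: r)

theorem forceR_eq {α : Type} :
    ∀ (l : List ((ℕ × Bool) × ℤ)) (f : List ((ℕ × Bool) × ℤ) → α), forceR l f = f l
  | [], _ => rfl
  | a :: as, f => by simp [forceR, forceN_eq, forceB_eq, forceZ_eq, forceR_eq as]

/-- Evaluation of a row before use. -/
def forceW {α : Type} (W : Blk) (f : Blk → α) : α :=
  forceN W.p fun p => forceN W.e fun e => forceN W.w fun w => forceK W.l fun l =>
    forceN W.d fun d => forceZ W.σ fun σ => f ⟨p, e, w, l, d, σ⟩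

theorem forceW_eq {α : Type} (W : Blk) (f : Blk → α) : forceW W f = f W := by
  simp [forceW, forceN_eq, forceZ_eq, forceK_eq]

/-- The cost of a value: its square. -/
def sqCost (_ : ℕ) (v : ℤ) : ℕ := v.natAbs * v.natAbs

/-- The test closing a block with `t` exceptional members of sign `pos` and weight `k0`. -/
def finE (B t : ℕ) (pos : Bool) (k0 : ℕ) (AP AM P M F : ℕ) : Bool :=
  cond (Nat.ble (Nat.add F (Nat.mul t (Nat.mul (Nat.add (Nat.sub AP AM) (Nat.sub AM AP))
      (Nat.add (Nat.sub AP AM) (Nat.sub AM AP))))) B)
    (cond pos
      (Nat.beq P (Nat.add M (Nat.mul (Nat.mul (Nat.add (Nat.sub AP AM) (Nat.sub AM AP))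
        (Nat.add (Nat.sub AP AM) (Nat.sub AM AP))) k0)))
      (Nat.beq (Nat.add P (Nat.mul (Nat.mul (Nat.add (Nat.sub AP AM) (Nat.sub AM AP))
        (Nat.add (Nat.sub AP AM) (Nat.sub AM AP))) k0)) M)) false

/-- The rows with values at eleven. -/
def stageEleven (c : ℕ) (A : Blk) : List (List (ℕ × ℤ)) :=
  if excluded A c then [] else
    forceN (10200960 / A.d) fun k0 => forceN (c - 1) fun B =>
    forceB (decide (A.σ = 1)) fun pos =>
    (searchAll B true sqCost (finE B 2 pos k0) (fastVals 11 c)
      (bif pos then 0 else k0) (bif pos then k0 else 0) A.l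
      1 0 10200960 0).flatMap fun r => forceR r (members A c)

/-- The test closing a block next to known members. -/
def finNext (B t : ℕ) (AP AM _P _M F : ℕ) : Bool :=
  cond (Nat.ble F B) (cond (Nat.beq t 1) (Nat.beq AP AM) true) false

/-- The rows with values next to the collected members `u`; a member outside has degree divisible
by `k`. -/
def stageNext (k : ℕ) (c : ℕ) (B : Blk) (u : List (ℕ × ℤ)) : List (List (ℕ × ℤ)) :=
  if excluded B c then [] else
    forceN (c - (u.map fun a => a.2.natAbs * a.2.natAbs).sum) fun Bd => forceN B.t fun t =>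
    (searchAll Bd false
      (fun d v => bif decide (d % k = 0) && !u.contains (d, v) then sqCost d v else 0)
      (finNext Bd t)
      (fun d => (fastVals B.p c d).filter fun v => decide (d % k = 0) || u.contains (d, v))
      0 0 B.l 1 0 10200960 0).flatMap fun r => forceR r (members B c)

/-- The collected members with the block at five. -/
def stageFive (rows : List Blk) (c : ℕ) (y : List (ℕ × ℤ)) : List (Blk × List (ℕ × ℤ)) :=
  rows.flatMap fun B =>
    let dy := y.map Prod.fst
    if leL ((degKeys B).filter fun d => decide (d % 11 ≠ 0)) dy &&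
        sqOK (dy ++ (degKeys B).filter fun d => decide (d % 11 = 0)) then
      (stageNext 11 c B y).flatMap fun z => forceU z fun z =>
        if leL (z.filter fun a => decide (a.1 % 11 ≠ 0)) y &&
            normOK c (y ++ z.filter fun a => decide (a.1 % 11 = 0)) then
          [(B, y ++ z.filter fun a => decide (a.1 % 11 = 0))]
        else []
    else []

/-- The degrees of free members of the block at twenty-three. -/
def freeCands : List (ℕ × Bool) :=
  [(22, false), (231, true), (528, false), (990, true), (1540, false)]

/-- The sign of a member at twenty-three. -/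
def key23 (a : ℕ × ℤ) : ℕ × Bool := (a.1, decide (a.1 % 23 = 1))

/-- Is the member exceptional at twenty-three? -/
def isExc (a : ℕ × ℤ) : Bool := decide (a.1 % 23 = 11) || decide (a.1 % 23 = 12)

/-- The known members of the block at twenty-three, trivial one apart: nonexceptional. -/
def knownCF (u : List (ℕ × ℤ)) : List (ℕ × ℤ) :=
  u.filter fun a => decide (a.1 % 23 ≠ 0) && decide (a.1 ≠ 1) && !isExc a

/-- The known exceptional members at twenty-three. -/
def knownYF (u : List (ℕ × ℤ)) : List (ℕ × ℤ) :=
  u.filter fun a => decide (a.1 % 23 ≠ 0) && isExc a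

/-- The free nonexceptional members at twenty-three, by degrees. -/
def freeRows (u : List (ℕ × ℤ)) : List (List (ℕ × Bool)) :=
  forceN (knownCF u).length fun n => if 10 < n then [] else
    forceN (10 - n) fun k => forceN (u.map fun a => a.1 * a.1).sum fun S =>
    sols 10200960 freeCands k S

/-- The row at twenty-three with given free members. -/
def rowTwentyThree (u : List (ℕ × ℤ)) (fl : List (ℕ × Bool)) : Blk :=
  let l := (knownCF u).map key23 ++ fl
  let D := 1 + (l.map fun a => sgn a * (a.1 : ℤ)).sum
  ⟨23, 11, 1, l, D.natAbs, if 0 ≤ D then 1 else -1⟩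

/-- Is the exceptional degree admissible? -/
def excDegOK (W : Blk) (n : ℕ) : Bool :=
  Nat.beq (10200960 % W.d) 0 &&
    (bif decide (W.σ = 1) then Nat.beq (W.d % 23) 11 else Nat.beq (W.d % 23) 12) &&
    (Nat.ble 2 n || Nat.beq (W.d % 11) 0)

/-- The test closing the block at twenty-three. -/
def finFree (B : ℕ) (nx : List (ℕ × ℤ)) (σ : ℤ) (k0 : ℕ) (AP AM P M F : ℕ) : Bool :=
  match nx with
  | [] => finE B 2 (decide (σ = 1)) k0 AP AM P M F
  | a :: _ => Nat.ble F B && Nat.beq P M && decide (σ * ((AP : ℤ) - (AM : ℤ)) = a.2)

/-- The weight of a known exceptional member. -/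
def excWt (nx : List (ℕ × ℤ)) (k0 : ℕ) : ℕ :=
  match nx with
  | [] => 0
  | a :: _ => a.2.natAbs * a.2.natAbs * k0

/-- The bound for a free exceptional member. -/
def excBound (nx : List (ℕ × ℤ)) (pos : Bool) (k0 : ℕ) : ℕ :=
  match nx with
  | [] => bif pos then k0 else 0
  | _ :: _ => 0

/-- The collected members with the block at twenty-three, for given free members. -/
def stageFree (c : ℕ) (u : List (ℕ × ℤ)) (W : Blk) (fl : List (ℕ × Bool)) : List (List (ℕ × ℤ)) :=
  forceU (knownCF u) fun ne => forceU (knownYF u) fun nx => forceB (decide (W.σ = 1)) fun pos =>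
  if excDegOK W nx.length && nx.all (fun a => decide (a.1 = W.d)) &&
      sqOK (u.map Prod.fst ++ fl.map Prod.fst ++ List.replicate (2 - nx.length) W.d) &&
      !excluded W c then
    forceN (c - (u.map fun a => a.2.natAbs * a.2.natAbs).sum) fun Bd =>
    forceN (10200960 / W.d) fun k0 =>
    forceN (1 + (ne.map fun a => apOf (key23 a) a.2).sum) fun AP =>
    forceN (ne.map fun a => amOf (key23 a) a.2).sum fun AM =>
    forceN (10200960 + (ne.map fun a => pOf (key23 a) a.2).sum +
      (bif pos then 0 else excWt nx k0)) fun P =>
    forceN ((ne.map fun a => mOf (key23 a) a.2).sum + (bif pos then excWt nx k0 else 0)) fun M =>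
    (searchAll Bd true sqCost (finFree Bd nx W.σ k0) (fastVals 23 c)
      (excBound nx (!pos) k0) (excBound nx pos k0) fl AP AM P M).flatMap fun r => forceR r fun r =>
      (members W c ((ne.map fun a => (key23 a, a.2)) ++ r)).flatMap fun y =>
        [u ++ y.diff (u.filter fun a => decide (a.1 % 23 ≠ 0))]
  else []

/-- The collected members with the block at twenty-three. -/
def stageTwentyThree (c : ℕ) (u : List (ℕ × ℤ)) : List (List (ℕ × ℤ)) :=
  (freeRows u).flatMap fun fl => forceK fl fun fl =>
    forceW (rowTwentyThree u fl) fun W => stageFree c u W fl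

/-- The members outside the blocks at eleven and twenty-three have degree divisible by 253. -/
def leftoverOK (c : ℕ) (u : List (ℕ × ℤ)) : Bool :=
  let S := (u.map fun a => a.1 * a.1).sum
  let Q : ℤ := (u.map fun a => a.2 * a.2).sum
  let Sd : ℤ := (u.map fun a => (a.1 : ℤ) * a.2).sum
  decide (S ≤ 10200960) && decide (Q ≤ (c : ℤ)) && decide ((10200960 - S) % 64009 = 0) &&
    decide (Sd % 253 = 0) &&
    decide ((Sd / 253) * (Sd / 253) ≤ (((10200960 - S) / 64009 : ℕ) : ℤ) * ((c : ℤ) - Q))

/-- The configurations at `p` prime to eleven and twenty-three. -/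
def smallConfigs (p : ℕ) : List (ℕ × ℕ) :=
  (configs p).filter fun a => decide (a.2 % 11 ≠ 0) && decide (a.2 % 23 ≠ 0)

/-- The configurations at seven possible next to the collected members. -/
def stageSeven (c : ℕ) (u : List (ℕ × ℤ)) : List (ℕ × ℕ) :=
  let du := u.map Prod.fst
  (smallConfigs 7).filter fun cw => forceN cw.1 fun e => forceN cw.2 fun w =>
    (rowsFast 7 e w fun d => decide (d % 253 = 0) || du.contains d).any fun B =>
      sqOK (unionL du (degKeys B)) &&
        (stageNext 253 c B u).any fun g => normOK c (unionL u g)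

/-- All members with values at the central involution. -/
def target : List (ℕ × ℤ) :=
  [(1, 1), (22, 6), (45, -3), (45, -3), (230, 22), (231, 7), (231, 7), (231, 7), (770, -14),
    (770, -14), (896, 0), (896, 0), (990, -18), (990, -18), (1035, 27), (2024, 8)]

/-- The verdict on the collected members. -/
def finalOK (c : ℕ) (B : Blk) (u : List (ℕ × ℤ)) : Bool :=
  !leftoverOK c u || (stageSeven c u).all fun cw =>
    decide (c = 2688) && decide (B.e = 4) && decide (B.w = 3) && decide (cw.1 = 3) &&
      (decide (cw.2 = 2) || decide (cw.2 = 16)) && u.isPerm target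

/-- The search from one row with values at eleven. -/
def checkY (rows : List Blk) (c : ℕ) (y : List (ℕ × ℤ)) : Bool :=
  forceU y fun y => (stageFive rows c y).all fun Bu =>
    forceU Bu.2 fun u₀ => (stageTwentyThree c u₀).all fun u => forceU u fun u => finalOK c Bu.1 u

/-- The whole search for one row at eleven and one centraliser order. -/
def checkRow (rows : List Blk) (c : ℕ) (A : Blk) : Bool :=
  (stageEleven c A).all (checkY rows c)

end

end CfsgLib.Recog.OrderM23
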