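import Cfsg.Agent.Lib.Recog.OrderM23.Members
import Cfsg.Agent.Lib.Recog.OrderM23.Stages

/-!
# Simple groups of order 10200960: the blocks feed the stages of the search
-/

set_option autoImplicit false
set_option synthInstance.maxSize 2000
set_option linter.unusedSectionVars false

namespace CfsgLib.Recog.OrderM23

open Cfsg CfsgLib CfsgLib.Block CfsgLib.ClassK CfsgLib.ClassK.RowSieve CfsgLib.ClassK.RowInvolution
open CfsgLib.Recog.OrderM12 (admissible sum_sq_le)
open scoped Classical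

universe u

variable {G : Type u} [Group G] [Finite G]

/-- Classical equality of characters. -/
noncomputable local instance (priority := high) decEqIrrB : DecidableEq (IrrCharacter G) :=
  Classical.decEq _

/-- The values of the characters at an involution. -/
structure InvVals (g : G) (v : IrrCharacter G → ℤ) : Prop where
  order : orderOf g = 2
  one : v oneChar = 1
  spec : ∀ φ : IrrCharacter G, (φ : G → ℂ) g = v φ ∧ (φ ≠ oneChar → v φ ∈ qRange (dg φ) ∧
    admissible 10200960 (Nat.card (Subgroup.centralizer ({g} : Set G))) (dg φ) (v φ) = true)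

section Lists

variable {α : Type*} (K : IrrCharacter G → α) {X : Finset (IrrCharacter G)} {l : List α}

theorem filter_map_eq (P : α → Bool) (h : X.val.map K = ↑l) :
    (X.filter fun φ => P (K φ) = true).val.map K = ↑(l.filter P) := by
  have e : (↑(l.filter P) : Multiset α) = (↑l : Multiset α).filter fun a => P a = true := by
    rw [Multiset.filter_coe]
    congr 2
    funext a
    simp
  rw [e, ← h, Multiset.filter_map, Finset.filter_val]
  rfl

theorem union_map_eq {Y : Finset (IrrCharacter G)} {m : List α} (hX : X.val.map K = ↑l)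
    (hY : Y.val.map K = ↑m) (hd : Disjoint X Y) : (X ∪ Y).val.map K = ↑(l ++ m) := by
  rw [← Finset.disjUnion_eq_union _ _ hd, Finset.disjUnion_val, Multiset.map_add, hX, hY,
    Multiset.coe_add]

theorem sum_map_eq {β : Type*} [AddCommMonoid β] (h : X.val.map K = ↑l) (F : α → β) :
    (l.map F).sum = ∑ φ ∈ X, F (K φ) := by
  rw [← Multiset.sum_coe, ← Multiset.map_coe, ← h, Multiset.map_map]
  rfl

theorem le_of_subset {Y : Finset (IrrCharacter G)} {m : List α} (hX : X.val.map K = ↑l)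
    (hY : Y.val.map K = ↑m) (hs : X ⊆ Y) : (↑l : Multiset α) ≤ ↑m := by
  rw [← hX, ← hY]
  exact Multiset.map_le_map (Finset.val_le_iff.2 hs)

theorem mem_of_mem_map (h : X.val.map K = ↑l) {φ : IrrCharacter G} (hφ : φ ∈ X) : K φ ∈ l := by
  have h' := Multiset.mem_map_of_mem K (show φ ∈ X.val from hφ)
  rwa [h] at h'

end Lists

theorem deg_map {v : IrrCharacter G → ℤ} {X : Finset (IrrCharacter G)} {u : List (ℕ × ℤ)}
    (h : X.val.map (vKey v) = ↑u) : X.val.map dg = ↑(u.map Prod.fst) := by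
  rw [← Multiset.map_coe, ← h, Multiset.map_map]
  rfl

theorem sum_deg_sq_le (h : Nat.card G = 10200960) (U : Finset (IrrCharacter G)) :
    ∑ φ ∈ U, dg φ * dg φ ≤ 10200960 := by
  have := Fintype.ofFinite G
  have : Fintype (IrrCharacter G) := Fintype.ofFinite _
  have h' := CfsgLib.Char.sum_irr_sq (G := G)
  simp only [← BlockB.irr_degree_cast, pow_two, h] at h'
  have h'' : ∑ ψ : IrrCharacter G, dg ψ * dg ψ = 10200960 := by exact_mod_cast h'
  exact (Finset.sum_le_univ_sum_of_nonneg fun _ => Nat.zero_le _).trans_eq h''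

/-- Unions of degree lists respect the bound on squares. -/
theorem sqOK_of (h : Nat.card G = 10200960) (U : Finset (IrrCharacter G)) {u : List ℕ}
    (hu : (↑u : Multiset ℕ) ≤ U.val.map dg) : sqOK u = true := by
  have hle := sum_deg_sq_le h U
  obtain ⟨rest, hrest⟩ := Multiset.le_iff_exists_add.1 hu
  have hs : ∑ ψ ∈ U, dg ψ * dg ψ = ((U.val.map dg).map fun d => d * d).sum := by
    rw [Multiset.map_map]; rfl
  rw [hs, hrest, Multiset.map_add, Multiset.sum_add, Multiset.map_coe, Multiset.sum_coe] at hle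
  rw [sqOK, decide_eq_true_eq]
  omega

/-- Unions of members with values respect the norm. -/
theorem normOK_of {g : G} {v : IrrCharacter G → ℤ} (hV : InvVals g v)
    (U : Finset (IrrCharacter G)) {u : List (ℕ × ℤ)}
    (hu : (↑u : Multiset (ℕ × ℤ)) ≤ U.val.map (vKey v)) :
    normOK (Nat.card (Subgroup.centralizer ({g} : Set G))) u = true := by
  obtain ⟨rest, hrest⟩ := Multiset.le_iff_exists_add.1 hu
  have : Fintype (IrrCharacter G) := Fintype.ofFinite _
  rw [normOK, decide_eq_true_eq]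
  have h := sum_sq_le g U v fun φ _ => (hV.spec φ).1
  have e : ∑ φ ∈ U, v φ * v φ = ((U.val.map (vKey v)).map fun k => k.2 * k.2).sum := by
    rw [Multiset.map_map]; rfl
  rw [e, hrest, Multiset.map_add, Multiset.sum_add, Multiset.map_coe, Multiset.sum_coe] at h
  have hnn : 0 ≤ (rest.map fun k : ℕ × ℤ => k.2 * k.2).sum := Multiset.sum_nonneg fun a ha => by
    obtain ⟨k, -, rfl⟩ := Multiset.mem_map.1 ha
    exact mul_self_nonneg _
  linarith

theorem natAbs_sq_sum {ι : Type*} (s : Finset ι) (q : ι → ℤ) :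
    ((∑ i ∈ s, (q i).natAbs * (q i).natAbs : ℕ) : ℤ) = ∑ i ∈ s, q i * q i := by
  rw [Nat.cast_sum]
  exact Finset.sum_congr rfl fun i _ => by rw [Nat.cast_mul, Int.natAbs_mul_self']

theorem pOf_sub_mOf (a : ℕ × Bool) (v : ℤ) : (pOf a v : ℤ) - (mOf a v : ℤ) = coef a * (v * v) := by
  have e : ((v.natAbs * v.natAbs : ℕ) : ℤ) = v * v := by rw [Nat.cast_mul, Int.natAbs_mul_self']
  rcases a with ⟨d, s⟩
  rcases s with - | - <;> simp only [pOf, mOf, wt, coef, sgn, cond_true, cond_false, Bool.false_eq_true,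
    if_false, if_true, Nat.cast_mul, Nat.cast_zero] <;> rw [Nat.cast_mul] at e <;> rw [e] <;> ring

theorem finE_of {B t : ℕ} {pos : Bool} {k0 AP AM P M F : ℕ} {A σ : ℤ}
    (hA : (AP : ℤ) - AM = A) (hF : (F : ℤ) + (t : ℤ) * (A * A) ≤ (B : ℤ))
    (hσ : σ = 1 ∧ pos = true ∨ σ = -1 ∧ pos = false)
    (hE : (P : ℤ) - M = σ * (A * A) * k0) : finE B t pos k0 AP AM P M F = true := by
  have ha : ((AP - AM + (AM - AP) : ℕ) : ℤ) * ((AP - AM + (AM - AP) : ℕ) : ℤ) = A * A := by
    rw [← hA]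
    rcases le_total AM AP with h | h
    · rw [Nat.sub_eq_zero_of_le h, Nat.add_zero, Nat.cast_sub h]
    · rw [Nat.sub_eq_zero_of_le h, Nat.zero_add, Nat.cast_sub h]; ring
  set a := AP - AM + (AM - AP) with haa
  rw [← ha] at hF hE
  simp only [finE, Nat.add_eq, Nat.sub_eq, Nat.mul_eq, ← haa, Bool.cond_false_right, Bool.and_eq_true,
    Nat.ble_eq]
  refine ⟨by exact_mod_cast hF, ?_⟩
  rcases hσ with ⟨rfl, rfl⟩ | ⟨rfl, rfl⟩
  · simp only [cond_true, Nat.beq_eq]
    have : (P : ℤ) = ((M + a * a * k0 : ℕ) : ℤ) := by push_cast; linarith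
    exact_mod_cast this
  · simp only [cond_false, Nat.beq_eq]
    have : ((P + a * a * k0 : ℕ) : ℤ) = (M : ℤ) := by push_cast; linarith
    exact_mod_cast this

theorem finE_spec {B t : ℕ} {pos : Bool} {k0 AP AM P M F : ℕ} (ht : 1 ≤ t)
    (h : finE B t pos k0 AP AM P M F = true) :
    F ≤ B ∧ M ≤ P + (B - F) * (bif pos then 0 else k0) ∧
      P ≤ M + (B - F) * (bif pos then k0 else 0) := by
  simp only [finE, Nat.add_eq, Nat.sub_eq, Nat.mul_eq, Bool.cond_false_right, Bool.and_eq_true,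
    Nat.ble_eq] at h
  obtain ⟨h1, h2⟩ := h
  set aa := (AP - AM + (AM - AP)) * (AP - AM + (AM - AP))
  have h3 : aa ≤ t * aa := Nat.le_mul_of_pos_left _ ht
  have h4 : aa * k0 ≤ (B - F) * k0 := Nat.mul_le_mul_right _ (by omega)
  rcases pos with - | - <;> simp only [cond_true, cond_false, Nat.beq_eq, Nat.mul_zero] at h2 ⊢ <;>
    refine ⟨by omega, ?_, ?_⟩ <;> omega

/-- Signed totals as natural numbers. -/
theorem totals_cast (s : Finset (IrrCharacter G)) (K : IrrCharacter G → ℕ × Bool)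
    (v : IrrCharacter G → ℤ) :
    ((∑ φ ∈ s, apOf (K φ) (v φ) : ℕ) : ℤ) - ((∑ φ ∈ s, amOf (K φ) (v φ) : ℕ) : ℤ) =
        ∑ φ ∈ s, sgn (K φ) * v φ ∧
      ((∑ φ ∈ s, pOf (K φ) (v φ) : ℕ) : ℤ) - ((∑ φ ∈ s, mOf (K φ) (v φ) : ℕ) : ℤ) =
        ∑ φ ∈ s, coef (K φ) * (v φ * v φ) := by
  constructor <;> rw [Nat.cast_sum, Nat.cast_sum, ← Finset.sum_sub_distrib] <;>
    exact Finset.sum_congr rfl fun φ _ => by first | exact apOf_sub_amOf _ _ | exact pOf_sub_mOf _ _

/-- The members of a block have degree prime to `p`. -/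
theorem Setup.not_dvd_mem {p : ℕ} [hpf : Fact p.Prime] {B : Blk} {M : Ideal AlgInt} {P : Sylow p G}
    {CF YF : Finset (IrrCharacter G)} {ε : IrrCharacter G → ℤ} (S : Setup p B M P CF YF ε)
    (he : ¬ p ∣ B.e) {φ : IrrCharacter G} (hφ : φ ∈ CF ∪ YF) : ¬ p ∣ dg φ := by
  intro h0
  have hd : (p : ℤ) ∣ (dg φ : ℤ) := by exact_mod_cast h0
  rcases Finset.mem_union.1 hφ with hC | hY
  · have h := dvd_add (S.rows.CF_mod φ hC) hd
    rw [sub_add_cancel] at h
    rcases S.rows.eps_pm φ hC with he' | he' <;> rw [he'] at h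
    · exact hpf.out.not_dvd_one (Int.natCast_dvd_natCast.1 (by simpa using h))
    · exact hpf.out.not_dvd_one (Int.natCast_dvd_natCast.1 (by simpa using h))
  · rw [show dg φ = B.d from S.rows.YF_deg φ hY] at hd
    have ht : B.t ≠ 1 := fun ht => by
      have := Finset.card_pos.2 ⟨φ, hY⟩
      rw [S.rows.card_YF, if_pos ht] at this
      exact lt_irrefl _ this
    have h := dvd_add (S.rows.d₀_mod ht) hd
    rw [sub_add_cancel] at h
    refine he (Int.natCast_dvd_natCast.1 ?_)
    rcases S.rows.sign with hs | hs <;> simpa [hs] using h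

variable {g : G} {v : IrrCharacter G → ℤ}

/-- The stage at eleven. -/
theorem exists_stageEleven [Fact (Nat.Prime 11)] (hV : InvVals g v) {A : Blk} {M : Ideal AlgInt}
    {P : Sylow 11 G} {CF YF : Finset (IrrCharacter G)} {ε : IrrCharacter G → ℤ}
    (SA : Setup 11 A M P CF YF ε) (hw : A.w = 1) (he : A.e = 5) :
    ∃ y ∈ stageEleven (Nat.card (Subgroup.centralizer ({g} : Set G))) A,
      (CF ∪ YF).val.map (vKey v) = ↑y := by
  have ht : A.t = 2 := by rw [Blk.t, SA.prime_eq, he]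
  obtain ⟨hsq, hE⟩ := (SA.totals hV.order v hV.one hV.spec).2 (by omega)
  specialize hE (by omega) hw
  rw [ht, Nat.cast_ofNat] at hsq
  set c := Nat.card (Subgroup.centralizer ({g} : Set G))
  have hc : 1 ≤ c := Nat.card_pos
  obtain ⟨hAc, hEc⟩ := totals_cast (CF.erase oneChar) (sKey ε) v
  have h0 : ((1 + ∑ φ ∈ CF.erase oneChar, apOf (sKey ε φ) (v φ) : ℕ) : ℤ) -
      ((0 + ∑ φ ∈ CF.erase oneChar, amOf (sKey ε φ) (v φ) : ℕ) : ℤ) =
        1 + ∑ φ ∈ CF.erase oneChar, sgn (sKey ε φ) * v φ := by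
    push_cast at hAc ⊢
    linarith
  have h1 : ((∑ φ ∈ CF.erase oneChar, (v φ).natAbs * (v φ).natAbs : ℕ) : ℤ) + ((2 : ℕ) : ℤ) *
      ((1 + ∑ φ ∈ CF.erase oneChar, sgn (sKey ε φ) * v φ) *
        (1 + ∑ φ ∈ CF.erase oneChar, sgn (sKey ε φ) * v φ)) ≤ ((c - 1 : ℕ) : ℤ) := by
    rw [natAbs_sq_sum, Nat.cast_sub hc, Nat.cast_one, Nat.cast_ofNat]
    linarith
  have h2 : A.σ = 1 ∧ decide (A.σ = 1) = true ∨ A.σ = -1 ∧ decide (A.σ = 1) = false := by
    rcases SA.rows.sign with h | h <;> simp [h]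
  have h3 : ((10200960 + ∑ φ ∈ CF.erase oneChar, pOf (sKey ε φ) (v φ) : ℕ) : ℤ) -
      ((0 + ∑ φ ∈ CF.erase oneChar, mOf (sKey ε φ) (v φ) : ℕ) : ℤ) =
        A.σ * ((1 + ∑ φ ∈ CF.erase oneChar, sgn (sKey ε φ) * v φ) *
          (1 + ∑ φ ∈ CF.erase oneChar, sgn (sKey ε φ) * v φ)) * ((10200960 / A.d : ℕ) : ℤ) := by
    push_cast at hEc hE ⊢
    linarith
  obtain ⟨r, hr, hrmap⟩ := searchAll_sound (sKey ε) v (fastVals 11 c) sqCost (c - 1) true
    (finE (c - 1) 2 (decide (A.σ = 1)) (10200960 / A.d))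
    (bif decide (A.σ = 1) then 0 else 10200960 / A.d) (bif decide (A.σ = 1) then 10200960 / A.d else 0)
    (fun _ _ _ => rfl) (fun _ _ _ _ _ h => ⟨(finE_spec (by norm_num) h).1, fun _ =>
      (finE_spec (by norm_num) h).2⟩)
    (AP := 1) (AM := 0) (P := 10200960) (M := 0) (l := A.l) (m := (CF.erase oneChar).val)
    (fun φ hφ => mem_fastVals (BlockB.irr_degree_pos φ) (by
      have := SA.mem_valsAt hV.order hV.spec (show φ ∈ CF.erase oneChar from hφ)
      rwa [SA.prime_eq] at this))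
    SA.map (finE_of h0 h1 h2 h3)
  obtain ⟨y, hy, hym⟩ := SA.exists_members_of_map hV.order v hV.one hV.spec hrmap
  refine ⟨y, ?_, hym⟩
  rw [stageEleven, if_neg (by rw [SA.not_excluded hV.order]; simp), forceN_eq, forceN_eq, forceB_eq]
  exact List.mem_flatMap.2 ⟨r, hr, by rwa [forceR_eq]⟩

/-- A stage next to known members: outside them the degrees are divisible by `k`. -/
theorem exists_stageNext (hV : InvVals g v) (k : ℕ) {U : Finset (IrrCharacter G)} {u : List (ℕ × ℤ)}
    (hu : U.val.map (vKey v) = ↑u) (hU : ∀ φ, φ ∉ U → k ∣ dg φ) {p : ℕ} [Fact p.Prime] {B : Blk}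
    {M : Ideal AlgInt} {P : Sylow p G} {CF YF : Finset (IrrCharacter G)} {ε : IrrCharacter G → ℤ}
    (SB : Setup p B M P CF YF ε) :
    ∃ z ∈ stageNext k (Nat.card (Subgroup.centralizer ({g} : Set G))) B u,
      (CF ∪ YF).val.map (vKey v) = ↑z := by
  set c := Nat.card (Subgroup.centralizer ({g} : Set G)) with hcdef
  have : Fintype (IrrCharacter G) := Fintype.ofFinite _
  have hQu : (u.map fun a => a.2.natAbs * a.2.natAbs).sum =
      ∑ φ ∈ U, (v φ).natAbs * (v φ).natAbs :=
    sum_map_eq (vKey v) hu fun a => a.2.natAbs * a.2.natAbs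
  set cost : ℕ → ℤ → ℕ := fun d x =>
    bif decide (d % k = 0) && !u.contains (d, x) then sqCost d x else 0 with hcost
  set N := (CF.erase oneChar).filter fun φ => φ ∉ U with hN
  have hle : ∑ φ ∈ CF.erase oneChar, cost (dg φ) (v φ) ≤ ∑ φ ∈ N, (v φ).natAbs * (v φ).natAbs := by
    rw [hN, Finset.sum_filter]
    refine Finset.sum_le_sum fun φ _ => ?_
    by_cases h : φ ∈ U
    · have : u.contains (dg φ, v φ) = true := List.contains_iff_mem.2 (mem_of_mem_map (vKey v) hu h)
      simp only [hcost, this, Bool.not_true, Bool.and_false, cond_false]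
      exact Nat.zero_le _
    · rw [if_pos h]
      simp only [hcost, sqCost]
      rcases (decide (dg φ % k = 0) && !u.contains (dg φ, v φ)) with - | - <;> simp
  have hdis : Disjoint U N := Finset.disjoint_right.2 fun φ hφ => (Finset.mem_filter.1 hφ).2
  have hsum : (∑ φ ∈ U, (v φ).natAbs * (v φ).natAbs) + ∑ φ ∈ N, (v φ).natAbs * (v φ).natAbs ≤ c := by
    have h := sum_sq_le g (U ∪ N) v fun φ _ => (hV.spec φ).1
    rw [← natAbs_sq_sum, Finset.sum_union hdis] at h
    exact_mod_cast h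
  have htot := SB.totals hV.order v hV.one hV.spec
  obtain ⟨hAc, -⟩ := totals_cast (CF.erase oneChar) (sKey ε) v
  obtain ⟨r, hr, hrmap⟩ := searchAll_sound (sKey ε) v
    (fun d => (fastVals B.p c d).filter fun x => decide (d % k = 0) || u.contains (d, x)) cost
    (c - ∑ φ ∈ U, (v φ).natAbs * (v φ).natAbs) false
    (finNext (c - ∑ φ ∈ U, (v φ).natAbs * (v φ).natAbs) B.t) 0 0 (fun h => by simp at h)
    (fun _ _ _ _ _ h => by
      simp only [finNext, Bool.cond_false_right, Bool.and_eq_true, Nat.ble_eq] at h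
      exact ⟨h.1, fun h' => by simp at h'⟩)
    (AP := 1) (AM := 0) (P := 10200960) (M := 0) (l := B.l) (m := (CF.erase oneChar).val)
    (fun φ hφ => by
      refine List.mem_filter.2 ⟨mem_fastVals (BlockB.irr_degree_pos φ)
        (SB.mem_valsAt hV.order hV.spec (show φ ∈ CF.erase oneChar from hφ)), ?_⟩
      rw [Bool.or_eq_true, decide_eq_true_eq, List.contains_iff_mem]
      by_cases h : φ ∈ U
      · exact Or.inr (mem_of_mem_map (vKey v) hu h)
      · exact Or.inl (Nat.mod_eq_zero_of_dvd (hU φ h)))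
    SB.map (by
      simp only [finNext, Bool.cond_false_right, Bool.and_eq_true, Nat.ble_eq]
      refine ⟨?_, ?_⟩
      · change ∑ φ ∈ CF.erase oneChar, cost (dg φ) (v φ) ≤ _
        omega
      · by_cases ht : B.t = 1
        · rw [show Nat.beq B.t 1 = true by rw [ht]; rfl, cond_true, Nat.beq_eq]
          have hA := htot.1 ht
          show 1 + ∑ φ ∈ CF.erase oneChar, apOf (sKey ε φ) (v φ) =
            0 + ∑ φ ∈ CF.erase oneChar, amOf (sKey ε φ) (v φ)
          have : ((1 + ∑ φ ∈ CF.erase oneChar, apOf (sKey ε φ) (v φ) : ℕ) : ℤ) =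
              ((0 + ∑ φ ∈ CF.erase oneChar, amOf (sKey ε φ) (v φ) : ℕ) : ℤ) := by
            push_cast at hAc ⊢
            linarith
          exact_mod_cast this
        · rw [show Nat.beq B.t 1 = false from Bool.eq_false_iff.2 fun h =>
            ht (Nat.eq_of_beq_eq_true h), cond_false])
  obtain ⟨y, hy, hym⟩ := SB.exists_members_of_map hV.order v hV.one hV.spec hrmap
  refine ⟨y, ?_, hym⟩
  rw [stageNext, if_neg (by rw [SB.not_excluded hV.order]; simp), forceN_eq, forceN_eq, hQu]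
  exact List.mem_flatMap.2 ⟨r, hr, by rwa [forceR_eq]⟩

/-- The stage at five. -/
theorem exists_stageFive [Fact (Nat.Prime 11)] [Fact (Nat.Prime 5)] (hV : InvVals g v)
    (hG : Nat.card G = 10200960) {A : Blk} {MA : Ideal AlgInt} {PA : Sylow 11 G}
    {CFA YFA : Finset (IrrCharacter G)} {εA : IrrCharacter G → ℤ}
    (SA : Setup 11 A MA PA CFA YFA εA) (hw : A.w = 1) (he : A.e = 5) {y : List (ℕ × ℤ)}
    (hy : (CFA ∪ YFA).val.map (vKey v) = ↑y) {rows : List Blk} {B : Blk} (hB : B ∈ rows)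
    {MB : Ideal AlgInt} {PB : Sylow 5 G} {CFB YFB : Finset (IrrCharacter G)}
    {εB : IrrCharacter G → ℤ} (SB : Setup 5 B MB PB CFB YFB εB) :
    ∃ u, (B, u) ∈ stageFive rows (Nat.card (Subgroup.centralizer ({g} : Set G))) y ∧
      ((CFA ∪ YFA) ∪ (CFB ∪ YFB)).val.map (vKey v) = ↑u := by
  set U := CFA ∪ YFA with hUdef
  set X := CFB ∪ YFB with hXdef
  have hU : ∀ φ, φ ∉ U → 11 ∣ dg φ := fun φ hφ => SA.dvd_deg hw hφ
  have hU' : ∀ φ ∈ U, dg φ % 11 ≠ 0 := fun φ hφ h =>
    SA.not_dvd_mem (by rw [he]; norm_num) hφ (Nat.dvd_of_mod_eq_zero h)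
  obtain ⟨z, hz, hzm⟩ := exists_stageNext hV 11 hy hU SB
  set X1 := X.filter fun φ => dg φ % 11 = 0 with hX1
  have hdis : Disjoint U X1 := Finset.disjoint_right.2 fun φ hφ hφ' =>
    hU' φ hφ' (Finset.mem_filter.1 hφ).2
  have hunion : U ∪ X = U ∪ X1 := Finset.ext fun φ => by
    simp only [Finset.mem_union, hX1, Finset.mem_filter]
    constructor
    · rintro (h | h)
      · exact Or.inl h
      · by_cases h' : φ ∈ U
        · exact Or.inl h'
        · exact Or.inr ⟨h, Nat.mod_eq_zero_of_dvd (hU φ h')⟩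
    · rintro (h | h) <;> tauto
  have hX1v : X1.val.map (vKey v) = ↑(z.filter fun a => decide (a.1 % 11 = 0)) := by
    rw [← filter_map_eq (vKey v) (fun a => decide (a.1 % 11 = 0)) hzm]
    exact congrArg (Multiset.map (vKey v)) (congrArg Finset.val
      (Finset.filter_congr fun φ _ => decide_eq_true_iff.symm))
  have hX1d : X1.val.map dg = ↑((degKeys B).filter fun d => decide (d % 11 = 0)) := by
    rw [← filter_map_eq dg (fun d => decide (d % 11 = 0)) SB.degKeys_eq]
    exact congrArg (Multiset.map dg) (congrArg Finset.val (Finset.filter_congr fun φ _ => decide_eq_true_iff.symm))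
  have hs0 : (X.filter fun φ => ¬ dg φ % 11 = 0) ⊆ U := fun φ hφ => by
    obtain ⟨-, h⟩ := Finset.mem_filter.1 hφ
    by_contra hn
    exact h (Nat.mod_eq_zero_of_dvd (hU φ hn))
  refine ⟨y ++ z.filter fun a => decide (a.1 % 11 = 0), ?_, by
    rw [hunion]; exact union_map_eq (vKey v) hy hX1v hdis⟩
  refine List.mem_flatMap.2 ⟨B, hB, ?_⟩
  rw [if_pos]
  · refine List.mem_flatMap.2 ⟨z, hz, ?_⟩
    rw [forceU_eq, if_pos]
    · exact List.mem_singleton_self _
    rw [Bool.and_eq_true]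
    refine ⟨leL_of_le (le_of_subset (vKey v) ?_ hy hs0),
      normOK_of hV (U ∪ X1) (le_of_eq (union_map_eq (vKey v) hy hX1v hdis).symm)⟩
    rw [← filter_map_eq (vKey v) (fun a => decide (a.1 % 11 ≠ 0)) hzm]
    exact congrArg (Multiset.map (vKey v)) (congrArg Finset.val
      (Finset.filter_congr fun φ _ => decide_eq_true_iff.symm))
  rw [Bool.and_eq_true]
  refine ⟨leL_of_le (le_of_subset dg ?_ (deg_map hy) hs0),
    sqOK_of hG (U ∪ X1) (le_of_eq (union_map_eq dg (deg_map hy) hX1d hdis).symm)⟩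
  rw [← filter_map_eq dg (fun d => decide (d % 11 ≠ 0)) SB.degKeys_eq]
  exact congrArg (Multiset.map dg) (congrArg Finset.val (Finset.filter_congr fun φ _ => decide_eq_true_iff.symm))

end CfsgLib.Recog.OrderM23
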