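import Cfsg.Agent.Lib.Recog.OrderM23.Blocks

/-!
# Simple groups of order 10200960: the block at twenty-three, the members left over, the block at seven
-/

set_option autoImplicit false
set_option synthInstance.maxSize 2000
set_option linter.unusedSectionVars false

namespace CfsgLib.Recog.OrderM23

open Cfsg CfsgLib CfsgLib.Block CfsgLib.ClassK CfsgLib.ClassK.RowSieve CfsgLib.ClassK.RowInvolution
open CfsgLib.Recog.OrderM12 (admissible sum_sq_le)
open scoped ComplexConjugate Classical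

universe u

variable {G : Type u} [Group G] [Finite G]

/-- Classical equality of characters. -/
noncomputable local instance (priority := high) decEqIrrC : DecidableEq (IrrCharacter G) :=
  Classical.decEq _

theorem dg_two_le [IsSimpleGroup G] (h : Nat.card G = 10200960) {φ : IrrCharacter G}
    (hφ : φ ≠ oneChar) : 2 ≤ dg φ := by
  have h0 : 0 < dg φ := BlockB.irr_degree_pos φ
  by_contra hle
  refine hφ (Subtype.ext (BrauerReynolds.eq_one_of_degree_one
    (CfsgLib.Transfer.commutator_eq_top_of_simple (not_comm h)) φ ?_))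
  rw [← BlockB.irr_degree_cast φ, show charDegree (φ : G → ℂ) = 1 from (by omega : dg φ = 1),
    Nat.cast_one]

theorem dg_lt (h : Nat.card G = 10200960) (φ : IrrCharacter G) : dg φ < 3195 := by
  have h' := sum_deg_sq_le h {φ}
  rw [Finset.sum_singleton] at h'
  by_contra hle
  push Not at hle
  have := Nat.mul_le_mul hle hle
  omega

set_option maxRecDepth 100000 in
theorem freeCands_check : (degList.all fun d => decide (d % 11 ≠ 0) ||
    ((decide (d % 23 ≠ 1) || freeCands.contains (d, true)) &&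
      (decide (d % 23 ≠ 22) || freeCands.contains (d, false)))) = true := by
  decide +kernel

theorem length_of_map {α : Type*} (K : IrrCharacter G → α) {X : Finset (IrrCharacter G)} {l : List α}
    (h : X.val.map K = ↑l) : l.length = X.card := by
  have := congrArg Multiset.card h
  rw [Multiset.card_map, Multiset.coe_card] at this
  exact this.symm

theorem sdiff_map_eq {α : Type*} [DecidableEq α] (K : IrrCharacter G → α)
    {X Y : Finset (IrrCharacter G)} {l m : List α} (hX : X.val.map K = ↑l) (hY : Y.val.map K = ↑m)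
    (hs : Y ⊆ X) : (X \ Y).val.map K = ↑(l.diff m) := by
  rw [← Multiset.coe_sub, ← hX, ← hY]
  have e : X.val.map K = (X \ Y).val.map K + Y.val.map K := by
    rw [← Multiset.map_add, ← Finset.disjUnion_val _ _ (Finset.sdiff_disjoint),
      Finset.disjUnion_eq_union, Finset.sdiff_union_of_subset hs]
  rw [e, add_tsub_cancel_right]

variable {g : G} {v : IrrCharacter G → ℤ}

/-- The stage at twenty-three. -/
theorem exists_stageTwentyThree [IsSimpleGroup G] [Fact (Nat.Prime 23)] (hV : InvVals g v)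
    (hG : Nat.card G = 10200960) {U : Finset (IrrCharacter G)} {u : List (ℕ × ℤ)}
    (hu : U.val.map (vKey v) = ↑u) (hU : ∀ φ, φ ∉ U → 11 ∣ dg φ) (hone : oneChar ∈ U) {W : Blk}
    {M : Ideal AlgInt} {P : Sylow 23 G} {CF YF : Finset (IrrCharacter G)} {ε : IrrCharacter G → ℤ}
    (SW : Setup 23 W M P CF YF ε) (hw : W.w = 1) (he : W.e = 11) :
    ∃ u₂ ∈ stageTwentyThree (Nat.card (Subgroup.centralizer ({g} : Set G))) u,
      (U ∪ (CF ∪ YF)).val.map (vKey v) = ↑u₂ := by
  have : Fintype (IrrCharacter G) := Fintype.ofFinite _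
  set c := Nat.card (Subgroup.centralizer ({g} : Set G)) with hcdef
  set C := CF.erase oneChar with hCdef
  have ht : W.t = 2 := by rw [Blk.t, SW.prime_eq, he]
  have hY : YF.card = 2 := by rw [SW.rows.card_YF, if_neg (by omega), ht]
  have hC : C.card = 10 := by
    rw [Finset.card_erase_of_mem (show oneChar ∈ CF from SW.rows.one_mem), SW.rows.card_CF,
      if_neg (by omega), he]
  have hcf : ∀ φ ∈ CF, ε φ = 1 ∧ dg φ % 23 = 1 ∨ ε φ = -1 ∧ dg φ % 23 = 22 := fun φ hφ => by
    have hm := SW.rows.CF_mod φ hφ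
    rcases SW.rows.eps_pm φ hφ with e | e <;> rw [e] at hm
    · exact Or.inl ⟨e, by change ((23 : ℕ) : ℤ) ∣ _ - (dg φ : ℤ) at hm; omega⟩
    · exact Or.inr ⟨e, by change ((23 : ℕ) : ℤ) ∣ _ - (dg φ : ℤ) at hm; omega⟩
  have hσ : W.σ = 1 ∧ W.d % 23 = 11 ∨ W.σ = -1 ∧ W.d % 23 = 12 := by
    have hm := SW.rows.d₀_mod (by omega)
    rcases SW.rows.sign with e | e <;> rw [e, he] at hm
    · exact Or.inl ⟨e, by omega⟩
    · exact Or.inr ⟨e, by omega⟩
  have hyd : ∀ η ∈ YF, dg η = W.d := fun η hη => SW.rows.YF_deg η hη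
  have hout : ∀ φ, φ ∉ CF ∪ YF → 23 ∣ dg φ := fun φ hφ => SW.dvd_deg hw hφ
  -- the known members
  set neS := C.filter fun φ => φ ∈ U with hneS
  set nxS := YF.filter fun φ => φ ∈ U with hnxS
  set free := C.filter fun φ => φ ∉ U with hfree
  have hdeg1 : ∀ φ ∈ C, dg φ ≠ 1 := fun φ hφ => by
    have := dg_two_le hG (Finset.mem_erase.1 hφ).1
    omega
  have hexc : ∀ φ : IrrCharacter G, isExc (vKey v φ) = true ↔ dg φ % 23 = 11 ∨ dg φ % 23 = 12 :=
    fun φ => by
      rw [isExc, Bool.or_eq_true]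
      exact or_congr decide_eq_true_iff decide_eq_true_iff
  have hneq : neS = U.filter fun φ =>
      (decide (dg φ % 23 ≠ 0) && decide (dg φ ≠ 1) && !isExc (vKey v φ)) = true := by
    ext φ
    simp only [hneS, Finset.mem_filter, Bool.and_eq_true, decide_eq_true_eq, Bool.not_eq_true',
      ← Bool.not_eq_true, hexc, not_or]
    constructor
    · rintro ⟨hφ, hφU⟩
      rcases hcf φ (Finset.mem_of_mem_erase hφ) with ⟨-, h⟩ | ⟨-, h⟩ <;>
        exact ⟨hφU, ⟨by omega, hdeg1 φ hφ⟩, by omega, by omega⟩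
    · rintro ⟨hφU, ⟨h0, h1⟩, h11, h12⟩
      refine ⟨?_, hφU⟩
      by_cases hb : φ ∈ CF ∪ YF
      · rcases Finset.mem_union.1 hb with hc | hy
        · exact Finset.mem_erase.2 ⟨fun e => h1 (by rw [e]; exact deg_oneChar), hc⟩
        · rw [hyd φ hy] at h11 h12
          rcases hσ with ⟨-, h⟩ | ⟨-, h⟩
          · exact absurd h h11
          · exact absurd h h12
      · exact absurd (Nat.mod_eq_zero_of_dvd (hout φ hb)) h0
  have hneM : neS.val.map (vKey v) = ↑(knownCF u) := by
    rw [hneq]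
    exact filter_map_eq (vKey v)
      (fun a => decide (a.1 % 23 ≠ 0) && decide (a.1 ≠ 1) && !isExc a) hu
  have hnxq : nxS = U.filter fun φ => (decide (dg φ % 23 ≠ 0) && isExc (vKey v φ)) = true := by
    ext φ
    simp only [hnxS, Finset.mem_filter, Bool.and_eq_true, decide_eq_true_eq, hexc]
    constructor
    · rintro ⟨hy, hφU⟩
      rw [hyd φ hy]
      rcases hσ with ⟨-, h⟩ | ⟨-, h⟩ <;> exact ⟨hφU, by omega, by omega⟩
    · rintro ⟨hφU, h0, h⟩
      refine ⟨?_, hφU⟩
      by_cases hb : φ ∈ CF ∪ YF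
      · rcases Finset.mem_union.1 hb with hc | hy
        · rcases hcf φ hc with ⟨-, h'⟩ | ⟨-, h'⟩ <;> omega
        · exact hy
      · exact absurd (Nat.mod_eq_zero_of_dvd (hout φ hb)) h0
  have hnxM : nxS.val.map (vKey v) = ↑(knownYF u) := by
    rw [hnxq]
    exact filter_map_eq (vKey v) (fun a => decide (a.1 % 23 ≠ 0) && isExc a) hu
  have hkey : ∀ φ ∈ C, key23 (vKey v φ) = sKey ε φ := fun φ hφ => by
    rcases hcf φ (Finset.mem_of_mem_erase hφ) with ⟨e, h⟩ | ⟨e, h⟩ <;>
      simp [key23, vKey, sKey, e, h]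
  have hdisU : Disjoint U free := Finset.disjoint_right.2 fun φ hφ => (Finset.mem_filter.1 hφ).2
  have hsplit : C = neS ∪ free := by rw [hneS, hfree, Finset.filter_union_filter_not_eq]
  have hdis2 : Disjoint neS free := Finset.disjoint_filter_filter_not _ _ _
  -- the free members by degrees
  have hS0 : (u.map fun a => a.1 * a.1).sum = ∑ φ ∈ U, dg φ * dg φ :=
    sum_map_eq (vKey v) hu fun a => a.1 * a.1
  have hcand : ∀ φ ∈ free, sKey ε φ ∈ freeCands := by
    intro φ hφ
    obtain ⟨hφC, hφU⟩ := Finset.mem_filter.1 hφ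
    have hd := mem_degList _ (dg_lt hG φ) (dg_two_le hG (Finset.mem_erase.1 hφC).1)
      (Nat.mod_eq_zero_of_dvd (hG ▸ BlockB.irr_degree_dvd_card φ))
    have h := List.all_eq_true.1 freeCands_check _ hd
    have h11 : dg φ % 11 = 0 := Nat.mod_eq_zero_of_dvd (hU φ hφU)
    rcases hcf φ (Finset.mem_of_mem_erase hφC) with ⟨e, h'⟩ | ⟨e, h'⟩
    · have e' : sKey ε φ = (dg φ, true) := by simp [sKey, e]
      rw [e']
      simp [h11, h'] at h
      simpa using h
    · have e' : sKey ε φ = (dg φ, false) := by simp [sKey, e]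
      rw [e']
      simp [h11, h'] at h
      simpa using h
  obtain ⟨fl, hfl, hflm⟩ := sols_sound (sKey ε) freeCands free (u.map fun a => a.1 * a.1).sum hcand
    (n := 10200960) (by
      rw [hS0]
      show ∑ φ ∈ U, dg φ * dg φ + ∑ φ ∈ free, dg φ * dg φ ≤ 10200960
      rw [← Finset.sum_union hdisU]
      exact sum_deg_sq_le hG _)
  have hcard : (knownCF u).length + free.card = 10 := by
    rw [length_of_map (vKey v) hneM, ← Finset.card_union_of_disjoint hdis2, ← hsplit, hC]
  -- the row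
  set ne := knownCF u with hne
  set nx := knownYF u with hnx
  have hneK : neS.val.map (sKey ε) = ↑(ne.map key23) := by
    rw [← Multiset.map_coe, ← hneM, Multiset.map_map]
    exact Multiset.map_congr rfl fun φ hφ => (hkey φ (Finset.mem_filter.1 hφ).1).symm
  have hlmap : C.val.map (sKey ε) = ↑(ne.map key23 ++ fl) := by
    rw [hsplit]
    exact union_map_eq (sKey ε) hneK hflm hdis2
  have hperm : (ne.map key23 ++ fl).Perm W.l := Multiset.coe_eq_coe.1 (hlmap.symm.trans SW.map)
  have hd0 : 0 < W.d := by rcases hσ with ⟨-, h⟩ | ⟨-, h⟩ <;> omega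
  have hD : 1 + ((ne.map key23 ++ fl).map fun a => sgn a * (a.1 : ℤ)).sum = W.σ * W.d := by
    have h := SW.rows.deg_eq
    rw [if_neg (by omega), ← Finset.add_sum_erase CF _ (show oneChar ∈ CF from SW.rows.one_mem),
      charDegree_oneChar, show ε oneChar = 1 from SW.rows.eps_one, Nat.cast_one, one_mul] at h
    rw [← h, sum_map_eq (sKey ε) hlmap fun a => sgn a * (a.1 : ℤ)]
    refine congrArg _ (Finset.sum_congr rfl fun φ hφ => ?_)
    rcases SW.rows.eps_pm φ (Finset.mem_of_mem_erase hφ) with e | e <;> simp [sgn, sKey, e, dg]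
  set W' := rowTwentyThree u fl with hW'
  have hWd : W'.d = W.d := by
    show (1 + ((ne.map key23 ++ fl).map fun a => sgn a * (a.1 : ℤ)).sum).natAbs = W.d
    rw [hD]
    rcases SW.rows.sign with e | e <;> simp [e]
  have hWσ : W'.σ = W.σ := by
    show (if 0 ≤ 1 + ((ne.map key23 ++ fl).map fun a => sgn a * (a.1 : ℤ)).sum then (1 : ℤ) else -1) =
      W.σ
    rw [hD]
    rcases SW.rows.sign with e | e <;> rw [e]
    · rw [if_pos (by omega)]
    · rw [if_neg (by omega)]
  have SW' : Setup 23 W' M P CF YF ε :=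
    SW.perm SW.prime_eq.symm he.symm hw.symm hWd hWσ hperm
  -- totals
  obtain ⟨hsq, hE⟩ := (SW.totals hV.order v hV.one hV.spec).2 (by omega)
  specialize hE (by omega) hw
  rw [ht, Nat.cast_ofNat] at hsq
  set A : ℤ := 1 + ∑ φ ∈ C, sgn (sKey ε φ) * v φ with hA
  have hη : ∀ η ∈ YF, v η = W.σ * A := fun η hη =>
    SW.exc_value hV.order v hV.one (fun φ => (hV.spec φ).1) hη
  have hσ2 : W.σ * W.σ = 1 := by rcases SW.rows.sign with e | e <;> simp [e]
  have hnum : ∀ F : ℕ × Bool → ℤ → ℕ, (ne.map fun a => F (key23 a) a.2).sum +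
      ∑ φ ∈ free, F (sKey ε φ) (v φ) = ∑ φ ∈ C, F (sKey ε φ) (v φ) := fun F => by
    rw [sum_map_eq (vKey v) hneM fun a => F (key23 a) a.2, hsplit, Finset.sum_union hdis2]
    congr 1
    exact Finset.sum_congr rfl fun φ hφ => by
      rw [hkey φ (Finset.mem_filter.1 hφ).1]
      rfl
  obtain ⟨hAc, hEc⟩ := totals_cast C (sKey ε) v
  have hQu : (u.map fun a => a.2.natAbs * a.2.natAbs).sum =
      ∑ φ ∈ U, (v φ).natAbs * (v φ).natAbs :=
    sum_map_eq (vKey v) hu fun a => a.2.natAbs * a.2.natAbs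
  set Qu := ∑ φ ∈ U, (v φ).natAbs * (v φ).natAbs with hQudef
  set Ff := ∑ φ ∈ free, (v φ).natAbs * (v φ).natAbs with hFf
  have hbound : Qu + Ff ≤ c := by
    have h := sum_sq_le g (U ∪ free) v fun φ _ => (hV.spec φ).1
    rw [← natAbs_sq_sum, Finset.sum_union hdisU] at h
    exact_mod_cast h
  set k0 := 10200960 / W.d with hk0
  set pos := decide (W.σ = 1) with hposd
  have hpos : W.σ = 1 ∧ pos = true ∨ W.σ = -1 ∧ pos = false := by
    rcases SW.rows.sign with e | e <;> simp [hposd, e]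
  set AP := 1 + (ne.map fun a => apOf (key23 a) a.2).sum with hAP
  set AM := (ne.map fun a => amOf (key23 a) a.2).sum with hAM
  set P₀ := 10200960 + (ne.map fun a => pOf (key23 a) a.2).sum + (bif pos then 0 else excWt nx k0)
    with hP₀
  set M₀ := (ne.map fun a => mOf (key23 a) a.2).sum + (bif pos then excWt nx k0 else 0) with hM₀
  have hA' : ((AP + ∑ φ ∈ free, apOf (sKey ε φ) (v φ) : ℕ) : ℤ) -
      ((AM + ∑ φ ∈ free, amOf (sKey ε φ) (v φ) : ℕ) : ℤ) = A := by
    have e1 := congrArg (Nat.cast : ℕ → ℤ) (hnum apOf)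
    have e2 := congrArg (Nat.cast : ℕ → ℤ) (hnum amOf)
    rw [hAP, hAM, hA]
    push_cast at e1 e2 hAc ⊢
    linarith
  have hE' : ((P₀ + ∑ φ ∈ free, pOf (sKey ε φ) (v φ) : ℕ) : ℤ) -
      ((M₀ + ∑ φ ∈ free, mOf (sKey ε φ) (v φ) : ℕ) : ℤ) =
        W.σ * (A * A) * k0 - W.σ * (excWt nx k0 : ℕ) := by
    have e1 := congrArg (Nat.cast : ℕ → ℤ) (hnum pOf)
    have e2 := congrArg (Nat.cast : ℕ → ℤ) (hnum mOf)
    rw [hP₀, hM₀]
    rcases hpos with ⟨e, e'⟩ | ⟨e, e'⟩ <;> rw [e'] <;> rw [e] at hE ⊢ <;>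
      simp only [cond_true, cond_false, Nat.add_zero] <;> push_cast at e1 e2 hEc hE ⊢ <;> linarith
  have hfin : finFree (c - Qu) nx W.σ k0 (AP + ∑ φ ∈ free, apOf (sKey ε φ) (v φ))
      (AM + ∑ φ ∈ free, amOf (sKey ε φ) (v φ)) (P₀ + ∑ φ ∈ free, pOf (sKey ε φ) (v φ))
      (M₀ + ∑ φ ∈ free, mOf (sKey ε φ) (v φ)) Ff = true := by
    have hlen : nx.length = nxS.card := length_of_map (vKey v) hnxM
    rcases hnxe : nx with - | ⟨a, as⟩
    · rw [hnxe] at hlen
      have hnone : ∀ η ∈ YF, η ∉ U := fun η hη hη' => by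
        have : η ∈ nxS := Finset.mem_filter.2 ⟨hη, hη'⟩
        rw [Finset.card_eq_zero.1 hlen.symm] at this
        exact Finset.notMem_empty _ this
      have hd1 : Disjoint (U ∪ free) YF := Finset.disjoint_left.2 fun φ hφ hφY => by
        rcases Finset.mem_union.1 hφ with h | h
        · exact hnone φ hφY h
        · exact Finset.disjoint_left.1 SW.rows.disj
            (Finset.mem_of_mem_erase (Finset.mem_filter.1 h).1) hφY
      have hall : (Qu : ℤ) + Ff + 2 * (A * A) ≤ c := by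
        have h := sum_sq_le g ((U ∪ free) ∪ YF) v fun φ _ => (hV.spec φ).1
        rw [Finset.sum_union hd1, Finset.sum_union hdisU, ← natAbs_sq_sum, ← natAbs_sq_sum,
          Finset.sum_congr rfl (g := fun _ => A * A) (s₁ := YF) fun η hm => by
            rw [hη η hm]; linear_combination A * A * hσ2,
          Finset.sum_const, hY, nsmul_eq_mul, Nat.cast_ofNat] at h
        exact h
      show finE (c - Qu) 2 (decide (W.σ = 1)) k0 _ _ _ _ Ff = true
      refine finE_of hA' ?_ hpos ?_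
      · rw [Nat.cast_sub (by omega)]
        push_cast
        linarith
      · rw [hE', hnxe, excWt]
        simp
    · have ha : a ∈ nxS.val.map (vKey v) := by rw [hnxM, hnxe]; simp
      obtain ⟨η, hη', rfl⟩ := Multiset.mem_map.1 ha
      have hv := hη η (Finset.mem_filter.1 hη').1
      simp only [finFree, Bool.and_eq_true, Nat.ble_eq, Nat.beq_eq, decide_eq_true_eq]
      refine ⟨⟨by omega, ?_⟩, ?_⟩
      · have e : ((excWt (vKey v η :: as) k0 : ℕ) : ℤ) = A * A * k0 := by
          simp only [excWt, vKey, Nat.cast_mul, Int.natAbs_mul_self']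
          rw [hv]
          linear_combination A * A * (k0 : ℤ) * hσ2
        rw [hnxe, e] at hE'
        have : ((P₀ + ∑ φ ∈ free, pOf (sKey ε φ) (v φ) : ℕ) : ℤ) =
            ((M₀ + ∑ φ ∈ free, mOf (sKey ε φ) (v φ) : ℕ) : ℤ) := by linarith
        exact_mod_cast this
      · rw [hA']
        exact hv.symm
  obtain ⟨r, hr, hrmap⟩ := searchAll_sound (sKey ε) v (fastVals 23 c) sqCost (c - Qu) true
    (finFree (c - Qu) nx W.σ k0) (excBound nx (!pos) k0) (excBound nx pos k0)
    (fun _ _ _ => rfl)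
    (fun AP' AM' P' M' F' h => by
      rcases hnxe : nx with - | ⟨a, as⟩ <;> rw [hnxe] at h
      · have h' := finE_spec (by norm_num) (show finE (c - Qu) 2 pos k0 AP' AM' P' M' F' = true from h)
        refine ⟨h'.1, fun _ => ?_⟩
        simp only [excBound]
        rcases pos with - | - <;> exact h'.2
      · simp only [finFree, Bool.and_eq_true, Nat.ble_eq, Nat.beq_eq] at h
        refine ⟨h.1.1, fun _ => ?_⟩
        simp [excBound, h.1.2])
    (AP := AP) (AM := AM) (P := P₀) (M := M₀) (l := fl) (m := free.val)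
    (fun φ hφ => mem_fastVals (BlockB.irr_degree_pos φ) (by
      have := SW.mem_valsAt hV.order hV.spec (Finset.mem_filter.1 (show φ ∈ free from hφ)).1
      rwa [SW.prime_eq] at this))
    hflm hfin
  have hrall : C.val.map (fun φ => (sKey ε φ, v φ)) = ↑((ne.map fun a => (key23 a, a.2)) ++ r) := by
    rw [hsplit]
    refine union_map_eq _ ?_ hrmap hdis2
    rw [← Multiset.map_coe, ← hneM, Multiset.map_map]
    refine Multiset.map_congr rfl fun φ hφ => ?_
    simp only [Function.comp_apply, hkey φ (Finset.mem_filter.1 hφ).1]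
    rfl
  obtain ⟨y, hy, hym⟩ := SW'.exists_members_of_map hV.order v hV.one hV.spec hrall
  -- the union
  set X := CF ∪ YF with hX
  have hXU : (U.filter fun φ => decide ((vKey v φ).1 % 23 ≠ 0) = true) ⊆ X := fun φ hφ => by
    obtain ⟨-, h⟩ := Finset.mem_filter.1 hφ
    rw [decide_eq_true_eq] at h
    by_contra hn
    exact h (Nat.mod_eq_zero_of_dvd (hout φ hn))
  have hnd : ∀ φ ∈ X, dg φ % 23 ≠ 0 := fun φ hφ h =>
    SW.not_dvd_mem (by rw [he]; norm_num) hφ (Nat.dvd_of_mod_eq_zero h)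
  have hunion : U ∪ X = U ∪ (X \ U.filter fun φ => decide ((vKey v φ).1 % 23 ≠ 0) = true) := by
    ext φ
    simp only [Finset.mem_union, Finset.mem_sdiff, Finset.mem_filter]
    tauto
  have hdisX : Disjoint U (X \ U.filter fun φ => decide ((vKey v φ).1 % 23 ≠ 0) = true) :=
    Finset.disjoint_left.2 fun φ hφU hφ => by
      obtain ⟨hφX, hn⟩ := Finset.mem_sdiff.1 hφ
      exact hn (Finset.mem_filter.2 ⟨hφU, decide_eq_true (hnd φ hφX)⟩)
  refine ⟨u ++ y.diff (u.filter fun a => decide (a.1 % 23 ≠ 0)), ?_, ?_⟩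
  · refine List.mem_flatMap.2 ⟨fl, ?_, ?_⟩
    · rw [freeRows, ← hne, forceN_eq, if_neg (by omega), forceN_eq, forceN_eq,
        show 10 - ne.length = free.card by omega]
      exact hfl
    rw [forceK_eq, forceW_eq, ← hW', stageFree, ← hne, ← hnx, forceU_eq, forceU_eq, forceB_eq, if_pos]
    · rw [hWd, hWσ, forceN_eq, forceN_eq, forceN_eq, forceN_eq, forceN_eq, forceN_eq, hQu]
      refine List.mem_flatMap.2 ⟨r, hr, ?_⟩
      rw [forceR_eq]
      exact List.mem_flatMap.2 ⟨y, hy, List.mem_singleton_self _⟩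
    have hall : ∀ a ∈ nx, a.1 = W.d := fun a ha => by
      have h : a ∈ nxS.val.map (vKey v) := by rw [hnxM]; exact ha
      obtain ⟨η, hη', rfl⟩ := Multiset.mem_map.1 h
      exact hyd η (Finset.mem_filter.1 hη').1
    have hlen : nx.length = nxS.card := length_of_map (vKey v) hnxM
    rw [Bool.and_eq_true, Bool.and_eq_true, Bool.and_eq_true, List.all_eq_true]
    refine ⟨⟨⟨?_, fun a ha => decide_eq_true (by rw [hWd]; exact hall a ha)⟩, ?_⟩,
      by rw [SW'.not_excluded hV.order]; rfl⟩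
    · obtain ⟨η, hηY⟩ := Finset.card_pos.1 (show 0 < YF.card by omega)
      have hdN : 10200960 % W.d = 0 := hyd η hηY ▸ Nat.mod_eq_zero_of_dvd
        (hG ▸ BlockB.irr_degree_dvd_card η)
      simp only [excDegOK, hWd, hWσ, Bool.and_eq_true, Bool.or_eq_true, Nat.beq_eq, Nat.ble_eq]
      refine ⟨⟨hdN, ?_⟩, ?_⟩
      · rcases hσ with ⟨e, h⟩ | ⟨e, h⟩ <;> simp [e, h]
      · by_cases h2 : 2 ≤ nx.length
        · exact Or.inl h2
        · right
          obtain ⟨η', hη', hn⟩ : ∃ η' ∈ YF, η' ∉ U := by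
            by_contra hcon
            push Not at hcon
            have : nxS = YF := Finset.filter_true_of_mem hcon
            rw [this, hY] at hlen
            omega
          rw [← hyd η' hη']
          exact Nat.mod_eq_zero_of_dvd (hU η' hn)
    · refine sqOK_of hG ((U ∪ free) ∪ (YF \ nxS)) (le_of_eq (Eq.symm ?_))
      rw [hWd]
      refine union_map_eq dg (union_map_eq dg (deg_map hu) ?_ hdisU) ?_ ?_
      · rw [← Multiset.map_coe, ← hflm, Multiset.map_map]
        rfl
      · refine (Multiset.eq_replicate.2 ⟨?_, fun b hb => ?_⟩).trans (Multiset.coe_replicate _ _).symm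
        · rw [Multiset.card_map, hlen]
          show (YF \ nxS).card = _
          rw [Finset.card_sdiff_of_subset (Finset.filter_subset _ _), hY]
        · obtain ⟨η, hη', rfl⟩ := Multiset.mem_map.1 hb
          exact hyd η (Finset.mem_sdiff.1 hη').1
      · refine Finset.disjoint_right.2 fun φ hφ hφ' => ?_
        obtain ⟨hφY, hn⟩ := Finset.mem_sdiff.1 hφ
        rcases Finset.mem_union.1 hφ' with h | h
        · exact hn (Finset.mem_filter.2 ⟨hφY, h⟩)
        · exact Finset.disjoint_left.1 SW.rows.disj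
            (Finset.mem_of_mem_erase (Finset.mem_filter.1 h).1) hφY
  · rw [hunion]
    have h := sdiff_map_eq (vKey v) hym
      (filter_map_eq (vKey v) (fun a => decide (a.1 % 23 ≠ 0)) hu) hXU
    refine union_map_eq (vKey v) hu ?_ hdisX
    convert h using 4

/-- The members left over. -/
theorem leftoverOK_of (hV : InvVals g v) (hG : Nat.card G = 10200960)
    {U : Finset (IrrCharacter G)} {u : List (ℕ × ℤ)} (hu : U.val.map (vKey v) = ↑u)
    (hU : ∀ φ, φ ∉ U → 253 ∣ dg φ) :
    leftoverOK (Nat.card (Subgroup.centralizer ({g} : Set G))) u = true := by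
  have := Fintype.ofFinite G
  have : Fintype (IrrCharacter G) := Fintype.ofFinite _
  have hsq : ∑ φ : IrrCharacter G, dg φ * dg φ = 10200960 := by
    have h' := CfsgLib.Char.sum_irr_sq (G := G)
    simp only [← BlockB.irr_degree_cast, pow_two, hG] at h'
    exact_mod_cast h'
  have horth : ∑ φ : IrrCharacter G, (dg φ : ℤ) * v φ = 0 := by
    have hne : ¬ IsConj (1 : G) g := fun h => by
      obtain rfl : g = 1 := isConj_one_right.1 h
      simpa using hV.order
    have h := Char.column_orthogonality (1 : G) g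
    rw [if_neg hne] at h
    have e : (((∑ φ : IrrCharacter G, ((dg φ : ℤ) * v φ : ℤ)) : ℤ) : ℂ) = 0 := by
      rw [← h, Int.cast_sum]
      refine Finset.sum_congr rfl fun φ _ => ?_
      rw [(hV.spec φ).1, map_intCast, ← BlockB.irr_degree_cast]
      push_cast
      rfl
    exact_mod_cast e
  have hc := sum_sq_le g Finset.univ v fun φ _ => (hV.spec φ).1
  set R := Finset.univ \ U with hR
  have h1 := Finset.sum_sdiff (f := fun φ : IrrCharacter G => dg φ * dg φ) (Finset.subset_univ U)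
  have h2 := Finset.sum_sdiff (f := fun φ : IrrCharacter G => (dg φ : ℤ) * v φ) (Finset.subset_univ U)
  have h3 := Finset.sum_sdiff (f := fun φ : IrrCharacter G => v φ * v φ) (Finset.subset_univ U)
  rw [hsq] at h1
  rw [horth] at h2
  have hdR : ∀ φ ∈ R, dg φ = 253 * (dg φ / 253) := fun φ hφ =>
    (Nat.mul_div_cancel' (hU φ (Finset.mem_sdiff.1 hφ).2)).symm
  set K : IrrCharacter G → ℕ := fun φ => dg φ / 253 with hK
  have hRd : ∑ φ ∈ R, dg φ * dg φ = 64009 * ∑ φ ∈ R, K φ * K φ := by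
    rw [Finset.mul_sum]
    refine Finset.sum_congr rfl fun φ hφ => ?_
    calc dg φ * dg φ = (253 * K φ) * (253 * K φ) := by rw [← hdR φ hφ]
      _ = _ := by ring
  have hRv : ∑ φ ∈ R, (dg φ : ℤ) * v φ = 253 * ∑ φ ∈ R, (K φ : ℤ) * v φ := by
    rw [Finset.mul_sum]
    refine Finset.sum_congr rfl fun φ hφ => ?_
    have e : (dg φ : ℤ) = 253 * (K φ : ℤ) := by exact_mod_cast hdR φ hφ
    rw [e, mul_assoc]
  have hcs := Finset.sum_mul_sq_le_sq_mul_sq R (fun φ => (K φ : ℤ)) v
  have hK2 : ∑ φ ∈ R, (K φ : ℤ) ^ 2 = ((∑ φ ∈ R, K φ * K φ : ℕ) : ℤ) := by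
    push_cast
    exact Finset.sum_congr rfl fun φ _ => pow_two _
  have hv2 : ∑ φ ∈ R, (v φ) ^ 2 = ∑ φ ∈ R, v φ * v φ := Finset.sum_congr rfl fun φ _ => pow_two _
  rw [hK2, hv2] at hcs
  have eS : (u.map fun a => a.1 * a.1).sum = ∑ φ ∈ U, dg φ * dg φ :=
    sum_map_eq (vKey v) hu fun a => a.1 * a.1
  have eQ : (u.map fun a => a.2 * a.2).sum = ∑ φ ∈ U, v φ * v φ :=
    sum_map_eq (vKey v) hu fun a => a.2 * a.2
  have eD : (u.map fun a => (a.1 : ℤ) * a.2).sum = ∑ φ ∈ U, (dg φ : ℤ) * v φ :=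
    sum_map_eq (vKey v) hu fun a => (a.1 : ℤ) * a.2
  simp only [leftoverOK, eS, eQ, eD, Bool.and_eq_true, decide_eq_true_eq]
  rw [← hR, hRd] at h1
  rw [← hR, hRv] at h2
  rw [← hR] at h3
  set S := ∑ φ ∈ U, dg φ * dg φ
  set K2 := ∑ φ ∈ R, K φ * K φ
  set KV := ∑ φ ∈ R, (K φ : ℤ) * v φ
  set Sd := ∑ φ ∈ U, (dg φ : ℤ) * v φ
  set Q := ∑ φ ∈ U, v φ * v φ
  set RQ := ∑ φ ∈ R, v φ * v φ
  have hRQ : 0 ≤ RQ := Finset.sum_nonneg fun φ _ => mul_self_nonneg _
  refine ⟨⟨⟨⟨by omega, by linarith⟩, by omega⟩, by omega⟩, ?_⟩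
  rw [show (10200960 - S) / 64009 = K2 by omega, show Sd / 253 = -KV by omega]
  have hK0 : (0 : ℤ) ≤ (K2 : ℤ) := Nat.cast_nonneg _
  have hle := mul_le_mul_of_nonneg_left
    (show RQ ≤ (Nat.card (Subgroup.centralizer ({g} : Set G)) : ℤ) - Q by linarith) hK0
  nlinarith

/-- The configuration at seven passes the stage. -/
theorem mem_stageSeven [IsSimpleGroup G] [Fact (Nat.Prime 7)] (hV : InvVals g v)
    (hG : Nat.card G = 10200960) {U : Finset (IrrCharacter G)} {u : List (ℕ × ℤ)}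
    (hu : U.val.map (vKey v) = ↑u) (hU : ∀ φ, φ ∉ U → 253 ∣ dg φ) (P : Sylow 7 G)
    (hsmall : ∀ w : ℕ, Nat.card (Subgroup.centralizer ((P : Subgroup G) : Set G)) = 7 * w →
      w % 11 ≠ 0 ∧ w % 23 ≠ 0) :
    ∃ (B : Blk) (M : Ideal AlgInt) (CF YF : Finset (IrrCharacter G)) (ε : IrrCharacter G → ℤ),
      Setup 7 B M P CF YF ε ∧
        (B.e, B.w) ∈ stageSeven (Nat.card (Subgroup.centralizer ({g} : Set G))) u := by
  obtain ⟨B, M, CF, YF, ε, S, hcfg, hrow⟩ := exists_setup hG (p := 7) (by norm_num) (by norm_num)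
    (by norm_num) P (fun d => decide (d % 253 = 0) || (u.map Prod.fst).contains d) fun M _ φ _ _ => by
      rw [Bool.or_eq_true, decide_eq_true_eq, List.contains_iff_mem]
      by_cases h : φ ∈ U
      · exact Or.inr (mem_of_mem_map dg (deg_map hu) h)
      · exact Or.inl (Nat.mod_eq_zero_of_dvd (hU φ h))
  refine ⟨B, M, CF, YF, ε, S, List.mem_filter.2 ⟨List.mem_filter.2 ⟨hcfg, ?_⟩, ?_⟩⟩
  · simp only [Bool.and_eq_true, decide_eq_true_eq]
    exact hsmall B.w S.card_C
  rw [forceN_eq, forceN_eq, List.any_eq_true]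
  refine ⟨B, mem_rowsFast hrow, ?_⟩
  rw [Bool.and_eq_true, List.any_eq_true]
  obtain ⟨z, hz, hzm⟩ := exists_stageNext hV 253 hu hU S
  refine ⟨sqOK_of hG (U ∪ (CF ∪ YF)) ?_, z, hz, normOK_of hV (U ∪ (CF ∪ YF)) ?_⟩
  · rw [coe_unionL, ← deg_map hu, ← S.degKeys_eq]
    exact Multiset.union_le (Multiset.map_le_map (Finset.val_le_iff.2 Finset.subset_union_left))
      (Multiset.map_le_map (Finset.val_le_iff.2 Finset.subset_union_right))
  · rw [coe_unionL, ← hu, ← hzm]
    exact Multiset.union_le (Multiset.map_le_map (Finset.val_le_iff.2 Finset.subset_union_left))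
      (Multiset.map_le_map (Finset.val_le_iff.2 Finset.subset_union_right))

end CfsgLib.Recog.OrderM23
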