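import Cfsg.Agent.Lib.Recog.OrderM23.Chunks

/-!
# Simple groups of order 10200960: the search at the centraliser orders 128, 384, 640, 1152, 1920, 5760
-/

set_option autoImplicit false
set_option maxRecDepth 100000
set_option Elab.async false

namespace CfsgLib.Recog.OrderM23

theorem check_128_0 : (((listEleven.drop 0).take 17).all (checkRow listFive 128)) = true := by
  decide +kernel

theorem check_128_17 : (((listEleven.drop 17).take 17).all (checkRow listFive 128)) = true := by
  decide +kernel

theorem check_128_34 : (((listEleven.drop 34).take 17).all (checkRow listFive 128)) = true := by
  decide +kernel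

theorem check_128 : (listEleven.all (checkRow listFive 128)) = true :=
  all_drop_step 0 17 check_128_0 <|
  all_drop_step 17 17 check_128_17 <|
  all_drop_step 34 17 check_128_34 <|
  rfl

theorem check_384_0 : (((listEleven.drop 0).take 17).all (checkRow listFive 384)) = true := by
  decide +kernel

theorem check_384_17 : (((listEleven.drop 17).take 17).all (checkRow listFive 384)) = true := by
  decide +kernel

theorem check_384_34 : (((listEleven.drop 34).take 17).all (checkRow listFive 384)) = true := by
  decide +kernel

theorem check_384 : (listEleven.all (checkRow listFive 384)) = true :=
  all_drop_step 0 17 check_384_0 <|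
  all_drop_step 17 17 check_384_17 <|
  all_drop_step 34 17 check_384_34 <|
  rfl

theorem check_640_0 : (((listEleven.drop 0).take 17).all (checkRow listFive 640)) = true := by
  decide +kernel

theorem check_640_17 : (((listEleven.drop 17).take 17).all (checkRow listFive 640)) = true := by
  decide +kernel

theorem check_640_34 : (((listEleven.drop 34).take 17).all (checkRow listFive 640)) = true := by
  decide +kernel

theorem check_640 : (listEleven.all (checkRow listFive 640)) = true :=
  all_drop_step 0 17 check_640_0 <|
  all_drop_step 17 17 check_640_17 <|
  all_drop_step 34 17 check_640_34 <|
  rfl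

theorem check_1152_0 : (((listEleven.drop 0).take 12).all (checkRow listFive 1152)) = true := by
  decide +kernel

theorem check_1152_12 : (((listEleven.drop 12).take 1).all (checkRow listFive 1152)) = true := by
  decide +kernel

theorem check_1152_13 : (((listEleven.drop 13).take 4).all (checkRow listFive 1152)) = true := by
  decide +kernel

theorem check_1152_17 : (((listEleven.drop 17).take 1).all (checkRow listFive 1152)) = true := by
  decide +kernel

theorem check_1152_18 : (((listEleven.drop 18).take 27).all (checkRow listFive 1152)) = true := by
  decide +kernel

theorem check_1152_45 : (((listEleven.drop 45).take 1).all (checkRow listFive 1152)) = true := by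
  decide +kernel

theorem check_1152_46 : (((listEleven.drop 46).take 5).all (checkRow listFive 1152)) = true := by
  decide +kernel

theorem check_1152 : (listEleven.all (checkRow listFive 1152)) = true :=
  all_drop_step 0 12 check_1152_0 <|
  all_drop_step 12 1 check_1152_12 <|
  all_drop_step 13 4 check_1152_13 <|
  all_drop_step 17 1 check_1152_17 <|
  all_drop_step 18 27 check_1152_18 <|
  all_drop_step 45 1 check_1152_45 <|
  all_drop_step 46 5 check_1152_46 <|
  rfl

theorem check_1920_0 : (((listEleven.drop 0).take 19).all (checkRow listFive 1920)) = true := by
  decide +kernel

theorem check_1920_19 : (((listEleven.drop 19).take 1).all (checkRow listFive 1920)) = true := by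
  decide +kernel

theorem check_1920_20 : (((listEleven.drop 20).take 14).all (checkRow listFive 1920)) = true := by
  decide +kernel

theorem check_1920_34 : (((listEleven.drop 34).take 16).all (checkRow listFive 1920)) = true := by
  decide +kernel

theorem check_1920_50 : (((listEleven.drop 50).take 1).all (checkRow listFive 1920)) = true := by
  decide +kernel

theorem check_1920 : (listEleven.all (checkRow listFive 1920)) = true :=
  all_drop_step 0 19 check_1920_0 <|
  all_drop_step 19 1 check_1920_19 <|
  all_drop_step 20 14 check_1920_20 <|
  all_drop_step 34 16 check_1920_34 <|
  all_drop_step 50 1 check_1920_50 <|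
  rfl

theorem check_5760_0 : (((listEleven.drop 0).take 17).all (checkRow listFive 5760)) = true := by
  decide +kernel

theorem check_5760_17 : (((listEleven.drop 17).take 17).all (checkRow listFive 5760)) = true := by
  decide +kernel

theorem check_5760_34 : (((listEleven.drop 34).take 17).all (checkRow listFive 5760)) = true := by
  decide +kernel

theorem check_5760 : (listEleven.all (checkRow listFive 5760)) = true :=
  all_drop_step 0 17 check_5760_0 <|
  all_drop_step 17 17 check_5760_17 <|
  all_drop_step 34 17 check_5760_34 <|
  rfl

end CfsgLib.Recog.OrderM23
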