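import Cfsg.Agent.Lib.Recog.OrderM23.Chunks

/-!
# Simple groups of order 10200960: the search at the centraliser orders 4480, 13440, 40320
-/

set_option autoImplicit false
set_option maxRecDepth 100000
set_option Elab.async false

namespace CfsgLib.Recog.OrderM23

theorem check_4480_0 : (((listEleven.drop 0).take 12).all (checkRow listFive 4480)) = true := by
  decide +kernel

theorem check_4480_12 : (((listEleven.drop 12).take 1).all (checkRow listFive 4480)) = true := by
  decide +kernel

theorem check_4480_13 : (((listEleven.drop 13).take 6).all (checkRow listFive 4480)) = true := by
  decide +kernel

theorem check_4480_19 : (((listEleven.drop 19).take 1).all (checkRow listFive 4480)) = true := by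
  decide +kernel

theorem check_4480_20 : (((listEleven.drop 20).take 14).all (checkRow listFive 4480)) = true := by
  decide +kernel

theorem check_4480_34 : (((listEleven.drop 34).take 1).all (checkRow listFive 4480)) = true := by
  decide +kernel

theorem check_4480_35 : (((listEleven.drop 35).take 6).all (checkRow listFive 4480)) = true := by
  decide +kernel

theorem check_4480_41 : (((listEleven.drop 41).take 1).all (checkRow listFive 4480)) = true := by
  decide +kernel

theorem check_4480_42 : (((listEleven.drop 42).take 9).all (checkRow listFive 4480)) = true := by
  decide +kernel

theorem check_4480 : (listEleven.all (checkRow listFive 4480)) = true :=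
  all_drop_step 0 12 check_4480_0 <|
  all_drop_step 12 1 check_4480_12 <|
  all_drop_step 13 6 check_4480_13 <|
  all_drop_step 19 1 check_4480_19 <|
  all_drop_step 20 14 check_4480_20 <|
  all_drop_step 34 1 check_4480_34 <|
  all_drop_step 35 6 check_4480_35 <|
  all_drop_step 41 1 check_4480_41 <|
  all_drop_step 42 9 check_4480_42 <|
  rfl

theorem check_13440_0 : (((listEleven.drop 0).take 12).all (checkRow listFive 13440)) = true := by
  decide +kernel

theorem check_13440_12 : (((listEleven.drop 12).take 1).all (checkRow listFive 13440)) = true := by
  decide +kernel

theorem check_13440_13 : (((listEleven.drop 13).take 6).all (checkRow listFive 13440)) = true := by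
  decide +kernel

theorem check_13440_19 : (((listEleven.drop 19).take 1).all (checkRow listFive 13440)) = true := by
  decide +kernel

theorem check_13440_20 : (((listEleven.drop 20).take 1).all (checkRow listFive 13440)) = true := by
  decide +kernel

theorem check_13440_21 : (((listEleven.drop 21).take 12).all (checkRow listFive 13440)) = true := by
  decide +kernel

theorem check_13440_33 : (((listEleven.drop 33).take 1).all (checkRow listFive 13440)) = true := by
  decide +kernel

theorem check_13440_34 : (((listEleven.drop 34).take 1).all (checkRow listFive 13440)) = true := by
  decide +kernel

theorem check_13440_35 : (((listEleven.drop 35).take 7).all (checkRow listFive 13440)) = true := by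
  decide +kernel

theorem check_13440_42 : (((listEleven.drop 42).take 1).all (checkRow listFive 13440)) = true := by
  decide +kernel

theorem check_13440_43 : (((listEleven.drop 43).take 8).all (checkRow listFive 13440)) = true := by
  decide +kernel

theorem check_13440 : (listEleven.all (checkRow listFive 13440)) = true :=
  all_drop_step 0 12 check_13440_0 <|
  all_drop_step 12 1 check_13440_12 <|
  all_drop_step 13 6 check_13440_13 <|
  all_drop_step 19 1 check_13440_19 <|
  all_drop_step 20 1 check_13440_20 <|
  all_drop_step 21 12 check_13440_21 <|
  all_drop_step 33 1 check_13440_33 <|
  all_drop_step 34 1 check_13440_34 <|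
  all_drop_step 35 7 check_13440_35 <|
  all_drop_step 42 1 check_13440_42 <|
  all_drop_step 43 8 check_13440_43 <|
  rfl

theorem check_40320_0 : (((listEleven.drop 0).take 12).all (checkRow listFive 40320)) = true := by
  decide +kernel

theorem check_40320_12 : (((listEleven.drop 12).take 1).all (checkRow listFive 40320)) = true := by
  decide +kernel

theorem check_40320_13 : (((listEleven.drop 13).take 7).all (checkRow listFive 40320)) = true := by
  decide +kernel

theorem check_40320_20 : (((listEleven.drop 20).take 1).all (checkRow listFive 40320)) = true := by
  decide +kernel

theorem check_40320_21 : (((listEleven.drop 21).take 13).all (checkRow listFive 40320)) = true := by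
  decide +kernel

theorem check_40320_34 : (((listEleven.drop 34).take 1).all (checkRow listFive 40320)) = true := by
  decide +kernel

theorem check_40320_35 : (((listEleven.drop 35).take 11).all (checkRow listFive 40320)) = true := by
  decide +kernel

theorem check_40320_46 : (((listEleven.drop 46).take 5).all (checkRow listFive 40320)) = true := by
  decide +kernel

theorem check_40320 : (listEleven.all (checkRow listFive 40320)) = true :=
  all_drop_step 0 12 check_40320_0 <|
  all_drop_step 12 1 check_40320_12 <|
  all_drop_step 13 7 check_40320_13 <|
  all_drop_step 20 1 check_40320_20 <|
  all_drop_step 21 13 check_40320_21 <|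
  all_drop_step 34 1 check_40320_34 <|
  all_drop_step 35 11 check_40320_35 <|
  all_drop_step 46 5 check_40320_46 <|
  rfl

end CfsgLib.Recog.OrderM23
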