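import Cfsg.Agent.Lib.Recog.OrderM23.Chunks

/-!
# Simple groups of order 10200960: the search at the centraliser orders 896
-/

set_option autoImplicit false
set_option maxRecDepth 100000
set_option Elab.async false

namespace CfsgLib.Recog.OrderM23

theorem check_896_0 : (((listEleven.drop 0).take 12).all (checkRow listFive 896)) = true := by
  decide +kernel

theorem check_896_12 : (((listEleven.drop 12).take 5).all (checkRow listFive 896)) = true := by
  decide +kernel

theorem check_896_17 : (((listEleven.drop 17).take 1).all (checkRow listFive 896)) = true := by
  decide +kernel

theorem check_896_18 : (((listEleven.drop 18).take 8).all (checkRow listFive 896)) = true := by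
  decide +kernel

theorem check_896_26 : (((listEleven.drop 26).take 1).all (checkRow listFive 896)) = true := by
  decide +kernel

theorem check_896_27 : (((listEleven.drop 27).take 6).all (checkRow listFive 896)) = true := by
  decide +kernel

theorem check_896_33 : (((listEleven.drop 33).take 1).all (checkRow listFive 896)) = true := by
  decide +kernel

theorem check_896_34 : (((listEleven.drop 34).take 11).all (checkRow listFive 896)) = true := by
  decide +kernel

theorem check_896_45 : (((listEleven.drop 45).take 1).all (checkRow listFive 896)) = true := by
  decide +kernel

theorem check_896_46 : (((listEleven.drop 46).take 5).all (checkRow listFive 896)) = true := by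
  decide +kernel

theorem check_896 : (listEleven.all (checkRow listFive 896)) = true :=
  all_drop_step 0 12 check_896_0 <|
  all_drop_step 12 5 check_896_12 <|
  all_drop_step 17 1 check_896_17 <|
  all_drop_step 18 8 check_896_18 <|
  all_drop_step 26 1 check_896_26 <|
  all_drop_step 27 6 check_896_27 <|
  all_drop_step 33 1 check_896_33 <|
  all_drop_step 34 11 check_896_34 <|
  all_drop_step 45 1 check_896_45 <|
  all_drop_step 46 5 check_896_46 <|
  rfl

end CfsgLib.Recog.OrderM23
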