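import Cfsg.Agent.Lib.Recog.OrderM23.Chunks

/-!
# Simple groups of order 10200960: the search at the centraliser orders 8064
-/

set_option autoImplicit false
set_option maxRecDepth 100000
set_option Elab.async false

namespace CfsgLib.Recog.OrderM23

theorem check_8064_0 : (((listEleven.drop 0).take 12).all (checkRow listFive 8064)) = true := by
  decide +kernel

theorem check_8064_12 : (((listEleven.drop 12).take 1).all (checkRow listFive 8064)) = true := by
  decide +kernel

theorem check_8064_13 : (((listEleven.drop 13).take 4).all (checkRow listFive 8064)) = true := by
  decide +kernel

theorem check_8064_17 : (((listEleven.drop 17).take 1).all (checkRow listFive 8064)) = true := by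
  decide +kernel

theorem check_8064_18 : (((listEleven.drop 18).take 1).all (checkRow listFive 8064)) = true := by
  decide +kernel

theorem check_8064_19 : (((listEleven.drop 19).take 1).all (checkRow listFive 8064)) = true := by
  decide +kernel

theorem check_8064_20 : (((listEleven.drop 20).take 4).all (checkRow listFive 8064)) = true := by
  decide +kernel

theorem check_8064_24 : (((listEleven.drop 24).take 1).all (checkRow listFive 8064)) = true := by
  decide +kernel

theorem check_8064_25 : (((listEleven.drop 25).take 1).all (checkRow listFive 8064)) = true := by
  decide +kernel

theorem check_8064_26 : (((listEleven.drop 26).take 6).all (checkRow listFive 8064)) = true := by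
  decide +kernel

theorem check_8064_32 : (((listEleven.drop 32).take 1).all (checkRow listFive 8064)) = true := by
  decide +kernel

theorem check_8064_33 : (((listEleven.drop 33).take 5).all (checkRow listFive 8064)) = true := by
  decide +kernel

theorem check_8064_38 : (((listEleven.drop 38).take 1).all (checkRow listFive 8064)) = true := by
  decide +kernel

theorem check_8064_39 : (((listEleven.drop 39).take 6).all (checkRow listFive 8064)) = true := by
  decide +kernel

theorem check_8064_45 : (((listEleven.drop 45).take 1).all (checkRow listFive 8064)) = true := by
  decide +kernel

theorem check_8064_46 : (((listEleven.drop 46).take 5).all (checkRow listFive 8064)) = true := by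
  decide +kernel

theorem check_8064 : (listEleven.all (checkRow listFive 8064)) = true :=
  all_drop_step 0 12 check_8064_0 <|
  all_drop_step 12 1 check_8064_12 <|
  all_drop_step 13 4 check_8064_13 <|
  all_drop_step 17 1 check_8064_17 <|
  all_drop_step 18 1 check_8064_18 <|
  all_drop_step 19 1 check_8064_19 <|
  all_drop_step 20 4 check_8064_20 <|
  all_drop_step 24 1 check_8064_24 <|
  all_drop_step 25 1 check_8064_25 <|
  all_drop_step 26 6 check_8064_26 <|
  all_drop_step 32 1 check_8064_32 <|
  all_drop_step 33 5 check_8064_33 <|
  all_drop_step 38 1 check_8064_38 <|
  all_drop_step 39 6 check_8064_39 <|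
  all_drop_step 45 1 check_8064_45 <|
  all_drop_step 46 5 check_8064_46 <|
  rfl

end CfsgLib.Recog.OrderM23
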