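import Cfsg.Agent.Lib.Recog.OrderM23.Chunks

/-!
# Simple groups of order 10200960: the search at the centraliser orders 2688
-/

set_option autoImplicit false
set_option maxRecDepth 100000
set_option Elab.async false

namespace CfsgLib.Recog.OrderM23

theorem check_2688_0 : (((listEleven.drop 0).take 12).all (checkRow listFive 2688)) = true := by
  decide +kernel

theorem check_2688_12 : (((listEleven.drop 12).take 1).all (checkRow listFive 2688)) = true := by
  decide +kernel

theorem check_2688_13 : (((listEleven.drop 13).take 4).all (checkRow listFive 2688)) = true := by
  decide +kernel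

theorem check_2688_17 : (((listEleven.drop 17).take 1).all (checkRow listFive 2688)) = true := by
  decide +kernel

theorem check_2688_18 : (((listEleven.drop 18).take 1).all (checkRow listFive 2688)) = true := by
  decide +kernel

theorem check_2688_19 : (((listEleven.drop 19).take 1).all (checkRow listFive 2688)) = true := by
  decide +kernel

theorem check_2688_20 : (((listEleven.drop 20).take 1).all (checkRow listFive 2688)) = true := by
  decide +kernel

theorem check_2688_21 : (((listEleven.drop 21).take 3).all (checkRow listFive 2688)) = true := by
  decide +kernel

theorem check_2688_24 : (((listEleven.drop 24).take 1).all (checkRow listFive 2688)) = true := by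
  decide +kernel

theorem check_2688_25 : (((listEleven.drop 25).take 1).all (checkRow listFive 2688)) = true := by
  decide +kernel

theorem check_2688_26 : (((listEleven.drop 26).take 5).all (checkRow listFive 2688)) = true := by
  decide +kernel

theorem check_2688_31 : (((listEleven.drop 31).take 1).all (checkRow listFive 2688)) = true := by
  decide +kernel

theorem check_2688_32 : (((listEleven.drop 32).take 1).all (checkRow listFive 2688)) = true := by
  decide +kernel

theorem check_2688_33_0 :
    ((((((listEleven.drop 33).take 1).flatMap (stageEleven 2688)).drop 0).take 1).all (checkY listFive 2688)) = true := by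
  decide +kernel

theorem check_2688_33_1 :
    ((((((listEleven.drop 33).take 1).flatMap (stageEleven 2688)).drop 1).take 1).all (checkY listFive 2688)) = true := by
  decide +kernel

theorem check_2688_33_2 :
    ((((((listEleven.drop 33).take 1).flatMap (stageEleven 2688)).drop 2).take 1).all (checkY listFive 2688)) = true := by
  decide +kernel

theorem check_2688_33_3 :
    ((((((listEleven.drop 33).take 1).flatMap (stageEleven 2688)).drop 3).take 1).all (checkY listFive 2688)) = true := by
  decide +kernel

theorem check_2688_33_4 :
    ((((((listEleven.drop 33).take 1).flatMap (stageEleven 2688)).drop 4).take 1).all (checkY listFive 2688)) = true := by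
  decide +kernel

theorem check_2688_33_5 :
    ((((((listEleven.drop 33).take 1).flatMap (stageEleven 2688)).drop 5).take 1).all (checkY listFive 2688)) = true := by
  decide +kernel

theorem check_2688_33_6 :
    ((((((listEleven.drop 33).take 1).flatMap (stageEleven 2688)).drop 6).take 1).all (checkY listFive 2688)) = true := by
  decide +kernel

theorem check_2688_33_7 :
    ((((((listEleven.drop 33).take 1).flatMap (stageEleven 2688)).drop 7).take 1).all (checkY listFive 2688)) = true := by
  decide +kernel

theorem check_2688_33_8 :
    ((((((listEleven.drop 33).take 1).flatMap (stageEleven 2688)).drop 8).take 1).all (checkY listFive 2688)) = true := by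
  decide +kernel

theorem check_2688_33_9 :
    ((((((listEleven.drop 33).take 1).flatMap (stageEleven 2688)).drop 9).take 1).all (checkY listFive 2688)) = true := by
  decide +kernel

theorem check_2688_33_10 :
    ((((((listEleven.drop 33).take 1).flatMap (stageEleven 2688)).drop 10).take 1).all (checkY listFive 2688)) = true := by
  decide +kernel

theorem check_2688_33_11 :
    ((((((listEleven.drop 33).take 1).flatMap (stageEleven 2688)).drop 11).take 1).all (checkY listFive 2688)) = true := by
  decide +kernel

theorem check_2688_33_12 :
    ((((((listEleven.drop 33).take 1).flatMap (stageEleven 2688)).drop 12).take 1).all (checkY listFive 2688)) = true := by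
  decide +kernel

theorem check_2688_33_end :
    (((((listEleven.drop 33).take 1).flatMap (stageEleven 2688)).drop 13).all (checkY listFive 2688)) = true := by
  decide +kernel

theorem check_2688_33 : (((listEleven.drop 33).take 1).all (checkRow listFive 2688)) = true :=
  all_checkRow_of_flatMap <|
    all_drop_step 0 1 check_2688_33_0 <|
    all_drop_step 1 1 check_2688_33_1 <|
    all_drop_step 2 1 check_2688_33_2 <|
    all_drop_step 3 1 check_2688_33_3 <|
    all_drop_step 4 1 check_2688_33_4 <|
    all_drop_step 5 1 check_2688_33_5 <|
    all_drop_step 6 1 check_2688_33_6 <|
    all_drop_step 7 1 check_2688_33_7 <|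
    all_drop_step 8 1 check_2688_33_8 <|
    all_drop_step 9 1 check_2688_33_9 <|
    all_drop_step 10 1 check_2688_33_10 <|
    all_drop_step 11 1 check_2688_33_11 <|
    all_drop_step 12 1 check_2688_33_12 <|
    check_2688_33_end

theorem check_2688_34 : (((listEleven.drop 34).take 1).all (checkRow listFive 2688)) = true := by
  decide +kernel

theorem check_2688_35 : (((listEleven.drop 35).take 4).all (checkRow listFive 2688)) = true := by
  decide +kernel

theorem check_2688_39 : (((listEleven.drop 39).take 1).all (checkRow listFive 2688)) = true := by
  decide +kernel

theorem check_2688_40 : (((listEleven.drop 40).take 5).all (checkRow listFive 2688)) = true := by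
  decide +kernel

theorem check_2688_45_0 :
    ((((((listEleven.drop 45).take 1).flatMap (stageEleven 2688)).drop 0).take 1).all (checkY listFive 2688)) = true := by
  decide +kernel

theorem check_2688_45_1 :
    ((((((listEleven.drop 45).take 1).flatMap (stageEleven 2688)).drop 1).take 1).all (checkY listFive 2688)) = true := by
  decide +kernel

theorem check_2688_45_end :
    (((((listEleven.drop 45).take 1).flatMap (stageEleven 2688)).drop 2).all (checkY listFive 2688)) = true := by
  decide +kernel

theorem check_2688_45 : (((listEleven.drop 45).take 1).all (checkRow listFive 2688)) = true :=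
  all_checkRow_of_flatMap <|
    all_drop_step 0 1 check_2688_45_0 <|
    all_drop_step 1 1 check_2688_45_1 <|
    check_2688_45_end

theorem check_2688_46 : (((listEleven.drop 46).take 5).all (checkRow listFive 2688)) = true := by
  decide +kernel

theorem check_2688 : (listEleven.all (checkRow listFive 2688)) = true :=
  all_drop_step 0 12 check_2688_0 <|
  all_drop_step 12 1 check_2688_12 <|
  all_drop_step 13 4 check_2688_13 <|
  all_drop_step 17 1 check_2688_17 <|
  all_drop_step 18 1 check_2688_18 <|
  all_drop_step 19 1 check_2688_19 <|
  all_drop_step 20 1 check_2688_20 <|
  all_drop_step 21 3 check_2688_21 <|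
  all_drop_step 24 1 check_2688_24 <|
  all_drop_step 25 1 check_2688_25 <|
  all_drop_step 26 5 check_2688_26 <|
  all_drop_step 31 1 check_2688_31 <|
  all_drop_step 32 1 check_2688_32 <|
  all_drop_step 33 1 check_2688_33 <|
  all_drop_step 34 1 check_2688_34 <|
  all_drop_step 35 4 check_2688_35 <|
  all_drop_step 39 1 check_2688_39 <|
  all_drop_step 40 5 check_2688_40 <|
  all_drop_step 45 1 check_2688_45 <|
  all_drop_step 46 5 check_2688_46 <|
  rfl

end CfsgLib.Recog.OrderM23
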