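import Cfsg.Agent.Lib.Recog.OrderM23.Lists

/-!
# Simple groups of order 10200960: checking lists piece by piece
-/

set_option autoImplicit false
set_option maxRecDepth 100000
set_option Elab.async false

namespace CfsgLib.Recog.OrderM23

theorem all_drop_step {α : Type} {f : α → Bool} {l : List α} (a n : ℕ)
    (h : ((l.drop a).take n).all f = true) (t : (l.drop (a + n)).all f = true) :
    (l.drop a).all f = true := by
  rw [← List.take_append_drop n (l.drop a), List.all_append, h, List.drop_drop, t]
  rfl

theorem all_checkRow_of_flatMap {rows : List Blk} {c : ℕ} {l : List Blk}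
    (h : (l.flatMap (stageEleven c)).all (checkY rows c) = true) :
    l.all (checkRow rows c) = true := by
  rw [List.all_eq_true] at h ⊢
  intro A hA
  rw [checkRow, List.all_eq_true]
  exact fun y hy => h y (List.mem_flatMap.2 ⟨A, hA, hy⟩)

end CfsgLib.Recog.OrderM23
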