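import Cfsg.Agent.Lib.Recog.OrderM23.Sieve

/-!
# The automiser of a Sylow 11-subgroup: the search

The degrees are restricted by the self-centralising Sylow 23-subgroup.  A row is excluded by its
values at an involution centralising the Sylow subgroup, or by a character of degree 23 or 45 that
is alone of its degree, next to an element of order seven.
-/

set_option autoImplicit false
set_option maxRecDepth 100000
set_option maxHeartbeats 4000000

namespace CfsgLib.Recog.OrderM23.Eleven

/-- The degrees allowed next to a self-centralising subgroup of order 23 with automiser of order 11. -/
def degOK (d : ℕ) : Bool :=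
  decide (d % 23 = 0) || decide (d % 23 = 1) || decide (d % 23 = 11) || decide (d % 23 = 12) ||
    decide (d % 23 = 22)

/-- A degree below 66 that occurs once, next to an element of order seven. -/
def alone (B : Blk) : Bool :=
  decide (B.w % 7 = 0) && [23, 45].any fun d =>
    B.l.contains (d, true) && decide ((degKeys B).count d = 1)

/-- The quotients by 22 of the orders of centralisers. -/
def cQuots : List ℕ := cenOrders.filter fun m => decide (20160 % m = 0)

/-- Excluded rows. -/
def dead (B : Blk) : Bool :=
  alone B || (decide (B.w % 2 = 0) && cQuots.all fun m => (vec B (22 * m)).isEmpty)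

set_option Elab.async false

theorem check_small : ((configs 11).all fun a => decide (a = (5, 1)) || decide (a.2 % 23 = 0) ||
    decide (a = (10, 6)) || decide (a = (10, 28)) || (rowsOf 11 a.1 a.2 degOK).all dead) = true := by
  decide +kernel

theorem check_6 : (rowsOf 11 10 6 degOK).all dead = true := by
  decide +kernel

theorem check_28 : (rowsOf 11 10 28 degOK).all dead = true := by
  decide +kernel

theorem check : ((configs 11).all fun a => decide (a = (5, 1)) || decide (a.2 % 23 = 0) ||
    (rowsOf 11 a.1 a.2 degOK).all dead) = true := by
  refine List.all_eq_true.2 fun a ha => ?_
  have h := List.all_eq_true.1 check_small a ha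
  simp only [Bool.or_eq_true, decide_eq_true_eq] at h ⊢
  rcases h with (((h | h) | rfl) | rfl) | h
  exacts [Or.inl (Or.inl h), Or.inl (Or.inr h), Or.inr check_6, Or.inr check_28, Or.inr h]

end CfsgLib.Recog.OrderM23.Eleven
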