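import Cfsg.Agent.Lib.Recog.OrderM23.Table
import Cfsg.Agent.Lib.Recog.OrderM22.Endgame
import Cfsg.Agent.Lib.ClassK.M23Nse.Orders
import Cfsg.Agent.Lib.Char.Fixed

/-!
# From the known part of the table to the numbers of elements of each order

The number of real characters bounds the number of real classes; the Frobenius-Schur count gives the
involutions and their square roots; the count of the seventeen classes does the rest.
-/

set_option autoImplicit false
set_option linter.unusedSectionVars false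

namespace CfsgLib.Recog.OrderM23

open Cfsg CfsgLib Subgroup CfsgLib.StructB.OrderCount
open scoped ComplexConjugate

universe u

/-- The characters alone of their degree. -/
def single : List (Fin 17) := [0, 1, 4, 8, 15, 16]

theorem same_deg : ∀ i j : Fin 17, degs j = degs i →
    (i ∈ single → j = i) ∧ ((i = 5 ∨ i = 6 ∨ i = 7) → (j = 5 ∨ j = 6 ∨ j = 7)) := by
  decide +kernel

theorem real_sums : ∀ r : Fin 17, (r = 5 ∨ r = 6 ∨ r = 7) →
    (insert r single.toFinset : Finset (Fin 17)).card = 7 ∧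
      ∑ i ∈ (insert r single.toFinset : Finset (Fin 17)), (degs i : ℤ) = 3796 ∧
      ∑ i ∈ (insert r single.toFinset : Finset (Fin 17)), tv i = 84 := by
  decide +kernel

/-- The three remaining centraliser orders. -/
theorem last_three : ([90, 180, 360, 720, 1440, 2880, 5760].all fun a =>
    [6, 12, 18, 24, 36, 42, 48, 84, 96, 168, 192, 336, 384].all fun b =>
      !(decide (a % b = 0) && decide (2688 % b = 0)) ||
        (!(decide ((322576 + (2181872 - 10200960 / a - 10200960 / b)) % 128 = 0) &&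
            decide (0 < 2181872 - 10200960 / a - 10200960 / b) &&
            decide (10200960 % (2181872 - 10200960 / a - 10200960 / b) = 0)) ||
          (decide (a = 180) && decide (b = 12)))) = true := by
  decide +kernel

theorem cand_three : ∀ a ∈ Nat.divisors 5760, 90 ∣ a → a ∈ [90, 180, 360, 720, 1440, 2880, 5760] := by
  decide +kernel

theorem cand_six : ∀ b ∈ Nat.divisors 2688, 6 ∣ b →
    b ∈ [6, 12, 18, 24, 36, 42, 48, 84, 96, 168, 192, 336, 384] ∨ ¬ b ∣ 5760 := by
  decide +kernel

section General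

variable {G : Type u} [Group G] [Finite G]

theorem centralizer_zpowers (x : G) :
    centralizer (zpowers x : Set G) = centralizer ({x} : Set G) := by
  rw [zpowers_eq_closure, centralizer_closure]

/-- An element with automiser of odd order is not conjugate to its inverse. -/
theorem not_conj_inv {x : G} {p c n : ℕ} (h : CentNorm G p c n) (hx : orderOf x = p) (hp : 2 < p)
    (hn : Odd (n / c)) : ¬ IsConj x x⁻¹ := by
  intro hc
  obtain ⟨g, hg⟩ := isConj_iff.1 hc
  set φ := (zpowers x).normalizerMonoidHom with hφ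
  have hgN : g ∈ normalizer (zpowers x : Set G) := by
    refine mem_normalizer_fintype fun s hs => ?_
    obtain ⟨k, rfl⟩ := mem_zpowers_iff.1 hs
    rw [← conj_zpow, hg]
    exact zpow_mem (inv_mem (mem_zpowers x)) k
  have hker : Nat.card φ.ker = c := by
    rw [hφ, normalizerMonoidHom_ker, Nat.card_congr
      (subgroupOfEquivOfLe (centralizer_le_normalizer _)).toEquiv, centralizer_zpowers, (h x hx).1]
  have hrange : Nat.card φ.range = n / c := by
    have h1 := φ.ker.index_mul_card
    rw [Subgroup.index_ker, hker, (h x hx).2] at h1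
    rw [← h1, Nat.mul_div_cancel _ (by rw [← (h x hx).1]; exact Nat.card_pos)]
  set σ := φ.rangeRestrict ⟨g, hgN⟩ with hσ
  have hval : ((φ ⟨g, hgN⟩ ⟨x, mem_zpowers x⟩ : zpowers x) : G) = x⁻¹ := hg
  have hsq : σ ^ 2 = 1 := by
    have hmem : (⟨g, hgN⟩ : normalizer (zpowers x : Set G)) ^ 2 ∈ φ.ker := by
      rw [hφ, normalizerMonoidHom_ker, mem_subgroupOf, centralizer_zpowers,
        mem_centralizer_singleton_iff]
      show g ^ 2 * x = x * g ^ 2
      have h1 : g * x⁻¹ * g⁻¹ = x := by rw [← conj_inv, hg, inv_inv]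
      calc g ^ 2 * x = g * (g * x * g⁻¹) * g := by rw [pow_two]; group
        _ = g * x⁻¹ * g⁻¹ * g ^ 2 := by rw [hg]; group
        _ = x * g ^ 2 := by rw [h1]
    rw [hσ, ← map_pow]
    exact Subtype.ext (MonoidHom.mem_ker.1 hmem)
  have h1 : σ = 1 := by
    have d1 := orderOf_dvd_natCard σ
    rw [hrange] at d1
    exact orderOf_eq_one_iff.1 (Nat.eq_one_of_dvd_coprimes (Nat.coprime_two_right.2 hn) d1
      (orderOf_dvd_of_pow_eq_one hsq))
  have h2 : φ ⟨g, hgN⟩ = 1 := congrArg Subtype.val h1
  rw [h2] at hval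
  have h3 : x ^ 2 = 1 := by
    rw [pow_two]
    nth_rewrite 2 [show x = x⁻¹ from hval]
    exact mul_inv_cancel x
  have := Nat.le_of_dvd (by norm_num) (hx ▸ orderOf_dvd_of_pow_eq_one h3)
  omega

theorem isConj_pow_inv {g : G} (h : IsConj g g⁻¹) (k : ℕ) : IsConj (g ^ k) (g ^ k)⁻¹ := by
  obtain ⟨c, hc⟩ := isConj_iff.1 h
  exact isConj_iff.2 ⟨c, by rw [← conj_pow, hc, inv_pow]⟩

theorem mul_cnt {p c n : ℕ} [hp : Fact p.Prime] (h : CentNorm G p c n) (hd : p ∣ Nat.card G)
    (hd2 : ¬ p ^ 2 ∣ Nat.card G) : cnt G p * n = (p - 1) * Nat.card G := by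
  obtain ⟨x, hx⟩ := exists_prime_orderOf_dvd_card' (G := G) p hd
  obtain ⟨P, hP⟩ := ClassK.M23Nse.exists_sylow_eq hd hd2 hx
  rw [cnt, Transfer.card_orderOf_eq_prime P (Transfer.card_sylow_eq_prime P hd hd2), ← (h x hx).2,
    P.card_eq_index_normalizer,
    show normalizer (P : Set G) = normalizer (zpowers x : Set G) from
      congrArg (fun H : Subgroup G => normalizer (H : Set G)) hP,
    ← (normalizer (zpowers x : Set G)).index_mul_card]
  ring

/-- A centraliser of order `p * q` is cyclic. -/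
theorem cyclic_cent {p q : ℕ} [hp : Fact p.Prime] [hq : Fact q.Prime] (hne : p ≠ q) {x : G}
    (hx : orderOf x = p) (hc : Nat.card (centralizer ({x} : Set G)) = p * q) :
    ∃ g : G, orderOf g = p * q ∧ centralizer ({x} : Set G) = zpowers g := by
  obtain ⟨⟨y, hy⟩, hyo⟩ := exists_prime_orderOf_dvd_card' (G := centralizer ({x} : Set G)) q
    (hc ▸ dvd_mul_left q p)
  rw [Subgroup.orderOf_mk] at hyo
  have hxy : Commute x y := (mem_centralizer_singleton_iff.1 hy).symm
  have ho : orderOf (x * y) = p * q := by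
    rw [hxy.orderOf_mul_eq_mul_orderOf_of_coprime
      (by rw [hx, hyo]; exact (Nat.coprime_primes hp.out hq.out).2 hne), hx, hyo]
  refine ⟨x * y, ho, (eq_of_le_of_card_ge (zpowers_le.2 ?_) (by rw [hc, Nat.card_zpowers, ho])).symm⟩
  exact mem_centralizer_singleton_iff.2 ((Commute.refl x).mul_right hxy).symm.eq

theorem ncom_eq_totient {p q : ℕ} [hp : Fact p.Prime] [hq : Fact q.Prime] (hne : p ≠ q) {x : G}
    (hx : orderOf x = p) (hc : Nat.card (centralizer ({x} : Set G)) = p * q) :
    ClassK.M23Nse.ncom x q = q - 1 := by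
  obtain ⟨g, -, he⟩ := cyclic_cent hne hx hc
  have e1 : ClassK.M23Nse.ncom x q = Nat.card {a : centralizer ({x} : Set G) // orderOf a = q} :=
    Nat.card_congr
      { toFun := fun a => ⟨⟨a.1, mem_centralizer_singleton_iff.2 a.2.2.symm.eq⟩,
          by rw [Subgroup.orderOf_mk]; exact a.2.1⟩
        invFun := fun a => ⟨a.1.1, by rw [Subgroup.orderOf_coe]; exact a.2,
          (mem_centralizer_singleton_iff.1 a.1.2).symm⟩
        left_inv := fun a => rfl
        right_inv := fun a => rfl }
  have : IsCyclic (centralizer ({x} : Set G)) := by rw [he]; infer_instance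
  have := Fintype.ofFinite (centralizer ({x} : Set G))
  rw [e1, Nat.card_eq_fintype_card, Fintype.card_subtype, IsCyclic.card_orderOf_eq_totient,
    Nat.totient_prime hq.out]
  rw [← Nat.card_eq_fintype_card, hc]
  exact dvd_mul_left q p

end General

namespace Table

open CfsgLib.Recog.OrderM22.Table (cls cnt_eq_sum order_out size_mul carrier_subset card_sq_order
  order_mul_self)

variable {G : Type u} [Group G] [Finite G] (T : Table G)
include T

/-- The irreducible characters, numbered. -/
noncomputable def equiv : Fin 17 ≃ IrrCharacter G := Equiv.ofBijective T.χ T.bij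

theorem sum_irr [Fintype (IrrCharacter G)] {M : Type*} [AddCommMonoid M]
    (f : IrrCharacter G → M) : ∑ φ, f φ = ∑ i, f (T.χ i) :=
  (T.equiv.sum_comp f).symm

theorem conj_index (i : Fin 17) :
    ∃ j, (∀ g, (T.χ j : G → ℂ) g = conj ((T.χ i : G → ℂ) g)) ∧ degs j = degs i := by
  obtain ⟨j, hj⟩ := T.bij.surjective ⟨_, Char.isIrrCharacter_conj (T.χ i).2⟩
  refine ⟨j, fun g => by rw [hj], ?_⟩
  have h : (T.χ j : G → ℂ) 1 = conj ((T.χ i : G → ℂ) 1) := by rw [hj]
  rw [← BlockB.irr_degree_cast, ← BlockB.irr_degree_cast, T.deg, T.deg, map_natCast] at h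
  exact_mod_cast h

/-- Seven real characters. -/
theorem exists_real : ∃ r : Fin 17, (r = 5 ∨ r = 6 ∨ r = 7) ∧
    ∀ i ∈ (insert r single.toFinset : Finset (Fin 17)), ∀ g, ((T.χ i : G → ℂ) g).im = 0 := by
  choose σ hσ hd using T.conj_index
  have hfix : ∀ i, σ i = i → ∀ g, ((T.χ i : G → ℂ) g).im = 0 := fun i e g =>
    Complex.conj_eq_iff_im.1 (by rw [← hσ i g, e])
  have hinv : ∀ i, σ (σ i) = i := fun i => T.bij.injective (Subtype.ext (funext fun g => by
    rw [hσ, hσ, Complex.conj_conj]))
  have hinj : Function.Injective σ := fun a b e => by rw [← hinv a, e, hinv]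
  have h567 : ∃ r, (r = 5 ∨ r = 6 ∨ r = 7) ∧ σ r = r := by
    by_contra hno
    simp only [not_exists, not_and] at hno
    have n5 := hno 5 (by simp)
    have n6 := hno 6 (by simp)
    have n7 := hno 7 (by simp)
    have i56 : σ 5 ≠ σ 6 := fun e => absurd (hinj e) (by decide)
    rcases (same_deg 5 (σ 5) (hd 5)).2 (by simp) with e | e | e
    · exact n5 e
    · have h6 : σ 6 = 5 := by rw [← e, hinv]
      rcases (same_deg 7 (σ 7) (hd 7)).2 (by simp) with f | f | f
      · exact absurd (hinj (f.trans h6.symm)) (by decide)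
      · exact absurd (hinj (f.trans e.symm)) (by decide)
      · exact n7 f
    · have h7 : σ 7 = 5 := by rw [← e, hinv]
      rcases (same_deg 6 (σ 6) (hd 6)).2 (by simp) with f | f | f
      · exact absurd (hinj (f.trans h7.symm)) (by decide)
      · exact n6 f
      · exact i56 (e.trans f.symm)
  obtain ⟨r, hr, hre⟩ := h567
  refine ⟨r, hr, fun i hi => hfix i ?_⟩
  rcases Finset.mem_insert.1 hi with rfl | hi'
  · exact hre
  · exact (same_deg i (σ i) (hd i)).1 (List.mem_toFinset.1 hi')

/-- The classes not closed under inversion. -/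
noncomputable def nonreal (G : Type u) [Group G] [Fintype (ConjClasses G)] :
    Finset (ConjClasses G) := by
  classical exact Finset.univ.filter fun C => ¬ IsConj (Quotient.out C) (Quotient.out C)⁻¹

theorem card_classes [Fintype (ConjClasses G)] : Fintype.card (ConjClasses G) = 17 := by
  rw [← Nat.card_eq_fintype_card, ← Char.irr_card_eq, ← Nat.card_congr T.equiv, Nat.card_fin]

theorem nonreal_le [Fintype (ConjClasses G)] :
    (nonreal G).card + Nat.card {χ : IrrCharacter G // ∀ g : G, ((χ : G → ℂ) g).im = 0} = 17 := by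
  classical
  have := Fintype.ofFinite G
  rw [Char.natCard_real_irr]
  have e : Nat.card {C : ConjClasses G // ∀ g : G, ConjClasses.mk g = C → IsConj g g⁻¹} =
      (Finset.univ.filter fun C : ConjClasses G => IsConj (Quotient.out C) (Quotient.out C)⁻¹).card := by
    rw [Nat.card_eq_fintype_card, Fintype.card_subtype]
    congr 1
    ext C
    simp only [Finset.mem_filter, Finset.mem_univ, true_and]
    refine ⟨fun h => h _ (Quotient.out_eq C), fun h g hg => ?_⟩
    obtain ⟨c, hc⟩ := isConj_iff.1 (ConjClasses.mk_eq_mk_iff_isConj.1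
      (show ConjClasses.mk (Quotient.out C) = ConjClasses.mk g by rw [hg]; exact Quotient.out_eq C))
    rw [← hc]
    obtain ⟨d, hd⟩ := isConj_iff.1 h
    exact isConj_iff.2 ⟨c * d * c⁻¹, by
      rw [show (c * Quotient.out C * c⁻¹)⁻¹ = c * (Quotient.out C)⁻¹ * c⁻¹ by group, ← hd]; group⟩
  rw [e, nonreal, add_comm, Finset.card_filter_add_card_filter_not, Finset.card_univ]
  exact T.card_classes

theorem seven_le_real : 7 ≤ Nat.card {χ : IrrCharacter G // ∀ g : G, ((χ : G → ℂ) g).im = 0} := by
  obtain ⟨r, hr, hre⟩ := T.exists_real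
  have : Finite (IrrCharacter G) := Finite.of_surjective _ T.bij.surjective
  refine le_of_eq_of_le (b := Nat.card (insert r single.toFinset : Finset (Fin 17))) ?_
    (Nat.card_le_card_of_injective (fun i => ⟨T.χ i.1, hre i.1 i.2⟩) fun a b e =>
      Subtype.ext (T.bij.injective (congrArg Subtype.val e)))
  rw [Nat.card_eq_fintype_card, Fintype.card_coe, (real_sums r hr).1]

omit T in
theorem cls_nonreal [Fintype (ConjClasses G)] {n : ℕ} (h : ∀ g : G, orderOf g = n → ¬ IsConj g g⁻¹) :
    cls G n ⊆ nonreal G := by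
  classical
  intro C hC
  exact Finset.mem_filter.2 ⟨Finset.mem_univ _, h _ (Finset.mem_filter.1 hC).2⟩

omit T in
theorem cls_two_le [Fintype (ConjClasses G)] {g : G} {n : ℕ} (hg : orderOf g = n)
    (h : ¬ IsConj g g⁻¹) : 2 ≤ (cls G n).card := by
  classical
  refine Finset.one_lt_card.2 ⟨ConjClasses.mk g, ?_, ConjClasses.mk g⁻¹, ?_,
    fun e => h (ConjClasses.mk_eq_mk_iff_isConj.1 e)⟩
  · exact Finset.mem_filter.2 ⟨Finset.mem_univ _, (order_out rfl).trans hg⟩
  · exact Finset.mem_filter.2 ⟨Finset.mem_univ _, (order_out rfl).trans (by rw [orderOf_inv, hg])⟩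

omit T in
theorem cls_one_le [Fintype (ConjClasses G)] {n : ℕ} (h : cnt G n ≠ 0) : 1 ≤ (cls G n).card := by
  refine Finset.card_pos.2 (Finset.nonempty_iff_ne_empty.2 fun e => h ?_)
  rw [cnt_eq_sum, e, Finset.sum_empty]

theorem cnt_mul_cent [Fintype (ConjClasses G)] {n c : ℕ}
    (h : ∀ g : G, orderOf g = n → Nat.card (centralizer ({g} : Set G)) = c) :
    cnt G n * c = (cls G n).card * 10200960 := by
  classical
  rw [cnt_eq_sum, Finset.sum_mul, Finset.sum_congr rfl (g := fun _ => 10200960) fun C hC => ?_,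
    Finset.sum_const, smul_eq_mul]
  have hs := size_mul (Quotient.out C)
  rw [h _ (Finset.mem_filter.1 hC).2, T.card] at hs
  exact (congrArg (fun D : ConjClasses G => Nat.card D.carrier * c) (Quotient.out_eq C)).symm.trans hs

/-! ### The elements of order divisible by 5, 7, 11, 23 -/

theorem prime_counts : cnt G 5 = 680064 ∧ cnt G 11 = 1854720 ∧ cnt G 23 = 887040 ∧ cnt G 15 = 1360128 := by
  have : Fact (Nat.Prime 5) := ⟨by norm_num⟩
  have : Fact (Nat.Prime 3) := ⟨Nat.prime_three⟩
  have : Fact (Nat.Prime 11) := ⟨by norm_num⟩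
  have : Fact (Nat.Prime 23) := ⟨by norm_num⟩
  have h5 := mul_cnt T.five (by rw [T.card]; norm_num) (by rw [T.card]; norm_num)
  have h11 := mul_cnt T.eleven (by rw [T.card]; norm_num) (by rw [T.card]; norm_num)
  have h23 := mul_cnt T.twentythree (by rw [T.card]; norm_num) (by rw [T.card]; norm_num)
  rw [T.card] at h5 h11 h23
  have e5 : cnt G 5 = 680064 := by omega
  obtain ⟨x, hx⟩ := exists_prime_orderOf_dvd_card' (G := G) 5 (by rw [T.card]; norm_num)
  have h15 := ClassK.M23Nse.cnt_mul_prime (q := 3) (T.card ▸ by norm_num) (T.card ▸ by norm_num)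
    (by norm_num) hx
  rw [e5, ncom_eq_totient (by norm_num) hx (by rw [(T.five x hx).1])] at h15
  exact ⟨e5, by omega, by omega, h15.trans (by norm_num)⟩

theorem cent_fifteen {g : G} (hg : orderOf g = 15) :
    Nat.card (centralizer ({g} : Set G)) = 15 := by
  have hx : orderOf (g ^ 3) = 5 := by rw [orderOf_pow' _ (by norm_num), hg]; norm_num
  refine Nat.dvd_antisymm ((T.five _ hx).1 ▸ card_dvd_of_le fun a ha => ?_) ?_
  · exact mem_centralizer_singleton_iff.2
      ((show Commute a g from mem_centralizer_singleton_iff.1 ha).pow_right 3).eq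
  · exact hg ▸ Subgroup.orderOf_dvd_natCard _ (mem_centralizer_singleton_iff.2 rfl)

theorem five_class [Fintype (ConjClasses G)] : (cls G 5).card = 1 := by
  have h := T.cnt_mul_cent fun g hg => (T.five g hg).1
  rw [T.prime_counts.1] at h
  omega

theorem not_conj_fifteen {g : G} (hg : orderOf g = 15) : ¬ IsConj g g⁻¹ := by
  classical
  have : Finite (ConjClasses G) := Finite.of_surjective _ ConjClasses.mk_surjective
  have := Fintype.ofFinite (ConjClasses G)
  intro hc
  obtain ⟨c, hc⟩ := isConj_iff.1 hc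
  set x := g ^ 3 with hxd
  set y := g ^ 5 with hyd
  have hx : orderOf x = 5 := by rw [hxd, orderOf_pow' _ (by norm_num), hg]; norm_num
  have hy : orderOf y = 3 := by rw [hyd, orderOf_pow' _ (by norm_num), hg]; norm_num
  have hx2 : orderOf (x ^ 2) = 5 := by rw [orderOf_pow' _ two_ne_zero, hx]; norm_num
  have hmem : ∀ z : G, orderOf z = 5 → ConjClasses.mk z ∈ cls G 5 := fun z hz =>
    Finset.mem_filter.2 ⟨Finset.mem_univ _, (order_out rfl).trans hz⟩
  obtain ⟨d, hd⟩ := isConj_iff.1 (ConjClasses.mk_eq_mk_iff_isConj.1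
    ((Finset.card_le_one.1 T.five_class.le) _ (hmem x hx) _ (hmem _ hx2)))
  have hC : centralizer ({x} : Set G) = zpowers g := (eq_of_le_of_card_ge
    (zpowers_le.2 (mem_centralizer_singleton_iff.2 (Commute.self_pow g 3).eq))
    (by rw [(T.five x hx).1, Nat.card_zpowers, hg])).symm
  have hxy : Commute x y := Commute.pow_pow_self g 3 5
  -- the image of `y` under `d` is `y` or its inverse
  have hdy : d * y * d⁻¹ ∈ zpowers g := by
    have h1 : Commute (x ^ 2) (d * y * d⁻¹) := by
      have h0 := hxy.map (MulAut.conj d).toMonoidHom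
      simp only [MulEquiv.coe_toMonoidHom, MulAut.conj_apply] at h0
      rwa [hd] at h0
    have h2 : Commute x (d * y * d⁻¹) := by
      have h3 := h1.pow_left 3
      rwa [← pow_mul, show 2 * 3 = orderOf x + 1 by omega, pow_succ, pow_orderOf_eq_one, one_mul] at h3
    rw [← hC]
    exact mem_centralizer_singleton_iff.2 h2.symm.eq
  have hd2 : d * (d * y * d⁻¹) * d⁻¹ = y := by
    obtain ⟨k, hk, hke⟩ : ∃ k < 15, g ^ k = d * y * d⁻¹ := by
      obtain ⟨k, hk, hke⟩ := (isOfFinOrder_of_finite g).mem_zpowers_iff_mem_range_orderOf.1 hdy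
        |> Finset.mem_image.1
      exact ⟨k, by rwa [Finset.mem_range, hg] at hk, hke⟩
    have ho : orderOf (g ^ k) = 3 := by rw [hke, CfsgLib.Invol.orderOf_conj_eq, hy]
    have hk5 : k = 5 ∨ k = 10 := by
      rcases Nat.eq_zero_or_pos k with rfl | hk0
      · rw [pow_zero, orderOf_one] at ho; omega
      rw [orderOf_pow' _ hk0.ne', hg] at ho
      revert ho
      interval_cases k <;> decide
    rcases hk5 with rfl | rfl
    · rw [← hke]; exact hke.symm
    · have e2 : g ^ 10 = y * y := by rw [hyd, ← pow_add]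
      rw [← hke, e2, show d * (y * y) * d⁻¹ = (d * y * d⁻¹) * (d * y * d⁻¹) by group, ← hke, e2]
      have h3 : y ^ 3 = 1 := hy ▸ pow_orderOf_eq_one y
      calc y * y * (y * y) = y ^ 3 * y := by rw [pow_three]; group
        _ = y := by rw [h3, one_mul]
  -- `c` acts on `x` as the square of `d`
  have hdd : d * d * x * (d * d)⁻¹ = x⁻¹ := by
    calc d * d * x * (d * d)⁻¹ = d * (d * x * d⁻¹) * d⁻¹ := by group
      _ = (d * x * d⁻¹) ^ 2 := by rw [hd, ← conj_pow, hd]
      _ = x⁻¹ := by
        rw [hd, ← pow_mul]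
        exact eq_inv_of_mul_eq_one_left (by rw [← pow_succ, show 2 * 2 + 1 = orderOf x by omega,
          pow_orderOf_eq_one])
  have hcx : c * x * c⁻¹ = x⁻¹ := by rw [hxd, ← conj_pow, hc, inv_pow]
  have hh : (d * d)⁻¹ * c ∈ zpowers g := by
    rw [← hC]
    refine mem_centralizer_singleton_iff.2 (mul_inv_eq_iff_eq_mul.1 ?_)
    calc (d * d)⁻¹ * c * x * ((d * d)⁻¹ * c)⁻¹ = (d * d)⁻¹ * (c * x * c⁻¹) * (d * d) := by
          generalize d * d = e
          group
      _ = (d * d)⁻¹ * (d * d * x * (d * d)⁻¹) * (d * d) := by rw [hcx, hdd]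
      _ = x := by
          generalize d * d = e
          group
  have hcy : c * y * c⁻¹ = y := by
    obtain ⟨k, hk⟩ := mem_zpowers_iff.1 hh
    have hky : g ^ k * y = y * g ^ k := ((Commute.self_pow g 5).zpow_left k).eq
    calc c * y * c⁻¹ = d * d * (g ^ k * y * (g ^ k)⁻¹) * (d * d)⁻¹ := by rw [hk]; group
      _ = d * (d * y * d⁻¹) * d⁻¹ := by rw [hky]; group
      _ = y := hd2
  have hcy' : c * y * c⁻¹ = y⁻¹ := by rw [hyd, ← conj_pow, hc, inv_pow]
  have h2 : y ^ 2 = 1 := by
    rw [pow_two]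
    nth_rewrite 2 [show y = y⁻¹ from hcy.symm.trans hcy']
    exact mul_inv_cancel y
  have := Nat.le_of_dvd (by norm_num) (hy ▸ orderOf_dvd_of_pow_eq_one h2)
  omega

theorem not_conj_seven {x : G} (hx : orderOf x = 7) : ¬ IsConj x x⁻¹ := by
  rcases T.seven with h | h <;> exact not_conj_inv h hx (by norm_num) (by decide)

theorem not_conj_seven_mul {g : G} (h7 : 7 ∣ orderOf g) : ¬ IsConj g g⁻¹ := fun h =>
  T.not_conj_seven (orderOf_pow_orderOf_div (orderOf_pos g).ne' h7) (isConj_pow_inv h _)

/-- The classes at the orders with nonreal classes. -/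
theorem nonreal_count [Fintype (ConjClasses G)] :
    (cls G 23).card = 2 ∧ (cls G 11).card = 2 ∧ (cls G 15).card = 2 ∧ (cls G 7).card = 2 ∧
      (cls G 14).card = 2 ∧ (nonreal G).card = 10 ∧ cnt G 28 = 0 ∧
      Nat.card {χ : IrrCharacter G // ∀ g : G, ((χ : G → ℂ) g).im = 0} = 7 := by
  classical
  have : Fact (Nat.Prime 7) := ⟨by norm_num⟩
  have : Fact (Nat.Prime 2) := ⟨Nat.prime_two⟩
  obtain ⟨-, e11, e23, e15⟩ := T.prime_counts
  have k23 := T.cnt_mul_cent fun g hg => (T.twentythree g hg).1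
  have k11 := T.cnt_mul_cent fun g hg => (T.eleven g hg).1
  have k15 := T.cnt_mul_cent fun g hg => T.cent_fifteen hg
  rw [e23] at k23; rw [e11] at k11; rw [e15] at k15
  obtain ⟨x, hx⟩ := exists_prime_orderOf_dvd_card' (G := G) 7 (by rw [T.card]; norm_num)
  have k7 : (cls G 7).card = 2 := by
    rcases T.seven with h | h
    all_goals
      have h1 := mul_cnt h (by rw [T.card]; norm_num) (by rw [T.card]; norm_num)
      have h2 := T.cnt_mul_cent fun g hg => (h g hg).1
      rw [T.card] at h1
      omega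
  have k14 : 2 ≤ (cls G 14).card := by
    obtain ⟨⟨z, hz⟩, hzo⟩ := exists_prime_orderOf_dvd_card' (G := centralizer ({x} : Set G)) 2 (by
      rcases T.seven with h | h <;> rw [(h x hx).1] <;> norm_num)
    rw [Subgroup.orderOf_mk] at hzo
    have ho : orderOf (x * z) = 14 := by
      rw [Commute.orderOf_mul_eq_mul_orderOf_of_coprime
        (show Commute x z from (mem_centralizer_singleton_iff.1 hz).symm)
        (by rw [hx, hzo]; norm_num), hx, hzo]
    exact cls_two_le ho (T.not_conj_seven_mul (by rw [ho]; norm_num))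
  have hsub : cls G 23 ∪ cls G 11 ∪ cls G 15 ∪ cls G 7 ∪ cls G 14 ∪ cls G 28 ⊆ nonreal G := by
    refine Finset.union_subset (Finset.union_subset (Finset.union_subset (Finset.union_subset
      (Finset.union_subset ?_ ?_) ?_) ?_) ?_) ?_
    · exact cls_nonreal fun g hg => not_conj_inv T.twentythree hg (by norm_num) (by decide)
    · exact cls_nonreal fun g hg => not_conj_inv T.eleven hg (by norm_num) (by decide)
    · exact cls_nonreal fun g hg => T.not_conj_fifteen hg
    · exact cls_nonreal fun g hg => T.not_conj_seven hg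
    · exact cls_nonreal fun g hg => T.not_conj_seven_mul (by rw [hg]; norm_num)
    · exact cls_nonreal fun g hg => T.not_conj_seven_mul (by rw [hg]; norm_num)
  have hcard := Finset.card_le_card hsub
  have hdisj : ∀ {m n : ℕ}, m ≠ n → Disjoint (cls G m) (cls G n) := fun hmn =>
    Finset.disjoint_left.2 fun C h1 h2 =>
      hmn ((Finset.mem_filter.1 h1).2.symm.trans (Finset.mem_filter.1 h2).2)
  rw [Finset.card_union_of_disjoint (by simp only [Finset.disjoint_union_left]; refine ⟨⟨⟨⟨?_, ?_⟩, ?_⟩, ?_⟩, ?_⟩ <;> exact hdisj (by norm_num)),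
    Finset.card_union_of_disjoint (by simp only [Finset.disjoint_union_left]; refine ⟨⟨⟨?_, ?_⟩, ?_⟩, ?_⟩ <;> exact hdisj (by norm_num)),
    Finset.card_union_of_disjoint (by simp only [Finset.disjoint_union_left]; refine ⟨⟨?_, ?_⟩, ?_⟩ <;> exact hdisj (by norm_num)),
    Finset.card_union_of_disjoint (by simp only [Finset.disjoint_union_left]; refine ⟨?_, ?_⟩ <;> exact hdisj (by norm_num)),
    Finset.card_union_of_disjoint (hdisj (by norm_num))] at hcard
  have hle := T.nonreal_le
  have h7 := T.seven_le_real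
  refine ⟨by omega, by omega, by omega, k7, by omega, by omega, ?_, by omega⟩
  by_contra h28
  have := cls_one_le h28
  omega

/-- An element of order 7 commutes with a single involution. -/
theorem seven_facts : cnt G 7 = 1457280 ∧ cnt G 14 = 1457280 ∧ CentNorm G 7 14 42 := by
  classical
  have : Finite (ConjClasses G) := Finite.of_surjective _ ConjClasses.mk_surjective
  have := Fintype.ofFinite (ConjClasses G)
  have : Fact (Nat.Prime 7) := ⟨by norm_num⟩
  have : Fact (Nat.Prime 2) := ⟨Nat.prime_two⟩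
  obtain ⟨x, hx⟩ := exists_prime_orderOf_dvd_card' (G := G) 7 (by rw [T.card]; norm_num)
  rcases T.seven with h | h
  · have h1 := mul_cnt h (by rw [T.card]; norm_num) (by rw [T.card]; norm_num)
    rw [T.card] at h1
    have h2 := ClassK.M23Nse.cnt_mul_prime (q := 2) (T.card ▸ by norm_num) (T.card ▸ by norm_num)
      (by norm_num) hx
    rw [ncom_eq_totient (by norm_num) hx (by rw [(h x hx).1]), show cnt G 7 = 1457280 by omega] at h2
    exact ⟨by omega, h2.trans (by norm_num), h⟩
  exfalso
  obtain ⟨-, -, -, -, k14, -, c28, -⟩ := T.nonreal_count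
  have h1 := mul_cnt h (by rw [T.card]; norm_num) (by rw [T.card]; norm_num)
  rw [T.card] at h1
  have h2 := ClassK.M23Nse.cnt_mul_prime (q := 2) (T.card ▸ by norm_num) (T.card ▸ by norm_num)
    (by norm_num) hx
  have hle : cnt G 14 * 14 ≤ 2 * 10200960 := by
    rw [cnt_eq_sum, Finset.sum_mul, ← k14, ← smul_eq_mul]
    refine Finset.sum_le_card_nsmul _ _ _ fun C hC => ?_
    have hs := size_mul (Quotient.out C)
    have ho : orderOf (Quotient.out C) = 14 := (Finset.mem_filter.1 hC).2
    have hc : 14 ≤ Nat.card (centralizer ({Quotient.out C} : Set G)) := by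
      rw [← ho]
      exact Nat.le_of_dvd Nat.card_pos
        (Subgroup.orderOf_dvd_natCard _ (mem_centralizer_singleton_iff.2 rfl))
    rw [← T.card, ← hs]
    refine le_of_eq_of_le ?_ (Nat.mul_le_mul_left _ hc)
    exact congrArg (fun D : ConjClasses G => Nat.card D.carrier * 14) (Quotient.out_eq C).symm
  obtain ⟨H, hH⟩ := Sylow.exists_subgroup_card_pow_prime (G := centralizer ({x} : Set G)) 2
    (n := 4) (by rw [(h x hx).1]; norm_num)
  have hord : ∀ a : H, a ≠ 1 → orderOf (a.1.1 : G) = 2 := by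
    intro a ha
    have hda : orderOf (a.1.1 : G) ∣ 2 ^ 4 := by
      rw [Subgroup.orderOf_coe, Subgroup.orderOf_coe, ← hH]
      exact orderOf_dvd_natCard a
    obtain ⟨j, -, hj⟩ := (Nat.dvd_prime_pow Nat.prime_two).1 hda
    rcases j with _ | _ | j
    · rw [pow_zero, orderOf_eq_one_iff] at hj
      exact absurd (Subtype.ext (Subtype.ext hj)) ha
    · rw [hj, pow_one]
    · exfalso
      have hy : orderOf ((a.1.1 : G) ^ 2 ^ j) = 4 := by
        rw [orderOf_pow' _ (pow_ne_zero _ two_ne_zero), hj, Nat.gcd_eq_right (pow_dvd_pow 2 (by omega)),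
          Nat.pow_div (by omega) two_pos, show j + 1 + 1 - j = 2 by omega]
        norm_num
      have ho : orderOf (x * (a.1.1 : G) ^ 2 ^ j) = 28 := by
        rw [Commute.orderOf_mul_eq_mul_orderOf_of_coprime
          ((show Commute x (a.1.1 : G) from (mem_centralizer_singleton_iff.1 a.1.2).symm).pow_right _)
          (by rw [hx, hy]; norm_num), hx, hy]
      exact Nat.card_ne_zero.2 ⟨⟨⟨_, ho⟩⟩, inferInstance⟩ c28
  have := Fintype.ofFinite H
  have h15 : Nat.card {a : H // a ≠ 1} = 15 := by
    rw [Nat.card_eq_fintype_card, Fintype.card_subtype_compl, Fintype.card_subtype_eq,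
      ← Nat.card_eq_fintype_card, hH]
    norm_num
  have hn : 15 ≤ ClassK.M23Nse.ncom x 2 := by
    rw [← h15]
    exact Nat.card_le_card_of_injective
      (fun a => ⟨a.1.1.1, hord a.1 a.2, (mem_centralizer_singleton_iff.1 a.1.1.2).symm⟩)
      fun a b e => Subtype.ext (Subtype.ext (Subtype.ext
        (congrArg (fun z : {y : G // orderOf y = 2 ∧ Commute x y} => (z : G)) e)))
  have h7 : cnt G 7 = 182160 := by omega
  rw [h7, show 7 * 2 = 14 from rfl] at h2
  have := Nat.mul_le_mul_left 182160 hn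
  omega

/-! ### Involutions and their square roots -/

theorem fs_facts : cnt G 2 = 3795 ∧ cnt G 4 = 318780 ∧ ∀ x : G, orderOf x = 2 → IsConj T.t x := by
  classical
  have : Finite (ConjClasses G) := Finite.of_surjective _ ConjClasses.mk_surjective
  have := Fintype.ofFinite (ConjClasses G)
  have := Fintype.ofFinite G
  have : Finite (IrrCharacter G) := Finite.of_surjective _ T.bij.surjective
  have := Fintype.ofFinite (IrrCharacter G)
  obtain ⟨r, hr, hre⟩ := T.exists_real
  obtain ⟨hcard, hdeg, htv⟩ := real_sums r hr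
  set R : Finset (Fin 17) := insert r single.toFinset with hR
  have hiff : ∀ i, (∀ g, ((T.χ i : G → ℂ) g).im = 0) → i ∈ R := by
    intro i hi
    by_contra hni
    have hle : Nat.card (insert i R : Finset (Fin 17)) ≤
        Nat.card {χ : IrrCharacter G // ∀ g : G, ((χ : G → ℂ) g).im = 0} :=
      Nat.card_le_card_of_injective (fun j => ⟨T.χ j.1, by
        rcases Finset.mem_insert.1 j.2 with e | e
        · rw [e]; exact hi
        · exact hre _ e⟩) fun a b e => Subtype.ext (T.bij.injective (congrArg Subtype.val e))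
    rw [Nat.card_eq_fintype_card (α := (insert i R : Finset (Fin 17))), Fintype.card_coe,
      Finset.card_insert_of_notMem hni, hcard, T.nonreal_count.2.2.2.2.2.2.2] at hle
    omega
  obtain ⟨e, he, hsum⟩ := BlockA.involution_count_int (G := G)
  rw [T.sum_irr fun φ : IrrCharacter G => e φ * (charDegree (φ : G → ℂ) : ℤ)] at hsum
  have h0 : ∀ i, i ∉ R → e (T.χ i) = 0 := fun i hi => (he (T.χ i)).2.2.2 fun h => hi (hiff i h)
  have hle1 : ∀ i, e (T.χ i) ≤ 1 := fun i => by
    rcases (he (T.χ i)).2.1 with h | h | h <;> omega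
  rw [← Finset.sum_subset (Finset.subset_univ R) fun i _ hi => by rw [h0 i hi, zero_mul]] at hsum
  simp only [T.deg] at hsum
  have hstep : ∀ i ∈ R, e (T.χ i) * (degs i : ℤ) ≤ (degs i : ℤ) := fun i _ => by
    nlinarith [hle1 i, Int.natCast_nonneg (degs i)]
  have hge : 3795 ≤ cnt G 2 := by
    have hs := size_mul T.t
    rw [T.card, T.ct] at hs
    rw [show 3795 = Nat.card (ConjClasses.mk T.t).carrier by omega, cnt]
    exact Nat.card_mono (Set.toFinite _) (carrier_subset T.ht)
  have hsle := Finset.sum_le_sum hstep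
  rw [hdeg] at hsle
  change (cnt G 2 : ℤ) + 1 = _ at hsum
  have h2 : cnt G 2 = 3795 := by omega
  have hone : ∀ i ∈ R, e (T.χ i) = 1 := by
    intro i hi
    have hpos : (0 : ℤ) < degs i := by
      have : ∀ j, 0 < degs j := by decide +kernel
      exact_mod_cast this i
    have heq : ∑ j ∈ R, e (T.χ j) * (degs j : ℤ) = ∑ j ∈ R, (degs j : ℤ) := by rw [hdeg]; omega
    have := (Finset.sum_eq_sum_iff_of_le hstep).1 heq i hi
    exact mul_right_cancel₀ hpos.ne' (this.trans (one_mul _).symm)
  have hconj : ∀ x : G, orderOf x = 2 → IsConj T.t x := by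
    intro x hx
    have heq : (ConjClasses.mk T.t).carrier = {s | orderOf s = 2} :=
      Set.eq_of_subset_of_ncard_le (carrier_subset T.ht) (by
        have hs := size_mul T.t
        rw [T.card, T.ct] at hs
        rw [← Nat.card_coe_set_eq, ← Nat.card_coe_set_eq,
          show Nat.card (ConjClasses.mk T.t).carrier = 3795 by omega]
        exact le_of_eq h2) (Set.toFinite _)
    have hm : x ∈ (ConjClasses.mk T.t).carrier := by rw [heq]; exact hx
    exact (ConjClasses.mk_eq_mk_iff_isConj.1 (ConjClasses.mem_carrier_iff_mk_eq.1 hm)).symm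
  refine ⟨h2, ?_, hconj⟩
  have h84 : ∀ x : G, orderOf x = 2 → Nat.card {s : G // s * s = x} = 84 := by
    intro x hx
    have h := BlockB.sqrtCount_eq_sum x
    rw [T.sum_irr fun φ : IrrCharacter G => BlockB.fsInd φ * (φ : G → ℂ) x,
      ← Finset.sum_subset (Finset.subset_univ R) fun i _ hi => by
        rw [(he (T.χ i)).1, h0 i hi, Int.cast_zero, zero_mul],
      Finset.sum_congr rfl (g := fun i => ((tv i : ℤ) : ℂ)) fun i hi => by
        rw [(he (T.χ i)).1, hone i hi, Int.cast_one, one_mul, ← T.tval i]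
        exact (Char.isClassFunction_isConj (Char.irr_isClassFunction (T.χ i).2) (hconj x hx)).symm,
      ← Int.cast_sum, htv] at h
    rw [Nat.card_eq_fintype_card, Fintype.card_subtype]
    simp only [BlockB.sqrtCount] at h
    exact_mod_cast h
  have h := card_sq_order 2 84 h84
  rw [h2] at h
  rw [cnt, show (318780 : ℕ) = 3795 * 84 by norm_num, ← h]
  refine Nat.card_congr (Equiv.subtypeEquivRight fun s => ?_)
  obtain ⟨e', hc⟩ := order_mul_self s
  rw [e']
  rcases hc with ⟨g, h2⟩ | ⟨g, h2⟩ <;> rw [g] <;> omega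

/-! ### The seventeen classes -/

/-- The numbers of elements of each order. -/
theorem hyp : ClassK.M23Nse.Hyp G := by
  classical
  have : Finite (ConjClasses G) := Finite.of_surjective _ ConjClasses.mk_surjective
  have := Fintype.ofFinite (ConjClasses G)
  have : Fact (Nat.Prime 2) := ⟨Nat.prime_two⟩
  have : Fact (Nat.Prime 3) := ⟨Nat.prime_three⟩
  have : Fact (Nat.Prime 5) := ⟨by norm_num⟩
  obtain ⟨c5, c11, c23, c15⟩ := T.prime_counts
  obtain ⟨c7, c14, h7⟩ := T.seven_facts
  obtain ⟨c2, c4, hconj⟩ := T.fs_facts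
  obtain ⟨k23, k11, k15, k7, k14, -, -, -⟩ := T.nonreal_count
  have c1 : cnt G 1 = 1 := cnt_one
  obtain ⟨⟨y, hy'⟩, hy⟩ := exists_prime_orderOf_dvd_card' (G := centralizer ({T.t} : Set G)) 3
    (by rw [T.ct]; norm_num)
  rw [Subgroup.orderOf_mk] at hy
  have hty : Commute T.t y := (mem_centralizer_singleton_iff.1 hy').symm
  have hg6 : orderOf (T.t * y) = 6 := by
    rw [hty.orderOf_mul_eq_mul_orderOf_of_coprime (by rw [T.ht, hy]; norm_num), T.ht, hy]
  have ne3 : cnt G 3 ≠ 0 := Nat.card_ne_zero.2 ⟨⟨⟨y, hy⟩⟩, inferInstance⟩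
  have ne6 : cnt G 6 ≠ 0 := Nat.card_ne_zero.2 ⟨⟨⟨_, hg6⟩⟩, inferInstance⟩
  have s128 := dvd_sum_cnt (G := G) (n := 128) (by rw [T.card]; norm_num)
  rw [show (128 : ℕ).divisors = {1, 2, 4, 8, 16, 32, 64, 128} by decide +kernel] at s128
  simp only [Finset.sum_insert, Finset.sum_singleton, Finset.mem_insert, Finset.mem_singleton,
    Nat.reduceEqDiff, or_self, not_false_eq_true, c1, c2, c4] at s128
  have ne8 : cnt G 8 ≠ 0 := fun e => by
    rw [e, cnt_zero_of_dvd (show 8 ∣ 16 by norm_num) e, cnt_zero_of_dvd (show 8 ∣ 32 by norm_num) e,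
      cnt_zero_of_dvd (show 8 ∣ 64 by norm_num) e, cnt_zero_of_dvd (show 8 ∣ 128 by norm_num) e] at s128
    omega
  set S : Finset ℕ := {1, 2, 3, 4, 5, 6, 7, 8, 11, 14, 15, 23} with hS
  set f : ConjClasses G → ℕ := fun C => orderOf (Quotient.out C) with hf
  set O := Finset.univ.filter fun C : ConjClasses G => f C ∉ S with hO
  have hcard : (∑ n ∈ S, (cls G n).card) + O.card = 17 := by
    have h1 : (Finset.univ.filter fun C : ConjClasses G => f C ∈ S).card =
        ∑ n ∈ S, (cls G n).card := by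
      rw [Finset.card_eq_sum_card_fiberwise (f := f) (t := S) fun C hC => by simpa using hC]
      refine Finset.sum_congr rfl fun n hn => ?_
      rw [Finset.filter_filter, OrderM22.Table.cls]
      congr 1
      ext C
      simp only [Finset.mem_filter, Finset.mem_univ, true_and]
      exact ⟨fun h => h.2, fun h => ⟨show orderOf (Quotient.out C) ∈ S by rw [h]; exact hn, h⟩⟩
    rw [← h1, hO, Finset.card_filter_add_card_filter_not, Finset.card_univ, T.card_classes]
  simp only [hS, Finset.sum_insert, Finset.mem_insert, Finset.mem_singleton, Nat.reduceEqDiff,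
    or_self, not_false_eq_true, Finset.sum_singleton] at hcard
  have p1 := cls_one_le (G := G) (n := 1) (by omega)
  have p2 := cls_one_le (G := G) (n := 2) (by omega)
  have p3 := cls_one_le ne3
  have p4 := cls_one_le (G := G) (n := 4) (by omega)
  have p5 := T.five_class
  have p6 := cls_one_le ne6
  have p8 := cls_one_le ne8
  have hO0 : O.card = 0 := by omega
  have k3 : (cls G 3).card = 1 := by omega
  have k6 : (cls G 6).card = 1 := by omega
  have k8 : (cls G 8).card = 1 := by omega
  have hnone : ∀ n, n ∉ S → cnt G n = 0 := by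
    intro n hn
    by_contra h0
    obtain ⟨C, hC⟩ := Finset.card_pos.1 (Nat.lt_of_lt_of_le Nat.zero_lt_one (cls_one_le h0))
    have hfC : f C = n := (Finset.mem_filter.1 hC).2
    have : C ∈ O := Finset.mem_filter.2 ⟨Finset.mem_univ _, by rw [hfC]; exact hn⟩
    rw [Finset.card_eq_zero.1 hO0] at this
    exact Finset.notMem_empty C this
  have single_cls : ∀ {n : ℕ}, (cls G n).card = 1 → ∀ g : G, orderOf g = n →
      (∀ s, orderOf s = n → IsConj g s) ∧
      cnt G n * Nat.card (centralizer ({g} : Set G)) = 10200960 := by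
    intro n hk g hg
    have hall : ∀ s, orderOf s = n → IsConj g s := fun s hs => ConjClasses.mk_eq_mk_iff_isConj.1
      ((Finset.card_le_one.1 hk.le) _ (Finset.mem_filter.2 ⟨Finset.mem_univ _, (order_out rfl).trans hg⟩)
        _ (Finset.mem_filter.2 ⟨Finset.mem_univ _, (order_out rfl).trans hs⟩))
    refine ⟨hall, ?_⟩
    rw [OrderM22.Table.cnt_of_conj hg hall, size_mul, T.card]
  -- the three remaining orders
  obtain ⟨hall3, e3⟩ := single_cls k3 y hy
  obtain ⟨-, e6⟩ := single_cls k6 _ hg6
  set a := Nat.card (centralizer ({y} : Set G)) with ha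
  set b := Nat.card (centralizer ({T.t * y} : Set G)) with hb
  have hc9 : 9 ∣ a := by
    obtain ⟨P, hP⟩ := (IsPGroup.of_card (G := zpowers y) (p := 3) (n := 1)
      (by rw [Nat.card_zpowers, hy, pow_one])).exists_le_sylow
    have hPc : Nat.card (P : Subgroup G) = 9 := by
      rw [Sylow.card_eq_multiplicity, T.card,
        show (10200960 : ℕ).factorization 3 = 2 by
          rw [Nat.factorization_def _ Nat.prime_three,
            show (10200960 : ℕ) = 3 ^ 2 * 1133440 by norm_num,
            padicValNat.mul (by norm_num) (by norm_num), padicValNat.prime_pow,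
            padicValNat.eq_zero_of_not_dvd (by norm_num)]]
      norm_num
    have hle : (P : Subgroup G) ≤ centralizer ({y} : Set G) := fun s hs =>
      mem_centralizer_singleton_iff.2 (congrArg Subtype.val
        (IsPGroup.commutative_of_card_eq_prime_sq (p := 3) (by rw [hPc]; norm_num)
          (⟨s, hs⟩ : (P : Subgroup G)) ⟨y, hP (mem_zpowers y)⟩))
    exact hPc ▸ card_dvd_of_le hle
  have hc5 : 5 ∣ a := by
    obtain ⟨⟨g, hg⟩⟩ := (Nat.card_ne_zero.1 (show cnt G 15 ≠ 0 by omega)).1
    have hy5 : orderOf (g ^ 5) = 3 := by rw [orderOf_pow' _ (by norm_num), hg]; norm_num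
    have hx5 : orderOf (g ^ 3) = 5 := by rw [orderOf_pow' _ (by norm_num), hg]; norm_num
    have e := hall3 _ hy5
    obtain ⟨c, hc⟩ := isConj_iff.1 e
    have hm : c⁻¹ * g ^ 3 * c ∈ centralizer ({y} : Set G) := by
      refine mem_centralizer_singleton_iff.2 ?_
      have h1 := (Commute.pow_pow_self g 3 5).map (MulAut.conj c⁻¹).toMonoidHom
      simp only [MulEquiv.coe_toMonoidHom, MulAut.conj_apply, inv_inv] at h1
      rwa [show c⁻¹ * g ^ 5 * c = y by rw [← hc]; group] at h1
    have hd := Subgroup.orderOf_dvd_natCard _ hm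
    rwa [show c⁻¹ * g ^ 3 * c = c⁻¹ * g ^ 3 * c⁻¹⁻¹ by group, CfsgLib.Invol.orderOf_conj_eq, hx5] at hd
  have h2a : 2 ∣ a := T.ht ▸ Subgroup.orderOf_dvd_natCard _
    (mem_centralizer_singleton_iff.2 hty.eq)
  have hno : ∀ p : ℕ, p.Prime → p = 7 ∨ p = 11 ∨ p = 23 → a.Coprime p := by
    intro p hp hp'
    refine ((Nat.Prime.coprime_iff_not_dvd hp).2 fun hdp => ?_).symm
    have : Fact p.Prime := ⟨hp⟩
    obtain ⟨⟨z, hz⟩, hzo⟩ := exists_prime_orderOf_dvd_card' (G := centralizer ({y} : Set G)) p hdp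
    rw [Subgroup.orderOf_mk] at hzo
    have ho : orderOf (y * z) = 3 * p := by
      rw [Commute.orderOf_mul_eq_mul_orderOf_of_coprime
        (show Commute y z from (mem_centralizer_singleton_iff.1 hz).symm)
        (by rw [hy, hzo]; rcases hp' with rfl | rfl | rfl <;> norm_num), hy, hzo]
    refine Nat.card_ne_zero.2 ⟨⟨⟨_, ho⟩⟩, inferInstance⟩ (hnone _ ?_)
    rcases hp' with rfl | rfl | rfl <;> decide
  have ha5760 : a ∣ 5760 := by
    have hd := (centralizer ({y} : Set G)).card_subgroup_dvd_card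
    rw [T.card] at hd
    exact (((hno 7 (by norm_num) (by simp)).mul_right (hno 11 (by norm_num) (by simp))).mul_right
      (hno 23 (by norm_num) (by simp))).dvd_of_dvd_mul_right
      (show _ ∣ 5760 * (7 * 11 * 23) by norm_num; exact hd)
  have ha90 : 90 ∣ a := Nat.Coprime.mul_dvd_of_dvd_of_dvd (show Nat.Coprime 18 5 by norm_num)
    (Nat.Coprime.mul_dvd_of_dvd_of_dvd (show Nat.Coprime 2 9 by norm_num) h2a hc9) hc5
  have hb6 : 6 ∣ b := hg6 ▸ Subgroup.orderOf_dvd_natCard _ (mem_centralizer_singleton_iff.2 rfl)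
  have p3' : (T.t * y) ^ 3 = T.t := by
    rw [hty.mul_pow, show y ^ 3 = 1 from hy ▸ pow_orderOf_eq_one y, mul_one, pow_succ,
      show T.t ^ 2 = 1 from T.ht ▸ pow_orderOf_eq_one T.t, one_mul]
  have p4' : (T.t * y) ^ 4 = y := by
    rw [hty.mul_pow, show (4 : ℕ) = 2 * 2 from rfl, pow_mul,
      show T.t ^ 2 = 1 from T.ht ▸ pow_orderOf_eq_one T.t, one_pow, one_mul,
      show 2 * 2 = 3 + 1 from rfl, pow_succ, show y ^ 3 = 1 from hy ▸ pow_orderOf_eq_one y, one_mul]
  have hbt : b ∣ 2688 := T.ct ▸ card_dvd_of_le fun z hz => mem_centralizer_singleton_iff.2 (by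
    have h := (show Commute z (T.t * y) from mem_centralizer_singleton_iff.1 hz).pow_right 3
    rw [p3'] at h
    exact h.eq)
  have hba : b ∣ a := card_dvd_of_le fun z hz => mem_centralizer_singleton_iff.2 (by
    have h := (show Commute z (T.t * y) from mem_centralizer_singleton_iff.1 hz).pow_right 4
    rw [p4'] at h
    exact h.eq)
  have hsum : ∑ n ∈ S, cnt G n = 10200960 := by
    have h1 := ClassK.M23Nse.sum_cnt (G := G)
    rw [T.card] at h1
    rw [← h1]
    refine Finset.sum_subset (fun n hn => Nat.mem_divisors.2 ⟨?_, by norm_num⟩) fun n _ hn => hnone n hn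
    simp only [hS, Finset.mem_insert, Finset.mem_singleton] at hn
    rcases hn with rfl | rfl | rfl | rfl | rfl | rfl | rfl | rfl | rfl | rfl | rfl | rfl <;> norm_num
  simp only [hS, Finset.sum_insert, Finset.mem_insert, Finset.mem_singleton, Nat.reduceEqDiff,
    or_self, not_false_eq_true, Finset.sum_singleton, c1, c2, c4, c5, c7, c11, c14, c15, c23] at hsum
  have z16 : cnt G 16 = 0 := hnone 16 (by decide)
  rw [z16, hnone 32 (by decide), hnone 64 (by decide), hnone 128 (by decide)] at s128
  obtain ⟨g8, hg8⟩ := (Nat.card_ne_zero.1 ne8).1.some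
  obtain ⟨-, e8⟩ := single_cls k8 g8 hg8
  have ea : cnt G 3 = 10200960 / a := by
    rw [← e3, Nat.mul_div_cancel _ Nat.card_pos]
  have eb : cnt G 6 = 10200960 / b := by
    rw [← e6, Nat.mul_div_cancel _ Nat.card_pos]
  have hex : cnt G 8 = 2181872 - 10200960 / a - 10200960 / b := by omega
  have hchk := List.all_eq_true.1 (List.all_eq_true.1 last_three a
    (cand_three a (Nat.mem_divisors.2 ⟨ha5760, by norm_num⟩) ha90)) b
    ((cand_six b (Nat.mem_divisors.2 ⟨hbt, by norm_num⟩) hb6).resolve_right fun h => h (hba.trans ha5760))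
  simp only [← hex] at hchk
  rw [decide_eq_true (Nat.mod_eq_zero_of_dvd hba), decide_eq_true (Nat.mod_eq_zero_of_dvd hbt),
    decide_eq_true (show 0 < cnt G 8 from Nat.pos_of_ne_zero ne8),
    decide_eq_true (show 10200960 % cnt G 8 = 0 by rw [← e8, Nat.mul_mod_right]),
    decide_eq_true (show (322576 + cnt G 8) % 128 = 0 by omega)] at hchk
  simp only [Bool.and_self, Bool.not_true, Bool.false_or, Bool.and_eq_true, decide_eq_true_eq] at hchk
  rw [hchk.1] at ea
  rw [hchk.2] at eb
  have d3 : cnt G 3 = 56672 := ea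
  have d6 : cnt G 6 = 850080 := eb
  have d8 : cnt G 8 = 1275120 := by omega
  refine ⟨T.card, fun n hn => ?_, fun c hc => ?_⟩
  · have hnS : n ∈ S := by
      by_contra h
      exact hn (hnone n h)
    simp only [hS, Finset.mem_insert, Finset.mem_singleton] at hnS
    rcases hnS with rfl | rfl | rfl | rfl | rfl | rfl | rfl | rfl | rfl | rfl | rfl | rfl
    all_goals simp only [c1, c2, d3, c4, c5, d6, c7, d8, c11, c14, c15, c23]
    all_goals decide +kernel
  · simp only [ClassK.M23Nse.vals, Finset.mem_insert, Finset.mem_singleton] at hc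
    rcases hc with rfl | rfl | rfl | rfl | rfl | rfl | rfl | rfl | rfl | rfl | rfl
    exacts [⟨1, c1⟩, ⟨2, c2⟩, ⟨3, d3⟩, ⟨4, c4⟩, ⟨5, c5⟩, ⟨6, d6⟩, ⟨7, c7⟩, ⟨8, d8⟩, ⟨11, c11⟩,
      ⟨15, c15⟩, ⟨23, c23⟩]

end Table

end CfsgLib.Recog.OrderM23
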