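import Cfsg.Agent.Lib.Recog.OrderM23.Endgame
import Cfsg.Agent.Lib.ClassK.M23Nse.Build

/-!
# The known part of the table determines the group
-/

set_option autoImplicit false

namespace CfsgLib.Recog.OrderM23

open Cfsg CfsgLib

universe u

/-- A group with this part of the table is the Mathieu group. -/
theorem Table.iso {G : Type u} [Group G] [Finite G] (T : Table G) : Cfsg.Spor.IsoM23 G :=
  ClassK.M23Nse.iso_of_hyp T.hyp

end CfsgLib.Recog.OrderM23
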