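import Cfsg.Agent.Lib.Recog.OrderM23.Stages

/-!
# Simple groups of order 10200960: the degree rows at eleven and five
-/

set_option autoImplicit false

namespace CfsgLib.Recog.OrderM23

/-- The rows at eleven compatible with a row at twenty-three. -/
def listEleven : List Blk :=
  [⟨11, 5, 1, [(45, true), (45, true), (12, true), (12, true)], 115, 1⟩,
   ⟨11, 5, 1, [(45, true), (12, true), (12, true), (230, false)], 160, -1⟩,
   ⟨11, 5, 1, [(45, true), (45, true), (12, true), (23, true)], 126, 1⟩,
   ⟨11, 5, 1, [(45, true), (23, true), (23, true), (23, true)], 115, 1⟩,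
   ⟨11, 5, 1, [(23, true), (23, true), (23, true), (230, false)], 160, -1⟩,
   ⟨11, 5, 1, [(45, true), (23, true), (23, true), (230, false)], 138, -1⟩,
   ⟨11, 5, 1, [(45, true), (252, false), (23, true), (23, true)], 160, -1⟩,
   ⟨11, 5, 1, [(45, true), (23, true), (23, true), (276, true)], 368, 1⟩,
   ⟨11, 5, 1, [(45, true), (23, true), (23, true), (736, false)], 644, -1⟩,
   ⟨11, 5, 1, [(45, true), (1288, true), (23, true), (23, true)], 1380, 1⟩,
   ⟨11, 5, 1, [(483, false), (23, true), (23, true), (276, true)], 160, -1⟩,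
   ⟨11, 5, 1, [(45, true), (45, true), (252, false), (23, true)], 138, -1⟩,
   ⟨11, 5, 1, [(45, true), (23, true), (230, false), (276, true)], 115, 1⟩,
   ⟨11, 5, 1, [(45, true), (483, false), (23, true), (230, false)], 644, -1⟩,
   ⟨11, 5, 1, [(45, true), (483, false), (23, true), (276, true)], 138, -1⟩,
   ⟨11, 5, 1, [(45, true), (1035, true), (23, true), (276, true)], 1380, 1⟩,
   ⟨11, 5, 1, [(45, true), (1035, true), (23, true), (736, false)], 368, 1⟩,
   ⟨11, 5, 1, [(23, true), (230, false), (230, false), (276, true)], 160, -1⟩,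
   ⟨11, 5, 1, [(23, true), (736, false), (276, true), (276, true)], 160, -1⟩,
   ⟨11, 5, 1, [(1035, true), (483, false), (23, true), (736, false)], 160, -1⟩,
   ⟨11, 5, 1, [(1288, true), (23, true), (736, false), (736, false)], 160, -1⟩,
   ⟨11, 5, 1, [(45, true), (45, true), (1035, true), (230, false)], 896, 1⟩,
   ⟨11, 5, 1, [(45, true), (45, true), (252, false), (276, true)], 115, 1⟩,
   ⟨11, 5, 1, [(45, true), (45, true), (252, false), (483, false)], 644, -1⟩,
   ⟨11, 5, 1, [(45, true), (45, true), (483, false), (1288, true)], 896, 1⟩,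
   ⟨11, 5, 1, [(45, true), (230, false), (230, false), (230, false)], 644, -1⟩,
   ⟨11, 5, 1, [(45, true), (230, false), (230, false), (276, true)], 138, -1⟩,
   ⟨11, 5, 1, [(45, true), (252, false), (230, false), (276, true)], 160, -1⟩,
   ⟨11, 5, 1, [(45, true), (230, false), (276, true), (276, true)], 368, 1⟩,
   ⟨11, 5, 1, [(45, true), (736, false), (230, false), (276, true)], 644, -1⟩,
   ⟨11, 5, 1, [(45, true), (1288, true), (230, false), (276, true)], 1380, 1⟩,
   ⟨11, 5, 1, [(45, true), (1035, true), (483, false), (230, false)], 368, 1⟩,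
   ⟨11, 5, 1, [(45, true), (736, false), (736, false), (230, false)], 1656, -1⟩,
   ⟨11, 5, 1, [(45, true), (1035, true), (736, false), (230, false)], 115, 1⟩,
   ⟨11, 5, 1, [(45, true), (1288, true), (736, false), (230, false)], 368, 1⟩,
   ⟨11, 5, 1, [(45, true), (483, false), (276, true), (276, true)], 115, 1⟩,
   ⟨11, 5, 1, [(45, true), (736, false), (276, true), (276, true)], 138, -1⟩,
   ⟨11, 5, 1, [(45, true), (483, false), (483, false), (276, true)], 644, -1⟩,
   ⟨11, 5, 1, [(45, true), (483, false), (483, false), (736, false)], 1656, -1⟩,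
   ⟨11, 5, 1, [(45, true), (1035, true), (483, false), (483, false)], 115, 1⟩,
   ⟨11, 5, 1, [(45, true), (483, false), (483, false), (1288, true)], 368, 1⟩,
   ⟨11, 5, 1, [(45, true), (1035, true), (483, false), (736, false)], 138, -1⟩,
   ⟨11, 5, 1, [(45, true), (483, false), (1288, true), (736, false)], 115, 1⟩,
   ⟨11, 5, 1, [(45, true), (1288, true), (736, false), (736, false)], 138, -1⟩,
   ⟨11, 5, 1, [(45, true), (1035, true), (1035, true), (736, false)], 1380, 1⟩,
   ⟨11, 5, 1, [(1035, true), (736, false), (230, false), (230, false)], 160, -1⟩,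
   ⟨11, 5, 1, [(483, false), (230, false), (276, true), (276, true)], 160, -1⟩,
   ⟨11, 5, 1, [(1035, true), (483, false), (483, false), (230, false)], 160, -1⟩,
   ⟨11, 5, 1, [(483, false), (1288, true), (736, false), (230, false)], 160, -1⟩,
   ⟨11, 5, 1, [(1035, true), (736, false), (736, false), (276, true)], 160, -1⟩,
   ⟨11, 5, 1, [(483, false), (483, false), (483, false), (1288, true)], 160, -1⟩]

/-- The degrees in these rows. -/
def degsEleven : List ℕ :=
  [1, 12, 23, 45, 115, 126, 138, 160, 230, 252, 276, 368, 483, 644, 736, 896, 1035, 1288, 1380, 1656]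

/-- The allowed degrees: divisible by eleven, or in a row at eleven. -/
def allowed (d : ℕ) : Bool := decide (d % 11 = 0) || degsEleven.contains d

/-- The rows at five. -/
def listFive : List Blk :=
  [⟨5, 2, 1, [(11, true)], 12, 1⟩,
   ⟨5, 2, 6, [(11, true)], 12, 1⟩,
   ⟨5, 2, 16, [(11, true)], 12, 1⟩,
   ⟨5, 2, 21, [(11, true)], 12, 1⟩,
   ⟨5, 2, 56, [(11, true)], 12, 1⟩,
   ⟨5, 2, 96, [(11, true)], 12, 1⟩,
   ⟨5, 2, 336, [(11, true)], 12, 1⟩,
   ⟨5, 4, 3, [(736, true), (11, true), (11, true), (759, false)], 0, 1⟩,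
   ⟨5, 4, 3, [(736, true), (704, false), (11, true), (44, false)], 0, 1⟩,
   ⟨5, 4, 3, [(736, true), (924, false), (11, true), (176, true)], 0, 1⟩,
   ⟨5, 4, 3, [(896, true), (644, false), (11, true), (264, false)], 0, 1⟩,
   ⟨5, 4, 3, [(736, true), (66, true), (759, false), (44, false)], 0, 1⟩,
   ⟨5, 4, 3, [(736, true), (231, true), (924, false), (44, false)], 0, 1⟩,
   ⟨5, 4, 3, [(736, true), (2464, false), (1771, true), (44, false)], 0, 1⟩,
   ⟨5, 4, 3, [(736, true), (154, false), (176, true), (759, false)], 0, 1⟩,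
   ⟨5, 4, 3, [(736, true), (231, true), (704, false), (264, false)], 0, 1⟩,
   ⟨5, 4, 3, [(644, false), (644, false), (1056, true), (231, true)], 0, 1⟩,
   ⟨5, 4, 3, [(736, true), (1056, true), (231, true), (2024, false)], 0, 1⟩,
   ⟨5, 4, 3, [(896, true), (896, true), (231, true), (2024, false)], 0, 1⟩,
   ⟨5, 4, 3, [(896, true), (644, false), (759, false), (506, true)], 0, 1⟩,
   ⟨5, 4, 3, [(896, true), (644, false), (1771, true), (2024, false)], 0, 1⟩,
   ⟨5, 4, 8, [(126, true), (126, true), (11, true), (264, false)], 0, 1⟩,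
   ⟨5, 4, 8, [(126, true), (644, false), (11, true), (506, true)], 0, 1⟩,
   ⟨5, 4, 8, [(126, true), (126, true), (99, false), (154, false)], 0, 1⟩,
   ⟨5, 4, 8, [(126, true), (644, false), (616, true), (99, false)], 0, 1⟩,
   ⟨5, 4, 8, [(644, false), (644, false), (1386, true), (99, false)], 0, 1⟩,
   ⟨5, 4, 8, [(126, true), (126, true), (759, false), (506, true)], 0, 1⟩,
   ⟨5, 4, 8, [(126, true), (126, true), (1771, true), (2024, false)], 0, 1⟩,
   ⟨5, 4, 18, [(736, true), (704, false), (11, true), (44, false)], 0, 1⟩,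
   ⟨5, 4, 18, [(736, true), (2464, false), (1771, true), (44, false)], 0, 1⟩,
   ⟨5, 4, 28, [(736, true), (11, true), (11, true), (759, false)], 0, 1⟩,
   ⟨5, 4, 28, [(736, true), (66, true), (759, false), (44, false)], 0, 1⟩,
   ⟨5, 4, 63, [(736, true), (704, false), (11, true), (44, false)], 0, 1⟩]

/-- The degrees next to a self-centralising subgroup of order 23. -/
def allowEleven (d : ℕ) : Bool :=
  decide (d % 23 = 0) || decide (d % 23 = 1) || decide (d % 23 = 11) || decide (d % 23 = 12) ||
    decide (d % 23 = 22)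

/-- Does the list hold the row up to the order of its members? -/
def covers (L : List Blk) (B : Blk) : Bool :=
  L.any fun B' => decide (B'.p = B.p) && decide (B'.e = B.e) && decide (B'.w = B.w) &&
    decide (B'.d = B.d) && decide (B'.σ = B.σ) && B'.l.isPerm B.l

end CfsgLib.Recog.OrderM23
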