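import Cfsg.Agent.Lib.Recog.OrderM23.Assemble
import Cfsg.Agent.Lib.Recog.OrderM23.EndgameIso
import Cfsg.Agent.Lib.Recog.OrderM23.CheckA
import Cfsg.Agent.Lib.Recog.OrderM23.CheckB
import Cfsg.Agent.Lib.Recog.OrderM23.CheckC
import Cfsg.Agent.Lib.Recog.OrderM23.CheckD
import Cfsg.Agent.Lib.Recog.OrderM23.CheckE

/-!
# Simple groups of order 10200960
-/

set_option autoImplicit false

namespace CfsgLib.Recog.OrderM23

theorem searchOK : SearchOK := by
  intro c hc A hA
  simp only [centralOrders, List.mem_cons, List.not_mem_nil, or_false] at hc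
  rcases hc with rfl | rfl | rfl | rfl | rfl | rfl | rfl | rfl | rfl | rfl | rfl | rfl
  · exact List.all_eq_true.1 check_128 A hA
  · exact List.all_eq_true.1 check_384 A hA
  · exact List.all_eq_true.1 check_640 A hA
  · exact List.all_eq_true.1 check_896 A hA
  · exact List.all_eq_true.1 check_1152 A hA
  · exact List.all_eq_true.1 check_1920 A hA
  · exact List.all_eq_true.1 check_2688 A hA
  · exact List.all_eq_true.1 check_4480 A hA
  · exact List.all_eq_true.1 check_5760 A hA
  · exact List.all_eq_true.1 check_8064 A hA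
  · exact List.all_eq_true.1 check_13440 A hA
  · exact List.all_eq_true.1 check_40320 A hA

/-- A simple group of order 10200960 is the Mathieu group of degree 23. -/
theorem iso_of_isM23.{u} {G : Type u} [Group G] [Finite G] (hG : Cfsg.IsM23 G) :
    Cfsg.Spor.IsoM23 G := by
  obtain ⟨hs, hc⟩ := hG
  exact (nonempty_table_of hc searchOK).elim Table.iso

end CfsgLib.Recog.OrderM23
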