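import Cfsg.Agent.Lib.Recog.OrderM23.Sieve

/-!
# Simple groups of order 10200960: assignments of values with bounds

Values are assigned member by member. The signed totals are carried as pairs of natural numbers,
and the cost left for the members still to come bounds the sum on pairs from both sides, so that
most branches close early.
-/

set_option autoImplicit false

namespace CfsgLib.Recog.OrderM23

open CfsgLib.ClassK CfsgLib.ClassK.RowInvolution

/-- A candidate value: position, cost, weight in the sum on pairs, parts of the signed value. -/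
structure Cand where
  v : ℤ
  i : ℕ
  sq : ℕ
  kv : ℕ
  ap : ℕ
  am : ℕ

/-- A member to be given a value: key, whether the next has the same key, candidates, and for the
members that follow the least cost and the extreme coefficients. -/
structure Item where
  key : ℕ × Bool
  same : Bool
  cands : List Cand
  tl : ℕ
  hi : ℕ
  lo : ℕ

/-- The coefficient of a member in the sum on pairs. -/
def coef (a : ℕ × Bool) : ℤ := sgn a * ((10200960 / a.1 : ℕ) : ℤ)

/-- The weight of a member in the sum on pairs. -/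
def wt (a : ℕ × Bool) (v : ℤ) : ℕ := 10200960 / a.1 * (v.natAbs * v.natAbs)

/-- The positive part of the signed value. -/
def apOf (a : ℕ × Bool) (v : ℤ) : ℕ := (if a.2 then v else -v).toNat

/-- The negative part of the signed value. -/
def amOf (a : ℕ × Bool) (v : ℤ) : ℕ := (if a.2 then -v else v).toNat

/-- The part on the positive side of the sum on pairs. -/
def pOf (a : ℕ × Bool) (v : ℤ) : ℕ := bif a.2 then wt a v else 0

/-- The part on the negative side of the sum on pairs. -/
def mOf (a : ℕ × Bool) (v : ℤ) : ℕ := bif a.2 then 0 else wt a v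

/-- The candidate made of a value. -/
def mkCand (cost : ℕ → ℤ → ℕ) (a : ℕ × Bool) (v : ℤ) (i : ℕ) : Cand :=
  ⟨v, i, cost a.1 v, wt a v, apOf a v, amOf a v⟩

/-- The candidates in order. -/
def candList (cost : ℕ → ℤ → ℕ) (a : ℕ × Bool) : List ℤ → ℕ → List Cand
  | [], _ => []
  | v :: vs, i => mkCand cost a v i :: candList cost a vs (i + 1)

/-- The least cost among candidates. -/
def minC : List Cand → ℕ
  | [] => 0
  | [a] => a.sq
  | a :: b => min a.sq (minC b)

/-- Least cost of a list of members. -/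
def tlOf (V : ℕ → List ℤ) (cost : ℕ → ℤ → ℕ) : List (ℕ × Bool) → ℕ
  | [] => 0
  | a :: as => tlOf V cost as + minC (candList cost a (V a.1) 0)

/-- The greatest positive coefficient. -/
def hiOf (h0 : ℕ) : List (ℕ × Bool) → ℕ
  | [] => h0
  | a :: as => bif a.2 then max (hiOf h0 as) (10200960 / a.1) else hiOf h0 as

/-- The greatest negative coefficient, in absolute value. -/
def loOf (l0 : ℕ) : List (ℕ × Bool) → ℕ
  | [] => l0
  | a :: as => bif a.2 then loOf l0 as else max (loOf l0 as) (10200960 / a.1)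

/-- Does the list begin with the key `a`? -/
def headIs (a : ℕ × Bool) : List (ℕ × Bool) → Bool
  | [] => false
  | b :: _ => b.1 == a.1 && b.2 == a.2

/-- The members with the bounds on what follows them. -/
def items (V : ℕ → List ℤ) (cost : ℕ → ℤ → ℕ) (h0 l0 : ℕ) : List (ℕ × Bool) → List Item
  | [] => []
  | a :: as => ⟨a, headIs a as, candList cost a (V a.1) 0, tlOf V cost as, hiOf h0 as, loOf l0 as⟩ ::
      items V cost h0 l0 as

/-- Evaluation of the candidates before use. -/
def mkCands {α : Type} (cost : ℕ → ℤ → ℕ) (a : ℕ × Bool) :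
    List ℤ → ℕ → (List Cand → α) → α
  | [], _, f => f []
  | v :: vs, i, f => forceZ v fun v => forceN (cost a.1 v) fun s => forceN (wt a v) fun kv =>
      forceN (apOf a v) fun ap => forceN (amOf a v) fun am => forceN (i + 1) fun i' =>
      mkCands cost a vs i' fun r => f (⟨v, i, s, kv, ap, am⟩ :: r)

theorem mkCands_eq {α : Type} (cost : ℕ → ℤ → ℕ) (a : ℕ × Bool) :
    ∀ (l : List ℤ) (i : ℕ) (f : List Cand → α), mkCands cost a l i f = f (candList cost a l i)
  | [], _, _ => rfl
  | v :: vs, i, f => by simp [mkCands, forceN_eq, forceZ_eq, mkCands_eq cost a vs, candList, mkCand]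

/-- Evaluation of the items before use. -/
def mkItems {α : Type} (V : ℕ → List ℤ) (cost : ℕ → ℤ → ℕ) (h0 l0 : ℕ) :
    List (ℕ × Bool) → (List Item → ℕ → ℕ → ℕ → α) → α
  | [], f => f [] 0 h0 l0
  | a :: as, f => mkItems V cost h0 l0 as fun L T H Lo =>
      forceN a.1 fun d => mkCands cost (d, a.2) (V d) 0 fun cs =>
      forceN (T + minC cs) fun T' => forceN (bif a.2 then max H (10200960 / d) else H) fun H' =>
      forceN (bif a.2 then Lo else max Lo (10200960 / d)) fun L' =>
      f (⟨(d, a.2), headIs (d, a.2) as, cs, T, H, Lo⟩ :: L) T' H' L'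

theorem mkItems_eq {α : Type} (V : ℕ → List ℤ) (cost : ℕ → ℤ → ℕ) (h0 l0 : ℕ) :
    ∀ (l : List (ℕ × Bool)) (f : List Item → ℕ → ℕ → ℕ → α),
      mkItems V cost h0 l0 l f =
        f (items V cost h0 l0 l) (tlOf V cost l) (hiOf h0 l) (loOf l0 l)
  | [], _ => rfl
  | a :: as, f => by
    simp [mkItems, mkItems_eq V cost h0 l0 as, forceN_eq, mkCands_eq, items, tlOf, hiOf, loOf]

/-- Can the sum on pairs still vanish? -/
def balOK (useE : Bool) (R hi lo P M : ℕ) : Bool :=
  cond useE (cond (Nat.ble M (Nat.add P (Nat.mul R hi))) (Nat.ble P (Nat.add M (Nat.mul R lo)))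
    false) true

/-- The branches of one member over its candidates. -/
noncomputable def branches (B : ℕ) (useE : Bool)
    (next : ℕ → ℕ → ℕ → ℕ → ℕ → ℕ → List (List ((ℕ × Bool) × ℤ))) (a : Item)
    (AP AM P M F lim : ℕ) : List (List ((ℕ × Bool) × ℤ)) :=
  Item.rec (motive := fun _ => List (List ((ℕ × Bool) × ℤ))) (fun key same cands tl hi lo =>
    List.rec (motive := fun _ => List (List ((ℕ × Bool) × ℤ))) []
      (fun x _ r => Cand.rec (motive := fun _ => List (List ((ℕ × Bool) × ℤ)))
        (fun v i sq kv ap am =>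
          cond (Nat.ble lim i) (cond (Nat.ble (Nat.add (Nat.add F sq) tl) B)
            (cond key.2
              (cond (balOK useE (Nat.sub B (Nat.add F sq)) hi lo (Nat.add P kv) M)
                (((next (Nat.add AP ap) (Nat.add AM am) (Nat.add P kv) M (Nat.add F sq)
                  (cond same i 0)).map ((key, v) :: ·)) ++ r) r)
              (cond (balOK useE (Nat.sub B (Nat.add F sq)) hi lo P (Nat.add M kv))
                (((next (Nat.add AP ap) (Nat.add AM am) P (Nat.add M kv) (Nat.add F sq)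
                  (cond same i 0)).map ((key, v) :: ·)) ++ r) r)) r) r) x) cands) a

/-- All assignments of values of total cost at most `B`; with `useE` the sum on pairs must be able
to vanish; symmetric on equal neighbours; `fin` judges the totals. -/
noncomputable def search (B : ℕ) (useE : Bool) (fin : ℕ → ℕ → ℕ → ℕ → ℕ → Bool) (L : List Item) :
    ℕ → ℕ → ℕ → ℕ → ℕ → ℕ → List (List ((ℕ × Bool) × ℤ)) :=
  List.rec (motive := fun _ => ℕ → ℕ → ℕ → ℕ → ℕ → ℕ → List (List ((ℕ × Bool) × ℤ)))
    (fun AP AM P M F _ => cond (fin AP AM P M F) [[]] [])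
    (fun a _ ih => branches B useE ih a) L

theorem mem_branches {B : ℕ} {useE : Bool}
    {next : ℕ → ℕ → ℕ → ℕ → ℕ → ℕ → List (List ((ℕ × Bool) × ℤ))} {key : ℕ × Bool} {same : Bool}
    {tl hi lo AP AM P M F lim : ℕ} {cands : List Cand} {x : Cand} (hx : x ∈ cands)
    (hlim : lim ≤ x.i) (hF : F + x.sq + tl ≤ B)
    (hbal : balOK useE (B - (F + x.sq)) hi lo (P + bif key.2 then x.kv else 0)
      (M + bif key.2 then 0 else x.kv) = true) {r : List ((ℕ × Bool) × ℤ)}
    (hr : r ∈ next (AP + x.ap) (AM + x.am) (P + bif key.2 then x.kv else 0)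
      (M + bif key.2 then 0 else x.kv) (F + x.sq) (bif same then x.i else 0)) :
    (key, x.v) :: r ∈ branches B useE next ⟨key, same, cands, tl, hi, lo⟩ AP AM P M F lim := by
  induction cands with
  | nil => simp at hx
  | cons y ys ih =>
    obtain ⟨d, s⟩ := key
    rcases List.mem_cons.1 hx with rfl | hy
    · simp only [branches, Nat.add_eq, Nat.mul_eq, Nat.sub_eq]
      rw [show Nat.ble lim x.i = true by simpa using hlim,
        show Nat.ble (F + x.sq + tl) B = true by simpa using hF]
      cases s <;> simp only [cond_true, cond_false, Nat.add_zero] at hbal hr ⊢ <;> rw [hbal] <;>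
        exact List.mem_append_left _ (List.mem_map.2 ⟨r, hr, rfl⟩)
    · have h := ih hy
      simp only [branches] at h ⊢
      rcases Nat.ble lim y.i with - | - <;> [exact h; skip]
      rcases Nat.ble (Nat.add (Nat.add F y.sq) tl) B with - | - <;> [exact h; skip]
      rcases s with - | - <;> simp only [cond_true, cond_false] <;>
        generalize balOK _ _ _ _ _ _ = b <;> rcases b with - | - <;>
        first | exact h | exact List.mem_append_right _ h

/-- The assignments for a list of members. -/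
noncomputable def searchAll (B : ℕ) (useE : Bool) (cost : ℕ → ℤ → ℕ) (fin : ℕ → ℕ → ℕ → ℕ → ℕ → Bool)
    (V : ℕ → List ℤ) (h0 l0 : ℕ) (l : List (ℕ × Bool)) (AP AM P M : ℕ) :
    List (List ((ℕ × Bool) × ℤ)) :=
  mkItems V cost h0 l0 l fun L T _ _ =>
    bif L.any (fun a => a.cands.isEmpty) || !Nat.ble T B then []
    else search B useE fin L AP AM P M 0 0

theorem mem_candList (cost : ℕ → ℤ → ℕ) (a : ℕ × Bool) : ∀ (l : List ℤ) (k : ℕ) {v : ℤ}, v ∈ l →
    mkCand cost a v (k + l.idxOf v) ∈ candList cost a l k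
  | [], _, _, h => absurd h (by simp)
  | b :: l, k, v, h => by
    rw [candList]
    by_cases hb : b = v
    · subst hb; simp
    · have h' : v ∈ l := (List.mem_cons.1 h).resolve_left (Ne.symm hb)
      rw [List.idxOf_cons_ne _ hb, show k + (l.idxOf v + 1) = k + 1 + l.idxOf v by omega]
      exact List.mem_cons_of_mem _ (mem_candList cost a l (k + 1) h')

theorem minC_le : ∀ {l : List Cand} {x : Cand}, x ∈ l → minC l ≤ x.sq
  | [a], x, h => by
    obtain rfl := List.mem_singleton.1 h
    exact le_rfl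
  | a :: b :: l, x, h => by
    rw [minC]
    rcases List.mem_cons.1 h with rfl | h'
    · exact min_le_left _ _
    · exact (min_le_right _ _).trans (minC_le h')
    · simp

theorem le_hiOf {h0 : ℕ} : ∀ (l : List (ℕ × Bool)),
    h0 ≤ hiOf h0 l ∧ ∀ a ∈ l, a.2 = true → 10200960 / a.1 ≤ hiOf h0 l
  | [] => ⟨le_rfl, by simp⟩
  | (d, s) :: as => by
    obtain ⟨h1, h2⟩ := le_hiOf (h0 := h0) as
    rcases s with - | -
    · refine ⟨h1, fun b hb hs => ?_⟩
      rcases List.mem_cons.1 hb with rfl | hb
      · simp at hs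
      · exact h2 b hb hs
    · refine ⟨h1.trans (le_max_left _ _), fun b hb hs => ?_⟩
      rcases List.mem_cons.1 hb with rfl | hb
      · exact le_max_right _ _
      · exact (h2 b hb hs).trans (le_max_left _ _)

theorem le_loOf {l0 : ℕ} : ∀ (l : List (ℕ × Bool)),
    l0 ≤ loOf l0 l ∧ ∀ a ∈ l, a.2 = false → 10200960 / a.1 ≤ loOf l0 l
  | [] => ⟨le_rfl, by simp⟩
  | (d, s) :: as => by
    obtain ⟨h1, h2⟩ := le_loOf (l0 := l0) as
    rcases s with - | -
    · refine ⟨h1.trans (le_max_left _ _), fun b hb hs => ?_⟩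
      rcases List.mem_cons.1 hb with rfl | hb
      · exact le_max_right _ _
      · exact (h2 b hb hs).trans (le_max_left _ _)
    · refine ⟨h1, fun b hb hs => ?_⟩
      rcases List.mem_cons.1 hb with rfl | hb
      · simp at hs
      · exact h2 b hb hs

theorem apOf_sub_amOf (a : ℕ × Bool) (v : ℤ) : (apOf a v : ℤ) - (amOf a v : ℤ) = sgn a * v := by
  rcases a with ⟨d, s⟩
  rcases s with - | - <;> simp [apOf, amOf, sgn] <;> omega

variable {ι : Type*} (f : ι → ℕ × Bool) (q : ι → ℤ) (V : ℕ → List ℤ) (cost : ℕ → ℤ → ℕ) (B : ℕ)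
  (useE : Bool) (fin : ℕ → ℕ → ℕ → ℕ → ℕ → Bool) (h0 l0 : ℕ)

theorem tlOf_le : ∀ (l : List (ℕ × Bool)) (m : Multiset ι), (∀ i ∈ m, q i ∈ V (f i).1) →
    m.map f = ↑l → tlOf V cost l ≤ (m.map fun i => cost (f i).1 (q i)).sum := by
  classical
  intro l
  induction l with
  | nil =>
    intro m _ _
    simp [tlOf]
  | cons a as ih =>
    intro m hq h
    have ha : a ∈ m.map f := by rw [h]; simp
    obtain ⟨i, hi, rfl⟩ := Multiset.mem_map.1 ha
    obtain ⟨m', rfl⟩ := Multiset.exists_cons_of_mem hi
    rw [Multiset.map_cons, ← Multiset.cons_coe, Multiset.cons_inj_right] at h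
    rw [tlOf, Multiset.map_cons, Multiset.sum_cons]
    have h1 := ih m' (fun j hj => hq j (Multiset.mem_cons_of_mem hj)) h
    have h2 := minC_le (mem_candList cost (f i) _ 0 (hq i (Multiset.mem_cons_self _ _)))
    simp only [mkCand] at h2
    omega

theorem search_sound (hcost : useE = true → ∀ d v, cost d v = v.natAbs * v.natAbs)
    (hfin : ∀ AP AM P M F, fin AP AM P M F = true → F ≤ B ∧
      (useE = true → M ≤ P + (B - F) * h0 ∧ P ≤ M + (B - F) * l0)) :
    ∀ (l : List (ℕ × Bool)) (m : Multiset ι) (AP AM P M F lim : ℕ),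
      (∀ i ∈ m, q i ∈ V (f i).1) →
      (∀ b ∈ l.head?, ∀ i ∈ m, f i = b → lim ≤ (V b.1).idxOf (q i)) →
      m.map f = ↑l →
      fin (AP + (m.map fun i => apOf (f i) (q i)).sum) (AM + (m.map fun i => amOf (f i) (q i)).sum)
        (P + (m.map fun i => pOf (f i) (q i)).sum) (M + (m.map fun i => mOf (f i) (q i)).sum)
        (F + (m.map fun i => cost (f i).1 (q i)).sum) = true →
      ∃ r ∈ search B useE fin (items V cost h0 l0 l) AP AM P M F lim,
        m.map (fun i => (f i, q i)) = ↑r := by
  classical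
  intro l
  induction l with
  | nil =>
    intro m AP AM P M F lim _ _ h hf
    obtain rfl : m = 0 := Multiset.map_eq_zero.1 h
    refine ⟨[], ?_, by simp⟩
    simp only [Multiset.map_zero, Multiset.sum_zero, add_zero] at hf
    simp [items, search, hf]
  | cons a as ih =>
    intro m AP AM P M F lim hq hlo h hf
    have ha : a ∈ m.map f := by rw [h]; simp
    obtain ⟨i₀, hi₀, rfl⟩ := Multiset.mem_map.1 ha
    obtain ⟨i, hi, hmin⟩ := Finset.exists_min_image (m.toFinset.filter fun j => f j = f i₀)
      (fun j => (V (f i₀).1).idxOf (q j))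
      ⟨i₀, Finset.mem_filter.2 ⟨Multiset.mem_toFinset.2 hi₀, rfl⟩⟩
    obtain ⟨him, hfi⟩ := Finset.mem_filter.1 hi
    rw [Multiset.mem_toFinset] at him
    obtain ⟨m', rfl⟩ := Multiset.exists_cons_of_mem him
    rw [Multiset.map_cons, ← Multiset.cons_coe, hfi, Multiset.cons_inj_right] at h
    have hq' : ∀ j ∈ m', q j ∈ V (f j).1 := fun j hj => hq j (Multiset.mem_cons_of_mem hj)
    simp only [Multiset.map_cons, Multiset.sum_cons, hfi, ← add_assoc] at hf
    obtain ⟨r, hr, hmap⟩ := ih m' _ _ _ _ _
      (bif headIs (f i₀) as then (V (f i₀).1).idxOf (q i) else 0) hq'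
      (fun b hb j hj hjb => by
        rcases as with - | ⟨c, cs⟩
        · simp at hb
        obtain rfl : c = b := by simpa using hb
        rcases hhd : headIs (f i₀) (c :: cs) with - | -
        · simp
        · obtain rfl : c = f i₀ := by
            simp only [headIs, Bool.and_eq_true, beq_iff_eq] at hhd
            exact Prod.ext hhd.1 hhd.2
          exact hmin j (Finset.mem_filter.2
            ⟨Multiset.mem_toFinset.2 (Multiset.mem_cons_of_mem hj), hjb⟩)) h hf
    refine ⟨(f i₀, q i) :: r, ?_, by rw [Multiset.map_cons, hmap, Multiset.cons_coe, hfi]⟩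
    have hmem : mkCand cost (f i₀) (q i) ((V (f i₀).1).idxOf (q i)) ∈
        candList cost (f i₀) (V (f i₀).1) 0 := by
      simpa using mem_candList cost (f i₀) _ 0 (hfi ▸ hq i (Multiset.mem_cons_self _ _))
    obtain ⟨hFB, hE⟩ := hfin _ _ _ _ _ hf
    have htl := tlOf_le f q V cost as m' hq' h
    have hlim : lim ≤ (V (f i₀).1).idxOf (q i) :=
      hlo (f i₀) (by simp) i (Multiset.mem_cons_self _ _) hfi
    refine mem_branches hmem hlim (show F + cost (f i₀).1 (q i) + tlOf V cost as ≤ B by omega) ?_ hr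
    change balOK useE (B - (F + cost (f i₀).1 (q i))) (hiOf h0 as) (loOf l0 as)
      (P + pOf (f i₀) (q i)) (M + mOf (f i₀) (q i)) = true
    rcases useE with - | -
    · rfl
    simp only [balOK, cond_true, Nat.add_eq, Nat.mul_eq]
    rw [Bool.cond_false_right, Bool.and_eq_true, Nat.ble_eq, Nat.ble_eq]
    obtain ⟨hE1, hE2⟩ := hE rfl
    have hc := hcost rfl
    obtain ⟨hh0, hh⟩ := le_hiOf (h0 := h0) as
    obtain ⟨hl0, hl⟩ := le_loOf (l0 := l0) as
    have hin : ∀ j ∈ m', f j ∈ as := fun j hj => by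
      have h' := Multiset.mem_map_of_mem f hj
      rw [h] at h'
      exact h'
    set C := (m'.map fun j => cost (f j).1 (q j)).sum with hC
    have hup : (m'.map fun j => pOf (f j) (q j)).sum ≤ hiOf h0 as * C := by
      rw [hC, ← Multiset.sum_map_mul_left]
      refine Multiset.sum_map_le_sum_map _ _ fun j hj => ?_
      rw [hc, pOf]
      rcases hs : (f j).2 with - | -
      · simp
      · exact Nat.mul_le_mul_right _ (hh _ (hin j hj) hs)
    have hdn : (m'.map fun j => mOf (f j) (q j)).sum ≤ loOf l0 as * C := by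
      rw [hC, ← Multiset.sum_map_mul_left]
      refine Multiset.sum_map_le_sum_map _ _ fun j hj => ?_
      rw [hc, mOf]
      rcases hs : (f j).2 with - | -
      · exact Nat.mul_le_mul_right _ (hl _ (hin j hj) hs)
      · simp
    set F₁ := F + cost (f i₀).1 (q i) with hF₁
    have e1 : (B - F₁) = C + (B - (F₁ + C)) := by omega
    rw [e1, add_mul, add_mul]
    constructor
    · have := Nat.mul_le_mul_left (B - (F₁ + C)) hh0
      have := Nat.mul_comm (hiOf h0 as) C
      omega
    · have := Nat.mul_le_mul_left (B - (F₁ + C)) hl0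
      have := Nat.mul_comm (loOf l0 as) C
      omega

theorem any_items_isEmpty : ∀ (l : List (ℕ × Bool)), (∀ a ∈ l, V a.1 ≠ []) →
    (items V cost h0 l0 l).any (fun a => a.cands.isEmpty) = false
  | [], _ => rfl
  | a :: as, h => by
    rw [items, List.any_cons, any_items_isEmpty as fun b hb => h b (List.mem_cons_of_mem _ hb),
      Bool.or_false, List.isEmpty_eq_false_iff]
    obtain ⟨v, hv⟩ := List.exists_mem_of_ne_nil _ (h a (List.mem_cons_self ..))
    exact List.ne_nil_of_mem (mem_candList cost a _ 0 hv)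

theorem searchAll_sound (hcost : useE = true → ∀ d v, cost d v = v.natAbs * v.natAbs)
    (hfin : ∀ AP AM P M F, fin AP AM P M F = true → F ≤ B ∧
      (useE = true → M ≤ P + (B - F) * h0 ∧ P ≤ M + (B - F) * l0))
    {l : List (ℕ × Bool)} {m : Multiset ι} {AP AM P M : ℕ} (hq : ∀ i ∈ m, q i ∈ V (f i).1)
    (hm : m.map f = ↑l)
    (hf : fin (AP + (m.map fun i => apOf (f i) (q i)).sum)
      (AM + (m.map fun i => amOf (f i) (q i)).sum)
      (P + (m.map fun i => pOf (f i) (q i)).sum) (M + (m.map fun i => mOf (f i) (q i)).sum)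
      ((m.map fun i => cost (f i).1 (q i)).sum) = true) :
    ∃ r ∈ searchAll B useE cost fin V h0 l0 l AP AM P M,
      m.map (fun i => (f i, q i)) = ↑r := by
  have hf' : fin (AP + (m.map fun i => apOf (f i) (q i)).sum)
      (AM + (m.map fun i => amOf (f i) (q i)).sum)
      (P + (m.map fun i => pOf (f i) (q i)).sum) (M + (m.map fun i => mOf (f i) (q i)).sum)
      (0 + (m.map fun i => cost (f i).1 (q i)).sum) = true := by rwa [zero_add]
  obtain ⟨r, hr, hmap⟩ := search_sound f q V cost B useE fin h0 l0 hcost hfin l m AP AM P M 0 0 hq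
    (fun _ _ _ _ _ => Nat.zero_le _) hm hf'
  refine ⟨r, ?_, hmap⟩
  have hne : ∀ a ∈ l, V a.1 ≠ [] := fun a ha => by
    have h' : a ∈ m.map f := by rw [hm]; exact ha
    obtain ⟨i, hi, rfl⟩ := Multiset.mem_map.1 h'
    exact List.ne_nil_of_mem (hq i hi)
  have hT : tlOf V cost l ≤ B := (tlOf_le f q V cost l m hq hm).trans (hfin _ _ _ _ _ hf).1
  rw [searchAll, mkItems_eq, any_items_isEmpty V cost h0 l0 l hne,
    show Nat.ble (tlOf V cost l) B = true by simpa using hT]
  simpa using hr

/-- The values at an involution that are multiples forced by integrality. -/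
def fastVals (p c d : ℕ) : List ℤ :=
  forceN (d / Nat.gcd (10200960 / c) d) fun m => forceN (rootBound c / m) fun b =>
    ((List.range (2 * b + 1)).map fun (i : ℕ) => (m : ℤ) * ((i : ℤ) - (b : ℤ))).filter fun v =>
      decide (v * v ≤ (c : ℤ)) && inRange d v &&
        (!(c % p == 0) || decide ((v - (d : ℤ)) % (p : ℤ) = 0))

theorem mem_fastVals {p c d : ℕ} {v : ℤ} (hd : 0 < d) (hv : v ∈ valsAt p c d) :
    v ∈ fastVals p c d := by
  obtain ⟨hs, hp⟩ := List.mem_filter.1 hv
  rw [Bool.and_eq_true] at hp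
  obtain ⟨hadm, hcong⟩ := hp
  simp only [OrderM12.admissible, Bool.and_eq_true, decide_eq_true_eq] at hadm
  obtain ⟨hsq, hdvd⟩ := hadm
  set K := 10200960 / c with hK
  set g := Nat.gcd K d with hg
  have hgd : g ∣ d := Nat.gcd_dvd_right _ _
  have hgK : g ∣ K := Nat.gcd_dvd_left _ _
  have hg0 : 0 < g := Nat.gcd_pos_of_pos_right _ hd
  set m := d / g with hm
  have hm0 : 0 < m := Nat.div_pos (Nat.le_of_dvd hd hgd) hg0
  have hco : Nat.Coprime (K / g) m := Nat.coprime_div_gcd_div_gcd hg0
  have hmv : (m : ℤ) ∣ v := by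
    have h : (d : ℤ) ∣ (K : ℤ) * v := Int.dvd_of_emod_eq_zero hdvd
    have h' : m ∣ (K / g) * v.natAbs := by
      refine Nat.dvd_of_mul_dvd_mul_left hg0 ?_
      rw [hm, Nat.mul_div_cancel' hgd, ← mul_assoc, Nat.mul_div_cancel' hgK]
      have := Int.natAbs_dvd_natAbs.2 h
      simpa [Int.natAbs_mul] using this
    exact Int.natCast_dvd.2 (Nat.Coprime.dvd_of_dvd_mul_left hco.symm h')
  obtain ⟨j, rfl⟩ := hmv
  have hr2 : c ≤ rootBound c * rootBound c := by
    unfold rootBound
    split_ifs <;> first | omega | nlinarith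
  set r := rootBound c
  set b := r / m with hb
  have hj : -(b : ℤ) ≤ j ∧ j ≤ b := by
    have h1 : ((m * j.natAbs) * (m * j.natAbs) : ℕ) ≤ r * r := by
      have e : (((m * j.natAbs) * (m * j.natAbs) : ℕ) : ℤ) = (m : ℤ) * j * ((m : ℤ) * j) := by
        push_cast
        linear_combination (m : ℤ) * m * abs_mul_abs_self j
      have : (((m * j.natAbs) * (m * j.natAbs) : ℕ) : ℤ) ≤ ((r * r : ℕ) : ℤ) := by
        rw [e]; exact hsq.trans (by exact_mod_cast hr2)
      exact_mod_cast this
    have h2 : m * j.natAbs ≤ r := Nat.mul_self_le_mul_self_iff.1 h1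
    have h3 : j.natAbs ≤ b := (Nat.le_div_iff_mul_le hm0).2 (by rwa [mul_comm])
    omega
  have hin : inRange d ((m : ℤ) * j) = true := by
    obtain ⟨i, hi, hiv⟩ := List.mem_map.1 hs
    rw [List.mem_range] at hi
    simp only [inRange, Bool.and_eq_true, decide_eq_true_eq]
    rw [← hiv]
    refine ⟨⟨?_, ?_⟩, ?_⟩ <;> omega
  rw [fastVals, forceN_eq, forceN_eq, List.mem_filter]
  refine ⟨List.mem_map.2 ⟨(j + b).toNat,
    List.mem_range.2 (show (j + b).toNat < 2 * b + 1 by omega), ?_⟩, ?_⟩
  · show (m : ℤ) * ((((j + b).toNat : ℕ) : ℤ) - (b : ℤ)) = (m : ℤ) * j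
    rw [show (((j + b).toNat : ℕ) : ℤ) - (b : ℤ) = j by omega]
  · simp only [Bool.and_eq_true, decide_eq_true_eq, hsq, hin, true_and, Bool.or_eq_true,
      Bool.not_eq_true', beq_eq_false_iff_ne]
    simpa [Bool.or_eq_true, decide_eq_true_eq] using hcong

end CfsgLib.Recog.OrderM23
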