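import Cfsg.Agent.Lib.Recog.OrderM23.Setup
import Cfsg.Agent.Lib.Recog.OrderM23.Search

/-!
# Simple groups of order 10200960: the closing conditions of a block at an involution
-/

set_option autoImplicit false
set_option synthInstance.maxSize 2000
set_option linter.unusedSectionVars false
set_option linter.unusedSimpArgs false

namespace CfsgLib.Recog.OrderM23

open Cfsg CfsgLib CfsgLib.Block CfsgLib.ClassK CfsgLib.ClassK.RowSieve CfsgLib.ClassK.RowInvolution
open CfsgLib.Recog.OrderM22 (block_pairs)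
open CfsgLib.Recog.OrderM12 (admissible dvd_index_mul sum_sq_le dvd_sub_of_commute)
open scoped ComplexConjugate Classical

universe u

variable {G : Type u} [Group G] [Finite G]

/-- Classical equality of characters. -/
noncomputable local instance (priority := high) decEqIrrM : DecidableEq (IrrCharacter G) :=
  Classical.decEq _

namespace Setup

variable {p : ℕ} [hpf : Fact p.Prime] {B : Blk} {M : Ideal AlgInt} {P : Sylow p G}
  {CF YF : Finset (IrrCharacter G)} {ε : IrrCharacter G → ℤ} (S : Setup p B M P CF YF ε)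
include S

/-- The values at an involution of the nonexceptional members give the members. -/
theorem exists_members_of_map {g : G} (hg : orderOf g = 2) (q : IrrCharacter G → ℤ) (hq1 : q oneChar = 1)
    (hq : ∀ φ : IrrCharacter G, (φ : G → ℂ) g = q φ ∧ (φ ≠ oneChar → q φ ∈ qRange (dg φ) ∧
      admissible 10200960 (Nat.card (Subgroup.centralizer ({g} : Set G))) (dg φ) (q φ) = true))
    {r : List ((ℕ × Bool) × ℤ)}
    (hrmap : (CF.erase oneChar).val.map (fun φ => (sKey ε φ, q φ)) = ↑r) :
    ∃ y ∈ members B (Nat.card (Subgroup.centralizer ({g} : Set G))) r,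
      (CF ∪ YF).val.map (vKey q) = ↑y := by
  have := Fintype.ofFinite G
  have := Fintype.ofFinite (IrrCharacter G)
  set c := Nat.card (Subgroup.centralizer ({g} : Set G)) with hc
  have hrsum : ∀ f : (ℕ × Bool) × ℤ → ℤ,
      (r.map f).sum = ∑ φ ∈ CF.erase oneChar, f (sKey ε φ, q φ) := fun f => by
    rw [← Multiset.sum_coe, ← Multiset.map_coe, ← hrmap, Multiset.map_map]; rfl
  have hsgn : ∀ φ ∈ CF, sgn (sKey ε φ) = ε φ := fun φ hφ => by
    rcases S.rows.eps_pm φ hφ with h | h <;> simp [sgn, sKey, h]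
  have hgr : ¬ p ∣ orderOf g := by
    rw [hg]; exact fun h => S.odd ((Nat.prime_dvd_prime_iff_eq hpf.out Nat.prime_two).1 h)
  have hsplit : ∀ f : IrrCharacter G → ℤ,
      ∑ φ ∈ CF, f φ = f oneChar + ∑ φ ∈ CF.erase oneChar, f φ := fun f =>
    (Finset.add_sum_erase _ _ S.rows.one_mem).symm
  have heps : ε oneChar = 1 := S.rows.eps_one
  set A := 1 + (r.map fun a => sgn a.1 * a.2).sum with hA
  have hA' : A = ∑ φ ∈ CF, ε φ * q φ := by
    rw [hA, hrsum, hsplit, heps, hq1, one_mul]
    exact congrArg _ (Finset.sum_congr rfl fun φ hφ => by rw [hsgn φ (Finset.mem_of_mem_erase hφ)])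
  set E := (10200960 : ℤ) + (r.map fun a => sgn a.1 * a.2 * a.2 * ((10200960 / a.1.1 : ℕ) : ℤ)).sum with hE
  have hE' : E = ∑ φ ∈ CF, ε φ * q φ * q φ * ((10200960 / dg φ : ℕ) : ℤ) := by
    rw [hE, hrsum, hsplit, heps, hq1, deg_oneChar, one_mul, one_mul, one_mul]
    refine congrArg₂ (· + ·) (by norm_num) (Finset.sum_congr rfl fun φ hφ => ?_)
    rw [hsgn φ (Finset.mem_of_mem_erase hφ)]
    rfl
  obtain ⟨x, hx, hx1⟩ := S.exists_x
  have hgg : g * g = 1 := by rw [← pow_two, ← hg, pow_orderOf_eq_one]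
  obtain ⟨j, hj0, hj⟩ := block_pairs S.modular P S.card_P S.odd (CF ∪ YF)
    (fun φ => by rw [Finset.mem_union, S.rows.mem]) hx hx1 S.card_C S.not_dvd_w hgg
  rw [S.rows.e_eq, Nat.odd_iff] at hj0
  have hdiv : ∀ φ : IrrCharacter G, ((10200960 / dg φ : ℕ) : ℂ) = (10200960 : ℂ) / (φ : G → ℂ) 1 :=
    fun φ => by
      rw [Nat.cast_div (S.card ▸ BlockB.irr_degree_dvd_card φ)
        (Nat.cast_ne_zero.2 (BlockB.irr_degree_pos φ).ne'), BlockB.irr_degree_cast]
      norm_num
  have hCFsum : ∑ φ ∈ CF, (Nat.card G : ℂ) * (φ : G → ℂ) g * (φ : G → ℂ) g / (φ : G → ℂ) 1 *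
      conj ((φ : G → ℂ) x) = (E : ℂ) := by
    rw [hE', Int.cast_sum, S.card]
    refine Finset.sum_congr rfl fun φ hφ => ?_
    rw [S.rows.CF_val φ hφ x hx hx1, map_intCast, (hq φ).1, Int.cast_mul, Int.cast_mul, Int.cast_mul,
      Int.cast_natCast, hdiv φ]
    push_cast
    ring
  rw [Finset.sum_union S.rows.disj, hCFsum] at hj
  have hkeys : ((CF.erase oneChar).val.map (vKey q)) = ↑(r.map fun a => (a.1.1, a.2)) := by
    rw [← Multiset.map_coe, ← hrmap, Multiset.map_map]; rfl
  have hone : vKey q oneChar = ((1 : ℕ), (1 : ℤ)) := by rw [vKey, deg_oneChar, hq1]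
  by_cases ht : B.t = 1
  · have hY : YF = ∅ := Finset.card_eq_zero.1 (by rw [S.rows.card_YF, if_pos ht])
    refine ⟨(1, 1) :: r.map fun a => (a.1.1, a.2), ?_, ?_⟩
    · have hA0 : A = 0 := by
        have h := S.rows.relation_one ht g hgr
        rw [Finset.sum_congr rfl fun φ _ => by rw [(hq φ).1]] at h
        rw [hA']
        exact_mod_cast h
      have hok : pairsOK B.p B.e c ((B.w : ℤ) * E) = true := by
        refine pairsOK_of (S.prime_eq ▸ hpf.out.pos) Nat.card_pos hj0 ?_
        rw [S.prime_eq]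
        rw [hY, Finset.sum_empty, add_zero] at hj
        exact_mod_cast hj
      simp only [members, ← hA, ← hE, ht, if_true]
      rw [if_pos (by simp [hA0, hok])]
      exact List.mem_singleton_self _
    · rw [S.block_val, hY, Finset.empty_val, add_zero, Multiset.map_cons, hkeys, hone,
        Multiset.cons_coe]
  · obtain ⟨η, hη⟩ : YF.Nonempty := Finset.card_pos.1 (by
      rw [S.rows.card_YF, if_neg ht]
      have hte := S.rows.hte
      rcases Nat.eq_zero_or_pos B.t with h0 | h0
      · rw [h0, zero_mul, zero_add] at hte; exact absurd hte.symm hpf.out.ne_one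
      · exact h0)
    set v := B.σ * A with hv
    have hσ : B.σ * B.σ = 1 := by rcases S.rows.sign with h | h <;> simp [h]
    have hYv : ∀ φ ∈ YF, q φ = v := fun φ hφ => by
      have h := S.rows.relation ht φ hφ g hgr
      rw [Finset.sum_congr rfl fun ψ _ => by rw [(hq ψ).1], (hq φ).1] at h
      have h' : A = B.σ * q φ := by rw [hA']; exact_mod_cast h
      rw [hv, h', ← mul_assoc, hσ, one_mul]
    have hYkey : YF.val.map (vKey q) = ↑(List.replicate B.t (B.d, v)) := by
      rw [Multiset.coe_replicate]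
      refine Multiset.eq_replicate.2 ⟨?_, fun b hb => ?_⟩
      · rw [Multiset.card_map, show Multiset.card YF.val = YF.card from rfl, S.rows.card_YF,
          if_neg ht]
      · obtain ⟨φ, hφ, rfl⟩ := Multiset.mem_map.1 hb
        rw [vKey, show dg φ = B.d from S.rows.YF_deg φ hφ, hYv φ hφ]
    refine ⟨(1, 1) :: (r.map (fun a => (a.1.1, a.2)) ++ List.replicate B.t (B.d, v)),
      ?_, ?_⟩
    · obtain ⟨hR, hadm⟩ := (hq η).2 (S.not_one_of_mem_YF hη)
      rw [hYv η hη, show dg η = B.d from S.rows.YF_deg η hη] at hR hadm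
      have hQle : 1 + (r.map fun a => a.2 * a.2).sum + (B.t : ℤ) * (v * v) ≤ (c : ℤ) := by
        have h := sum_sq_le g (CF ∪ YF) q fun φ _ => (hq φ).1
        rw [Finset.sum_union S.rows.disj, hsplit, hq1, Finset.sum_congr rfl (g := fun _ => v * v)
          (s₁ := YF) fun φ hφ => by rw [hYv φ hφ], Finset.sum_const, S.rows.card_YF, if_neg ht,
          nsmul_eq_mul, ← hc] at h
        rw [hrsum]
        simpa using h
      have hYsum : ∑ φ ∈ YF, (Nat.card G : ℂ) * (φ : G → ℂ) g * (φ : G → ℂ) g / (φ : G → ℂ) 1 *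
          conj ((φ : G → ℂ) x) =
          ((-(B.σ * (v * v) * ((10200960 / B.d : ℕ) : ℤ)) : ℤ) : ℂ) := by
        rw [Finset.sum_congr rfl (g := fun φ : IrrCharacter G =>
          ((v * v * ((10200960 / B.d : ℕ) : ℤ) : ℤ) : ℂ) * conj ((φ : G → ℂ) x)) fun φ hφ => by
            rw [(hq φ).1, hYv φ hφ, S.card, Int.cast_mul, Int.cast_mul, Int.cast_natCast,
              ← S.rows.YF_deg φ hφ, hdiv φ]
            simp only [hv]
            push_cast
            ring,
          ← Finset.mul_sum, ← map_sum, S.rows.YF_sum ht x hx hx1, map_intCast, ← Int.cast_mul]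
        congr 1
        ring
      have hok : pairsOK B.p B.e c
          ((B.w : ℤ) * (E - B.σ * (v * v) * ((10200960 / B.d : ℕ) : ℤ))) = true := by
        refine pairsOK_of (S.prime_eq ▸ hpf.out.pos) Nat.card_pos hj0 ?_
        rw [S.prime_eq, sub_eq_add_neg]
        rw [hYsum, ← Int.cast_add] at hj
        exact_mod_cast hj
      simp only [members, ← hA, ← hE, if_neg ht, ← hv]
      rw [if_pos (by
        simp only [Bool.and_eq_true, decide_eq_true_eq]
        exact ⟨⟨⟨inRange_of_mem hR, hadm⟩, hQle⟩, hok⟩)]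
      exact List.mem_singleton_self _
    · rw [S.block_val, Multiset.map_add, Multiset.map_cons, hkeys, hYkey, hone, Multiset.cons_add,
        Multiset.coe_add, Multiset.cons_coe]

/-- A row may be listed in any order. -/
theorem perm {B' : Blk} (hp : B'.p = B.p) (he : B'.e = B.e) (hw : B'.w = B.w) (hd : B'.d = B.d)
    (hσ : B'.σ = B.σ) (hl : B'.l.Perm B.l) : Setup p B' M P CF YF ε := by
  have ht : B'.t = B.t := by simp [Blk.t, hp, he]
  exact ⟨S.simple, S.card, hp.trans S.prime_eq, S.odd, S.card_P, by rw [hw]; exact S.card_C,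
    by rw [hw]; exact S.not_dvd_w, S.modular, by rw [he, ht, hd, hσ]; exact S.rows,
    S.map.trans (Quot.sound hl.symm)⟩

theorem exc_value {g : G} (hg : orderOf g = 2) (q : IrrCharacter G → ℤ) (hq1 : q oneChar = 1)
    (hq : ∀ φ : IrrCharacter G, (φ : G → ℂ) g = q φ) {η : IrrCharacter G} (hη : η ∈ YF) :
    q η = B.σ * (1 + ∑ φ ∈ CF.erase oneChar, sgn (sKey ε φ) * q φ) := by
  have ht : B.t ≠ 1 := fun ht => by
    have := Finset.card_pos.2 ⟨η, hη⟩
    rw [S.rows.card_YF, if_pos ht] at this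
    exact lt_irrefl _ this
  have hgr : ¬ p ∣ orderOf g := by
    rw [hg]; exact fun h => S.odd ((Nat.prime_dvd_prime_iff_eq hpf.out Nat.prime_two).1 h)
  have h := S.rows.relation ht η hη g hgr
  rw [Finset.sum_congr rfl fun ψ _ => by rw [hq ψ], hq η] at h
  have h' : ∑ φ ∈ CF, ε φ * q φ = B.σ * q η := by exact_mod_cast h
  rw [← Finset.add_sum_erase CF _ (show oneChar ∈ CF from S.rows.one_mem),
    show ε oneChar = 1 from S.rows.eps_one, hq1, one_mul] at h'
  rw [Finset.sum_congr rfl (g := fun φ => ε φ * q φ) fun φ hφ => by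
    rcases S.rows.eps_pm φ (Finset.mem_of_mem_erase hφ) with he | he <;> simp [sgn, sKey, he],
    h', ← mul_assoc]
  rcases S.rows.sign with h | h <;> simp [h]

/-- The closing conditions in terms of the totals over the nonexceptional members. -/
theorem totals {g : G} (hg : orderOf g = 2) (q : IrrCharacter G → ℤ) (hq1 : q oneChar = 1)
    (hq : ∀ φ : IrrCharacter G, (φ : G → ℂ) g = q φ ∧ (φ ≠ oneChar → q φ ∈ qRange (dg φ) ∧
      admissible 10200960 (Nat.card (Subgroup.centralizer ({g} : Set G))) (dg φ) (q φ) = true)) :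
    let A : ℤ := 1 + ∑ φ ∈ CF.erase oneChar, sgn (sKey ε φ) * q φ
    let E : ℤ := 10200960 + ∑ φ ∈ CF.erase oneChar, coef (sKey ε φ) * (q φ * q φ)
    let Q : ℤ := 1 + ∑ φ ∈ CF.erase oneChar, q φ * q φ
    (B.t = 1 → A = 0) ∧
      (B.t ≠ 1 → Q + (B.t : ℤ) * (A * A) ≤ (Nat.card (Subgroup.centralizer ({g} : Set G)) : ℤ) ∧
        (B.e % 2 = 1 → B.w = 1 → E - B.σ * (A * A) * ((10200960 / B.d : ℕ) : ℤ) = 0)) := by
  intro A E Q
  obtain ⟨r, hrmap⟩ : ∃ r : List ((ℕ × Bool) × ℤ),
      (CF.erase oneChar).val.map (fun φ => (sKey ε φ, q φ)) = ↑r := ⟨_, (Multiset.coe_toList _).symm⟩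
  obtain ⟨y, hy, -⟩ := S.exists_members_of_map hg q hq1 hq hrmap
  have hrsum : ∀ f : (ℕ × Bool) × ℤ → ℤ,
      (r.map f).sum = ∑ φ ∈ CF.erase oneChar, f (sKey ε φ, q φ) := fun f => by
    rw [← Multiset.sum_coe, ← Multiset.map_coe, ← hrmap, Multiset.map_map]; rfl
  have hA : 1 + (r.map fun a => sgn a.1 * a.2).sum = A := by rw [hrsum]
  have hE : (10200960 : ℤ) + (r.map fun a => sgn a.1 * a.2 * a.2 *
      ((10200960 / a.1.1 : ℕ) : ℤ)).sum = E := by
    rw [hrsum]
    exact congrArg _ (Finset.sum_congr rfl fun φ _ => by simp only [coef]; ring)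
  have hQ : 1 + (r.map fun a => a.2 * a.2).sum = Q := by rw [hrsum]
  by_cases ht : B.t = 1
  · refine ⟨fun _ => ?_, fun h => absurd ht h⟩
    simp only [members, hA, hE, ht, if_true] at hy
    split_ifs at hy with h
    · simp only [Bool.and_eq_true, decide_eq_true_eq] at h
      exact h.1
    · simp at hy
  · refine ⟨fun h => absurd h ht, fun _ => ?_⟩
    have hσ : B.σ * B.σ = 1 := by rcases S.rows.sign with h | h <;> simp [h]
    have hvv : B.σ * A * (B.σ * A) = A * A := by linear_combination A * A * hσ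
    simp only [members, hA, hE, hQ, if_neg ht] at hy
    split_ifs at hy with h
    · simp only [Bool.and_eq_true, decide_eq_true_eq] at h
      refine ⟨hvv ▸ h.1.2, fun he hw => ?_⟩
      have hp := h.2
      simp only [pairsOK, if_pos he, Bool.and_eq_true, decide_eq_true_eq, hw, Nat.cast_one, one_mul,
        hvv] at hp
      exact hp.2
    · simp at hy

end Setup

end CfsgLib.Recog.OrderM23
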