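import Cfsg.Agent.Lib.Recog.OrderM23.Sieve
import Cfsg.Agent.Lib.Recog.OrderM22.RowDfs

/-!
# The automiser of a Sylow 23-subgroup: the search

The signed degrees and values at an involution centralising the Sylow subgroup are listed for each
configuration with centraliser of even order; none passes the search.
-/

set_option autoImplicit false
set_option maxRecDepth 100000
set_option maxHeartbeats 4000000

namespace CfsgLib.Recog.OrderM23.Twentythree

open CfsgLib.ClassK.RowSieve CfsgLib.ClassK.RowInvolution
open CfsgLib.Recog.OrderM22 (trips dfs dfsFin rowsAt)
open CfsgLib.Recog.OrderM12 (admissible)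

/-- The signed degrees with values congruent to the degree. -/
def congTrips (M : ℕ) : List ((ℕ × Bool) × ℤ) :=
  (cands 10200960 M 23 3195 false fun _ => true).flatMap fun a =>
    ((qRange a.1).filter fun v => decide ((v - (a.1 : ℤ)) % 23 = 0)).map fun v => (a, v)

/-- The search from listed candidates. -/
def search (T : List ((ℕ × Bool) × ℤ)) (X : List ℕ) (e c : ℕ) : Bool :=
  dfs 10200960 c (dfsFin 10200960 e 23 ((23 - 1) / e) c X)
    (T.filter fun x => admissible 10200960 c x.1.1 x.2)
    (if (23 - 1) / e = 1 then 23 - 1 else e - 1) 1 1 1 1

theorem rowsAt_eq {np e M : ℕ} (hM : np * e = M) {T : List ((ℕ × Bool) × ℤ)} {X : List ℕ}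
    (hT : congTrips M = T)
    (hX : (List.range 3195).filter (excOK 10200960 M 23 false fun _ => true) = X) (c : ℕ) :
    rowsAt 10200960 np e 23 3195 c = search T X e c := by
  subst hM hT hX
  have h : trips 10200960 (np * e) 23 3195 c =
      (congTrips (np * e)).filter fun x => admissible 10200960 c x.1.1 x.2 := by
    simp only [trips, congTrips, List.filter_flatMap, List.filter_map, List.filter_filter]
    rfl
  simp only [rowsAt, search, h]

/-- The quotients by 46 of the orders of centralisers. -/
def cQuots : List ℕ :=
  ([1, 2, 4, 8, 16, 32, 64].flatMap fun a =>
    (oddDivs.filter fun b => decide (3465 % b = 0)).map (a * ·)).filter fun m => decide (m ≠ 221760)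

theorem mem_cQuots {m : ℕ} (h : m ∣ 221760) (hne : m ≠ 221760) : m ∈ cQuots := by
  refine List.mem_filter.2 ⟨?_, by simpa using hne⟩
  rw [show (221760 : ℕ) = 64 * 3465 by norm_num, Nat.dvd_mul] at h
  obtain ⟨a, b, ha, hb, rfl⟩ := h
  refine List.mem_flatMap.2 ⟨a, ?_, List.mem_map.2 ⟨b, List.mem_filter.2
    ⟨mem_oddDivs (hb.trans (by norm_num)), by simpa using Nat.mod_eq_zero_of_dvd hb⟩, rfl⟩⟩
  have hd : ∀ a ≤ 64, 64 % a = 0 → a ∈ [1, 2, 4, 8, 16, 32, 64] := by decide +kernel
  exact hd a (Nat.le_of_dvd (by norm_num) ha) (Nat.mod_eq_zero_of_dvd ha)

/-- The candidates with automiser order 2 and regular part 40. -/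
def trips_2_40 : List ((ℕ × Bool) × ℤ) :=
    [((231, true), 139), ((231, true), 47), ((231, true), -45), ((231, true), -137),
     ((231, true), -229), ((252, false), 160), ((252, false), 68), ((252, false), -24),
     ((252, false), -116), ((252, false), -208), ((528, false), 436), ((528, false), 344),
     ((528, false), 252), ((528, false), 160), ((528, false), 68), ((528, false), -24),
     ((528, false), -116), ((528, false), -208), ((528, false), -300), ((528, false), -392),
     ((528, false), -484)]

/-- The exceptional degrees with regular part 40. -/
def exc_2_40 : List ℕ :=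
    [2, 3, 4, 6, 7, 8, 9, 11, 12, 14, 16, 18, 21, 22, 24, 28, 33, 36, 42, 44, 48, 56, 63, 66, 72,
     77, 84, 88, 99, 112, 126, 132, 144, 154, 168, 176, 198, 231, 252, 264, 308, 336, 396, 462,
     504, 528, 616, 693, 792, 924, 1008, 1232, 1386, 1584, 1848, 2772]

theorem trips_2_40_eq : congTrips 11088 = trips_2_40 := by decide +kernel

theorem exc_2_40_eq :
    (List.range 3195).filter (excOK 10200960 11088 23 false fun _ => true) = exc_2_40 := by decide +kernel

theorem dead_2_40 : (cQuots.all fun m => !search trips_2_40 exc_2_40 2 (46 * m)) = true := by
  decide +kernel

/-- The candidates with automiser order 2 and regular part 132. -/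
def trips_2_132 : List ((ℕ × Bool) × ℤ) :=
    [((70, true), -22), ((1680, true), 1588), ((1680, true), 1496), ((1680, true), 1404),
     ((1680, true), 1312), ((1680, true), 1220), ((1680, true), 1128), ((1680, true), 1036),
     ((1680, true), 944), ((1680, true), 852), ((1680, true), 760), ((1680, true), 668),
     ((1680, true), 576), ((1680, true), 484), ((1680, true), 392), ((1680, true), 300),
     ((1680, true), 208), ((1680, true), 116), ((1680, true), 24), ((1680, true), -68),
     ((1680, true), -160), ((1680, true), -252), ((1680, true), -344), ((1680, true), -436),
     ((1680, true), -528), ((1680, true), -620), ((1680, true), -712), ((1680, true), -804),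
     ((1680, true), -896), ((1680, true), -988), ((1680, true), -1080), ((1680, true), -1172),
     ((1680, true), -1264), ((1680, true), -1356), ((1680, true), -1448), ((1680, true), -1540),
     ((1680, true), -1632), ((160, false), 68), ((160, false), -24), ((160, false), -116)]

/-- The exceptional degrees with regular part 132. -/
def exc_2_132 : List ℕ :=
    [2, 3, 4, 5, 6, 7, 8, 10, 12, 14, 15, 16, 20, 21, 24, 28, 30, 32, 35, 40, 42, 48, 56, 60, 70,
     80, 84, 96, 105, 112, 120, 140, 160, 168, 210, 224, 240, 280, 336, 420, 480, 560, 672, 840,
     1120, 1680]

theorem trips_2_132_eq : congTrips 3360 = trips_2_132 := by decide +kernel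

theorem exc_2_132_eq :
    (List.range 3195).filter (excOK 10200960 3360 23 false fun _ => true) = exc_2_132 := by decide +kernel

theorem dead_2_132 : (cQuots.all fun m => !search trips_2_132 exc_2_132 2 (46 * m)) = true := by
  decide +kernel

/-- The candidates with automiser order 2 and regular part 224. -/
def trips_2_224 : List ((ℕ × Bool) × ℤ) :=
    [((990, true), 898), ((990, true), 806), ((990, true), 714), ((990, true), 622),
     ((990, true), 530), ((990, true), 438), ((990, true), 346), ((990, true), 254),
     ((990, true), 162), ((990, true), 70), ((990, true), -22), ((990, true), -114),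
     ((990, true), -206), ((990, true), -298), ((990, true), -390), ((990, true), -482),
     ((990, true), -574), ((990, true), -666), ((990, true), -758), ((990, true), -850),
     ((990, true), -942)]

/-- The exceptional degrees with regular part 224. -/
def exc_2_224 : List ℕ :=
    [2, 3, 4, 5, 6, 9, 10, 11, 12, 15, 18, 20, 22, 30, 33, 36, 44, 45, 55, 60, 66, 90, 99, 110,
     132, 165, 180, 198, 220, 330, 396, 495, 660, 990, 1980]

theorem trips_2_224_eq : congTrips 1980 = trips_2_224 := by decide +kernel

theorem exc_2_224_eq :
    (List.range 3195).filter (excOK 10200960 1980 23 false fun _ => true) = exc_2_224 := by decide +kernel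

theorem dead_2_224 : (cQuots.all fun m => !search trips_2_224 exc_2_224 2 (46 * m)) = true := by
  decide +kernel

/-- The candidates with automiser order 2 and regular part 960. -/
def trips_2_960 : List ((ℕ × Bool) × ℤ) :=
    [((231, true), 139), ((231, true), 47), ((231, true), -45), ((231, true), -137),
     ((231, true), -229)]

/-- The exceptional degrees with regular part 960. -/
def exc_2_960 : List ℕ :=
    [2, 3, 6, 7, 11, 14, 21, 22, 33, 42, 66, 77, 154, 231, 462]

theorem trips_2_960_eq : congTrips 462 = trips_2_960 := by decide +kernel

theorem exc_2_960_eq :
    (List.range 3195).filter (excOK 10200960 462 23 false fun _ => true) = exc_2_960 := by decide +kernel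

theorem dead_2_960 : (cQuots.all fun m => !search trips_2_960 exc_2_960 2 (46 * m)) = true := by
  decide +kernel

/-- The candidates with automiser order 2 and regular part 3168. -/
def trips_2_3168 : List ((ℕ × Bool) × ℤ) :=
    [((70, true), -22)]

/-- The exceptional degrees with regular part 3168. -/
def exc_2_3168 : List ℕ :=
    [2, 4, 5, 7, 10, 14, 20, 28, 35, 70, 140]

theorem trips_2_3168_eq : congTrips 140 = trips_2_3168 := by decide +kernel

theorem exc_2_3168_eq :
    (List.range 3195).filter (excOK 10200960 140 23 false fun _ => true) = exc_2_3168 := by decide +kernel

theorem dead_2_3168 : (cQuots.all fun m => !search trips_2_3168 exc_2_3168 2 (46 * m)) = true := by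
  decide +kernel

/-- The candidates with automiser order 2 and regular part 9240. -/
def trips_2_9240 : List ((ℕ × Bool) × ℤ) := []

/-- The exceptional degrees with regular part 9240. -/
def exc_2_9240 : List ℕ :=
    [2, 3, 4, 6, 8, 12, 16, 24, 48]

theorem trips_2_9240_eq : congTrips 48 = trips_2_9240 := by decide +kernel

theorem exc_2_9240_eq :
    (List.range 3195).filter (excOK 10200960 48 23 false fun _ => true) = exc_2_9240 := by decide +kernel

theorem dead_2_9240 : (cQuots.all fun m => !search trips_2_9240 exc_2_9240 2 (46 * m)) = true := by
  decide +kernel

/-- The candidates with automiser order 11 and regular part 24. -/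
def trips_11_24 : List ((ℕ × Bool) × ℤ) :=
    [((70, true), -22), ((231, true), 139), ((231, true), 47), ((231, true), -45),
     ((231, true), -137), ((231, true), -229), ((1680, true), 1588), ((1680, true), 1496),
     ((1680, true), 1404), ((1680, true), 1312), ((1680, true), 1220), ((1680, true), 1128),
     ((1680, true), 1036), ((1680, true), 944), ((1680, true), 852), ((1680, true), 760),
     ((1680, true), 668), ((1680, true), 576), ((1680, true), 484), ((1680, true), 392),
     ((1680, true), 300), ((1680, true), 208), ((1680, true), 116), ((1680, true), 24),
     ((1680, true), -68), ((1680, true), -160), ((1680, true), -252), ((1680, true), -344),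
     ((1680, true), -436), ((1680, true), -528), ((1680, true), -620), ((1680, true), -712),
     ((1680, true), -804), ((1680, true), -896), ((1680, true), -988), ((1680, true), -1080),
     ((1680, true), -1172), ((1680, true), -1264), ((1680, true), -1356), ((1680, true), -1448),
     ((1680, true), -1540), ((1680, true), -1632), ((528, false), 436), ((528, false), 344),
     ((528, false), 252), ((528, false), 160), ((528, false), 68), ((528, false), -24),
     ((528, false), -116), ((528, false), -208), ((528, false), -300), ((528, false), -392),
     ((528, false), -484), ((1540, false), 1448), ((1540, false), 1356), ((1540, false), 1264),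
     ((1540, false), 1172), ((1540, false), 1080), ((1540, false), 988), ((1540, false), 896),
     ((1540, false), 804), ((1540, false), 712), ((1540, false), 620), ((1540, false), 528),
     ((1540, false), 436), ((1540, false), 344), ((1540, false), 252), ((1540, false), 160),
     ((1540, false), 68), ((1540, false), -24), ((1540, false), -116), ((1540, false), -208),
     ((1540, false), -300), ((1540, false), -392), ((1540, false), -484), ((1540, false), -576),
     ((1540, false), -668), ((1540, false), -760), ((1540, false), -852), ((1540, false), -944),
     ((1540, false), -1036), ((1540, false), -1128), ((1540, false), -1220),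
     ((1540, false), -1312), ((1540, false), -1404), ((1540, false), -1496)]

/-- The exceptional degrees with regular part 24. -/
def exc_11_24 : List ℕ :=
    [2, 3, 4, 5, 6, 7, 8, 10, 11, 12, 14, 15, 16, 20, 21, 22, 24, 28, 30, 33, 35, 40, 42, 44, 48,
     55, 56, 60, 66, 70, 77, 80, 84, 88, 105, 110, 112, 120, 132, 140, 154, 165, 168, 176, 210,
     220, 231, 240, 264, 280, 308, 330, 336, 385, 420, 440, 462, 528, 560, 616, 660, 770, 840,
     880, 924, 1155, 1232, 1320, 1540, 1680, 1848, 2310, 2640, 3080]

theorem trips_11_24_eq : congTrips 18480 = trips_11_24 := by decide +kernel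

theorem exc_11_24_eq :
    (List.range 3195).filter (excOK 10200960 18480 23 false fun _ => true) = exc_11_24 := by decide +kernel

theorem dead_11_24 : (cQuots.all fun m => !search trips_11_24 exc_11_24 11 (46 * m)) = true := by
  decide +kernel

/-- The candidates with automiser order 11 and regular part 70. -/
def trips_11_70 : List ((ℕ × Bool) × ℤ) :=
    [((576, true), 484), ((576, true), 392), ((576, true), 300), ((576, true), 208),
     ((576, true), 116), ((576, true), 24), ((576, true), -68), ((576, true), -160),
     ((576, true), -252), ((576, true), -344), ((576, true), -436), ((576, true), -528),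
     ((528, false), 436), ((528, false), 344), ((528, false), 252), ((528, false), 160),
     ((528, false), 68), ((528, false), -24), ((528, false), -116), ((528, false), -208),
     ((528, false), -300), ((528, false), -392), ((528, false), -484)]

/-- The exceptional degrees with regular part 70. -/
def exc_11_70 : List ℕ :=
    [2, 3, 4, 6, 8, 9, 11, 12, 16, 18, 22, 24, 32, 33, 36, 44, 48, 64, 66, 72, 88, 96, 99, 132,
     144, 176, 192, 198, 264, 288, 352, 396, 528, 576, 704, 792, 1056, 1584, 2112, 3168]

theorem trips_11_70_eq : congTrips 6336 = trips_11_70 := by decide +kernel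

theorem exc_11_70_eq :
    (List.range 3195).filter (excOK 10200960 6336 23 false fun _ => true) = exc_11_70 := by decide +kernel

theorem dead_11_70 : (cQuots.all fun m => !search trips_11_70 exc_11_70 11 (46 * m)) = true := by
  decide +kernel

/-- The candidates with automiser order 11 and regular part 576. -/
def trips_11_576 : List ((ℕ × Bool) × ℤ) :=
    [((70, true), -22)]

/-- The exceptional degrees with regular part 576. -/
def exc_11_576 : List ℕ :=
    [2, 5, 7, 10, 11, 14, 22, 35, 55, 70, 77, 110, 154, 385, 770]

theorem trips_11_576_eq : congTrips 770 = trips_11_576 := by decide +kernel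

theorem exc_11_576_eq :
    (List.range 3195).filter (excOK 10200960 770 23 false fun _ => true) = exc_11_576 := by decide +kernel

theorem dead_11_576 : (cQuots.all fun m => !search trips_11_576 exc_11_576 11 (46 * m)) = true := by
  decide +kernel

/-- The candidates with automiser order 11 and regular part 1680. -/
def trips_11_1680 : List ((ℕ × Bool) × ℤ) := []

/-- The exceptional degrees with regular part 1680. -/
def exc_11_1680 : List ℕ :=
    [2, 3, 4, 6, 8, 11, 12, 22, 24, 33, 44, 66, 88, 132, 264]

theorem trips_11_1680_eq : congTrips 264 = trips_11_1680 := by decide +kernel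

theorem exc_11_1680_eq :
    (List.range 3195).filter (excOK 10200960 264 23 false fun _ => true) = exc_11_1680 := by decide +kernel

theorem dead_11_1680 : (cQuots.all fun m => !search trips_11_1680 exc_11_1680 11 (46 * m)) = true := by
  decide +kernel

/-- The candidates with automiser order 22 and regular part 12. -/
def trips_22_12 : List ((ℕ × Bool) × ℤ) :=
    [((70, true), -22), ((231, true), 139), ((231, true), 47), ((231, true), -45),
     ((231, true), -137), ((231, true), -229), ((1680, true), 1588), ((1680, true), 1496),
     ((1680, true), 1404), ((1680, true), 1312), ((1680, true), 1220), ((1680, true), 1128),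
     ((1680, true), 1036), ((1680, true), 944), ((1680, true), 852), ((1680, true), 760),
     ((1680, true), 668), ((1680, true), 576), ((1680, true), 484), ((1680, true), 392),
     ((1680, true), 300), ((1680, true), 208), ((1680, true), 116), ((1680, true), 24),
     ((1680, true), -68), ((1680, true), -160), ((1680, true), -252), ((1680, true), -344),
     ((1680, true), -436), ((1680, true), -528), ((1680, true), -620), ((1680, true), -712),
     ((1680, true), -804), ((1680, true), -896), ((1680, true), -988), ((1680, true), -1080),
     ((1680, true), -1172), ((1680, true), -1264), ((1680, true), -1356), ((1680, true), -1448),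
     ((1680, true), -1540), ((1680, true), -1632), ((160, false), 68), ((160, false), -24),
     ((160, false), -116), ((528, false), 436), ((528, false), 344), ((528, false), 252),
     ((528, false), 160), ((528, false), 68), ((528, false), -24), ((528, false), -116),
     ((528, false), -208), ((528, false), -300), ((528, false), -392), ((528, false), -484),
     ((1540, false), 1448), ((1540, false), 1356), ((1540, false), 1264), ((1540, false), 1172),
     ((1540, false), 1080), ((1540, false), 988), ((1540, false), 896), ((1540, false), 804),
     ((1540, false), 712), ((1540, false), 620), ((1540, false), 528), ((1540, false), 436),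
     ((1540, false), 344), ((1540, false), 252), ((1540, false), 160), ((1540, false), 68),
     ((1540, false), -24), ((1540, false), -116), ((1540, false), -208), ((1540, false), -300),
     ((1540, false), -392), ((1540, false), -484), ((1540, false), -576), ((1540, false), -668),
     ((1540, false), -760), ((1540, false), -852), ((1540, false), -944), ((1540, false), -1036),
     ((1540, false), -1128), ((1540, false), -1220), ((1540, false), -1312),
     ((1540, false), -1404), ((1540, false), -1496)]

/-- The exceptional degrees with regular part 12. -/
def exc_22_12 : List ℕ :=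
    [2, 3, 4, 5, 6, 7, 8, 10, 11, 12, 14, 15, 16, 20, 21, 22, 24, 28, 30, 32, 33, 35, 40, 42, 44,
     48, 55, 56, 60, 66, 70, 77, 80, 84, 88, 96, 105, 110, 112, 120, 132, 140, 154, 160, 165, 168,
     176, 210, 220, 224, 231, 240, 264, 280, 308, 330, 336, 352, 385, 420, 440, 462, 480, 528,
     560, 616, 660, 672, 770, 840, 880, 924, 1056, 1120, 1155, 1232, 1320, 1540, 1680, 1760, 1848,
     2310, 2464, 2640, 3080]

theorem trips_22_12_eq : congTrips 36960 = trips_22_12 := by decide +kernel

theorem exc_22_12_eq :
    (List.range 3195).filter (excOK 10200960 36960 23 false fun _ => true) = exc_22_12 := by decide +kernel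

theorem dead_22_12 : (cQuots.all fun m => !search trips_22_12 exc_22_12 22 (46 * m)) = true := by
  decide +kernel

/-- The candidates with automiser order 22 and regular part 288. -/
def trips_22_288 : List ((ℕ × Bool) × ℤ) :=
    [((70, true), -22), ((1540, false), 1448), ((1540, false), 1356), ((1540, false), 1264),
     ((1540, false), 1172), ((1540, false), 1080), ((1540, false), 988), ((1540, false), 896),
     ((1540, false), 804), ((1540, false), 712), ((1540, false), 620), ((1540, false), 528),
     ((1540, false), 436), ((1540, false), 344), ((1540, false), 252), ((1540, false), 160),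
     ((1540, false), 68), ((1540, false), -24), ((1540, false), -116), ((1540, false), -208),
     ((1540, false), -300), ((1540, false), -392), ((1540, false), -484), ((1540, false), -576),
     ((1540, false), -668), ((1540, false), -760), ((1540, false), -852), ((1540, false), -944),
     ((1540, false), -1036), ((1540, false), -1128), ((1540, false), -1220),
     ((1540, false), -1312), ((1540, false), -1404), ((1540, false), -1496)]

/-- The exceptional degrees with regular part 288. -/
def exc_22_288 : List ℕ :=
    [2, 4, 5, 7, 10, 11, 14, 20, 22, 28, 35, 44, 55, 70, 77, 110, 140, 154, 220, 308, 385, 770,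
     1540]

theorem trips_22_288_eq : congTrips 1540 = trips_22_288 := by decide +kernel

theorem exc_22_288_eq :
    (List.range 3195).filter (excOK 10200960 1540 23 false fun _ => true) = exc_22_288 := by decide +kernel

theorem dead_22_288 : (cQuots.all fun m => !search trips_22_288 exc_22_288 22 (46 * m)) = true := by
  decide +kernel

/-- The candidates with automiser order 22 and regular part 840. -/
def trips_22_840 : List ((ℕ × Bool) × ℤ) :=
    [((528, false), 436), ((528, false), 344), ((528, false), 252), ((528, false), 160),
     ((528, false), 68), ((528, false), -24), ((528, false), -116), ((528, false), -208),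
     ((528, false), -300), ((528, false), -392), ((528, false), -484)]

/-- The exceptional degrees with regular part 840. -/
def exc_22_840 : List ℕ :=
    [2, 3, 4, 6, 8, 11, 12, 16, 22, 24, 33, 44, 48, 66, 88, 132, 176, 264, 528]

theorem trips_22_840_eq : congTrips 528 = trips_22_840 := by decide +kernel

theorem exc_22_840_eq :
    (List.range 3195).filter (excOK 10200960 528 23 false fun _ => true) = exc_22_840 := by decide +kernel

theorem dead_22_840 : (cQuots.all fun m => !search trips_22_840 exc_22_840 22 (46 * m)) = true := by
  decide +kernel

end CfsgLib.Recog.OrderM23.Twentythree
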